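import Groth.Agent.ComodLib.Trig
import Groth.Agent.ComodLib.Coalg
import Mathlib.RingTheory.Coalgebra.GroupLike
import Mathlib.RingTheory.Bialgebra.Hom
import Groth.Prelude.Def_ComodSub

/-!
# Characters of subgroups of trigonalizable groups extend
-/

set_option linter.unusedSectionVars false

universe u

open TensorProduct

namespace Groth.Agent.AGF27.CharLift

open Groth.Agent.ComodLib

variable {k : Type u} [Field k] {A B : Type u} [CommRing A] [Bialgebra k A] [CommRing B] [Bialgebra k B]

/-- A character of a closed submonoid of a trigonalizable monoid is the restriction of a character. -/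
theorem exists_groupLike_lift (hT : HopfRep.IsTrigonalizable k A) (π : A →ₐc[k] B) (hπ : Function.Surjective π)
    {χ : B} (hχ : IsGroupLikeElem k χ) : ∃ b : A, IsGroupLikeElem k b ∧ π b = χ := by
  classical
  obtain ⟨a, ha⟩ := hπ χ
  obtain ⟨W, hWf, haW, hWs⟩ := exists_finite_subcomod_mem (k := k) (C := A) (V := A) a
  letI cW : HopfRep.Comod k A W := ComodSub.Comod.restr (HopfRep.Comod.regular k A) W hWs
  obtain ⟨F, hmono, hsub, htop, hrank⟩ := exists_flag hT W
  set p : W →ₗ[k] B := (π : A →ₗ[k] B) ∘ₗ W.subtype with hp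
  have hex : ∃ i, χ ∈ (F i).map p := ⟨_, ⟨a, haW⟩, htop ▸ Submodule.mem_top, ha⟩
  obtain ⟨j, hj⟩ : ∃ j, Nat.find hex = j + 1 := by
    refine Nat.exists_eq_succ_of_ne_zero fun h0 => ?_
    have h := Nat.find_spec hex
    have hbot : F 0 = ⊥ := Submodule.finrank_eq_zero.mp (hrank 0 (Nat.zero_le _))
    rw [h0, hbot, Submodule.map_bot, Submodule.mem_bot] at h
    exact hχ.ne_zero h
  obtain ⟨w, hw, hwχ⟩ := Nat.find_spec hex
  rw [hj] at hw
  have hjlt : j + 1 ≤ Module.finrank k W := hj ▸ Nat.find_min' hex ⟨⟨a, haW⟩, htop ▸ Submodule.mem_top, ha⟩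
  have hnot : χ ∉ (F j).map p := Nat.find_min hex (by omega)
  have hwj : w ∉ F j := fun h => hnot ⟨w, h, hwχ⟩
  obtain ⟨ψ, hψ1, hψ0⟩ : ∃ ψ : W →ₗ[k] k, ψ w = 1 ∧ ∀ u ∈ F j, ψ u = 0 := by
    obtain ⟨f, hf, hf0⟩ := Submodule.exists_le_ker_of_notMem hwj
    exact ⟨(f w)⁻¹ • f, by simp [inv_mul_cancel₀ hf], fun u hu => by simp [LinearMap.mem_ker.mp (hf0 hu)]⟩
  have hspan : F (j + 1) = F j ⊔ Submodule.span k {w} := by
    refine (Submodule.eq_of_le_of_finrank_le (sup_le (hmono j.le_succ) (by simpa using hw)) ?_).symm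
    rw [hrank _ hjlt]
    have hlt : F j < F j ⊔ Submodule.span k {w} :=
      lt_of_le_of_ne le_sup_left fun h => hwj (by rw [h]; exact Submodule.mem_sup_right (Submodule.mem_span_singleton_self w))
    have := Submodule.finrank_lt_finrank_of_lt hlt
    rw [hrank j (by omega)] at this
    omega
  set b : A := coefFun (C := A) ψ w with hb
  -- the coaction on the top vector
  obtain ⟨z, hz⟩ := hsub (j + 1) w hw
  obtain ⟨v, hv⟩ : ∃ v : F j ⊗[k] A, HopfRep.Comod.coact (k := k) (A := A) w = w ⊗ₜ[k] b + (F j).subtype.rTensor A v := by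
    let r : F (j + 1) →ₗ[k] F j := LinearMap.codRestrict (F j)
      ((F (j + 1)).subtype - (ψ ∘ₗ (F (j + 1)).subtype).smulRight w) fun x => by
        obtain ⟨x, hx⟩ := x
        obtain ⟨u, hu, t, ht, rfl⟩ := Submodule.mem_sup.mp (hspan ▸ hx)
        obtain ⟨c, rfl⟩ := Submodule.mem_span_singleton.mp ht
        simp [hψ0 u hu, hψ1, hu]
    refine ⟨r.rTensor A z, ?_⟩
    rw [hb, coefFun_apply, ← hz]
    clear hz
    induction z using TensorProduct.induction_on with
    | zero => simp
    | add x y hx hy =>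
      simp only [map_add, TensorProduct.tmul_add]
      rw [add_add_add_comm, ← hx, ← hy]
    | tmul x y =>
      simp only [LinearMap.rTensor_tmul, TensorProduct.lid_tmul]
      show (x : W) ⊗ₜ[k] y = w ⊗ₜ[k] (ψ (x : W) • y) + ((x : W) - ψ (x : W) • w) ⊗ₜ[k] y
      rw [TensorProduct.sub_tmul, TensorProduct.smul_tmul, add_sub_cancel]
  have hcoef : ∀ u ∈ F j, coefFun (C := A) ψ u = 0 := by
    intro u hu
    obtain ⟨zu, hzu⟩ := hsub j u hu
    rw [coefFun_apply, ← hzu, ← LinearMap.rTensor_comp_apply,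
      show ψ ∘ₗ (F j).subtype = 0 from LinearMap.ext fun x => hψ0 x x.2, LinearMap.rTensor_zero, LinearMap.zero_apply,
      map_zero]
  have hglb : IsGroupLikeElem k b := by
    refine ⟨(counit_coefFun ψ w).trans hψ1, ?_⟩
    have h := LinearMap.congr_fun (isComodHom_coefFun (C := A) ψ) w
    simp only [LinearMap.comp_apply] at h
    rw [hv, map_add, LinearMap.rTensor_tmul, ← hb, ← LinearMap.rTensor_comp_apply,
      show coefFun (C := A) ψ ∘ₗ (F j).subtype = 0 from LinearMap.ext fun x => hcoef x x.2, LinearMap.rTensor_zero,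
      LinearMap.zero_apply, add_zero] at h
    exact h
  refine ⟨b, hglb, ?_⟩
  -- compare with the coproduct of `χ`
  obtain ⟨f, hf, hf0⟩ := Submodule.exists_le_ker_of_notMem hnot
  have h1 : Coalgebra.comul (R := k) (p w) = p w ⊗ₜ[k] π b +
      TensorProduct.map (p ∘ₗ (F j).subtype) (π : A →ₗ[k] B) v := by
    have h2 : Coalgebra.comul (R := k) (p w) =
        TensorProduct.map p (π : A →ₗ[k] B) (HopfRep.Comod.coact (k := k) (A := A) w) := by
      show Coalgebra.comul (R := k) (π (W.subtype w)) = _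
      rw [← CoalgHomClass.map_comp_comul_apply π (W.subtype w),
        show Coalgebra.comul (R := k) (W.subtype w) = W.subtype.rTensor A (HopfRep.Comod.coact (k := k) (A := A) w) from
          (ComodSub.restr_coact_coe (HopfRep.Comod.regular k A) W hWs w).symm]
      rw [← LinearMap.comp_apply, LinearMap.map_comp_rTensor]
    rw [h2, hv, map_add, TensorProduct.map_tmul,
      ← LinearMap.comp_apply (TensorProduct.map p (π : A →ₗ[k] B)) ((F j).subtype.rTensor A), LinearMap.map_comp_rTensor]
    rfl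
  have h3 := congrArg (fun t => TensorProduct.lid k B (f.rTensor B t)) h1
  rw [show p w = χ from hwχ, hχ.comul_eq_tmul_self] at h3
  have h4 : f.rTensor B (TensorProduct.map (p ∘ₗ (F j).subtype) (π : A →ₗ[k] B) v) = 0 := by
    rw [← LinearMap.comp_apply, LinearMap.rTensor_comp_map,
      show f ∘ₗ p ∘ₗ (F j).subtype = 0 from LinearMap.ext fun x => hf0 ⟨x, x.2, rfl⟩]
    simp
  simp only [map_add, h4, map_zero, add_zero, LinearMap.rTensor_tmul, TensorProduct.lid_tmul] at h3
  exact (smul_right_injective B hf h3).symm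

end Groth.Agent.AGF27.CharLift
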