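import Groth.Agent.AGF27.Hopf
import Groth.Prelude.Def_W4bk4grossh111Obs
import Groth.Prelude.Def_HopfRep
import Mathlib.LinearAlgebra.GeneralLinearGroup.Basic

/-! Rational modules of an affine group scheme over a field as comodules over its functions. -/

universe u

open CategoryTheory AlgebraicGeometry MonoidalCategory CartesianMonoidalCategory MonObj GrpObj TensorProduct
open Groth.Agent.GrpSchLib.Kunneth

namespace Groth.Agent.AGF27

variable {k : Type u} [Field k] {G H : Over (Spec (CommRingCat.of k))} [GrpObj G] [GrpObj H]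
variable {M : Type u} [AddCommGroup M] [Module k M]

section

variable [IsAffine G.left] (m : VecGrp.GMod G M)

/-- The coaction of a rational module. -/
noncomputable def coactOf : M →ₗ[k] M ⊗[k] Fn G :=
  (TensorProduct.comm k (Fn G) M).toLinearMap ∘ₗ
    (m.ρ (Fn G) (univPt G)).toLinearMap.restrictScalars k ∘ₗ TensorProduct.mk k (Fn G) M 1

theorem Wmap_comm {B B' : Type u} [CommRing B] [Algebra k B] [CommRing B'] [Algebra k B'] (φ : B →ₐ[k] B')
    (z : B ⊗[k] M) :
    VecGrp.Wmap φ z = TensorProduct.comm k M B' (φ.toLinearMap.lTensor M (TensorProduct.comm k B M z)) := by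
  induction z using TensorProduct.induction_on with
  | zero => simp
  | tmul b x => simp
  | add p q hp hq => simp only [map_add, hp, hq]

omit [GrpObj G] in
theorem comm_comm' {X Y : Type*} [AddCommMonoid X] [Module k X] [AddCommMonoid Y] [Module k Y] (z : X ⊗[k] Y) :
    TensorProduct.comm k Y X (TensorProduct.comm k X Y z) = z :=
  (TensorProduct.comm k X Y).symm_apply_apply z

theorem ρ_one_tmul {B : Type u} [CommRing B] [Algebra k B] (g : VecGrp.pt k B ⟶ G) (x : M) :
    m.ρ B g ((1 : B) ⊗ₜ[k] x) = TensorProduct.comm k M B ((pullFn g).toLinearMap.lTensor M (coactOf m x)) := by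
  have h := m.naturality (pullFn g) (univPt G) ((1 : Fn G) ⊗ₜ[k] x)
  rw [ptMap_univPt, VecGrp.Wmap_tmul, map_one, Wmap_comm] at h
  exact h.symm

theorem lTensor_pullFn_coact {B : Type u} [CommRing B] [Algebra k B] (g : VecGrp.pt k B ⟶ G) (x : M) :
    (pullFn g).toLinearMap.lTensor M (coactOf m x) = TensorProduct.comm k B M (m.ρ B g ((1 : B) ⊗ₜ[k] x)) := by
  rw [ρ_one_tmul, comm_comm']

theorem lTensor_toPt_coact {B : Type u} [CommRing B] [Algebra k B] (f : Fn G →ₐ[k] B) (x : M) :
    f.toLinearMap.lTensor M (coactOf m x) = TensorProduct.comm k B M (m.ρ B (toPt f) ((1 : B) ⊗ₜ[k] x)) := by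
  rw [← lTensor_pullFn_coact, pullFn_toPt]

open scoped Groth.Agent.AGF27

theorem coassoc_coactOf :
    (TensorProduct.assoc k M (Fn G) (Fn G)).toLinearMap ∘ₗ (coactOf m).rTensor (Fn G) ∘ₗ coactOf m =
      (CoalgebraStruct.comul (R := k) (A := Fn G)).lTensor M ∘ₗ coactOf m := by
  let iL : Fn G →ₐ[k] Fn G ⊗[k] Fn G := Algebra.TensorProduct.includeLeft
  let iR : Fn G →ₐ[k] Fn G ⊗[k] Fn G := Algebra.TensorProduct.includeRight
  refine LinearMap.ext fun x => ?_
  have hlin : ∀ z : M ⊗[k] Fn G, TensorProduct.assoc k M (Fn G) (Fn G) ((coactOf m).rTensor (Fn G) z) =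
      TensorProduct.comm k (Fn G ⊗[k] Fn G) M
        (m.ρ (Fn G ⊗[k] Fn G) (toPt iL) (TensorProduct.comm k M (Fn G ⊗[k] Fn G) (iR.toLinearMap.lTensor M z))) := by
    intro z
    induction z using TensorProduct.induction_on with
    | zero => simp
    | add p q hp hq => simp only [map_add, hp, hq]
    | tmul y a =>
      have e1 : ((iR a) ⊗ₜ[k] y : VecGrp.W k M (Fn G ⊗[k] Fn G)) = iR a • ((1 : Fn G ⊗[k] Fn G) ⊗ₜ[k] y) := by
        rw [TensorProduct.smul_tmul', smul_eq_mul, _root_.mul_one]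
      simp only [LinearMap.lTensor_tmul, AlgHom.toLinearMap_apply, TensorProduct.comm_tmul, LinearMap.rTensor_tmul]
      rw [e1, map_smul, ρ_one_tmul, pullFn_toPt]
      induction coactOf m y using TensorProduct.induction_on with
      | zero => simp
      | add p q hp hq => simp only [TensorProduct.add_tmul, map_add, smul_add, hp, hq]
      | tmul w b => simp [iL, iR, TensorProduct.smul_tmul']
  simp only [LinearMap.comp_apply, LinearEquiv.coe_coe]
  rw [hlin]
  have h2 : iR.toLinearMap.lTensor M (coactOf m x) =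
      TensorProduct.comm k (Fn G ⊗[k] Fn G) M (m.ρ _ (toPt iR) ((1 : Fn G ⊗[k] Fn G) ⊗ₜ[k] x)) :=
    lTensor_toPt_coact m iR x
  rw [h2, comm_comm',
    ← LinearEquiv.mul_apply, ← map_mul]
  show _ = (comulAlg G).toLinearMap.lTensor M (coactOf m x)
  rw [comulAlg, lTensor_pullFn_coact]
  rfl

theorem counit_coactOf :
    (CoalgebraStruct.counit (R := k) (A := Fn G)).lTensor M ∘ₗ coactOf m = (TensorProduct.mk k M k).flip 1 := by
  refine LinearMap.ext fun x => ?_
  show (counitAlg G).toLinearMap.lTensor M (coactOf m x) = x ⊗ₜ[k] (1 : k)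
  rw [counitAlg, lTensor_pullFn_coact, map_one]
  rfl

/-- The comodule of a rational module. -/
@[reducible] noncomputable def comodOf : HopfRep.Comod k (Fn G) M where
  coact := coactOf m
  coassoc := coassoc_coactOf m
  counit_comp := counit_coactOf m

/-- The endomorphism of a rational point. -/
noncomputable def rAct (g : VecGrp.pt k k ⟶ G) : M →ₗ[k] M :=
  (TensorProduct.rid k M).toLinearMap ∘ₗ (pullFn g).toLinearMap.lTensor M ∘ₗ coactOf m

theorem ρ_k_one_tmul (g : VecGrp.pt k k ⟶ G) (x : M) :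
    m.ρ k g ((1 : k) ⊗ₜ[k] x) = (1 : k) ⊗ₜ[k] rAct m g x := by
  rw [ρ_one_tmul, rAct, LinearMap.comp_apply, LinearMap.comp_apply, LinearEquiv.coe_coe]
  induction (pullFn g).toLinearMap.lTensor M (coactOf m x) using TensorProduct.induction_on with
  | zero => simp
  | add p q hp hq => simp only [map_add, TensorProduct.tmul_add, hp, hq]
  | tmul w b => simp [TensorProduct.tmul_smul, TensorProduct.smul_tmul']

theorem rAct_eq_act (g : VecGrp.pt k k ⟶ G) :
    letI := comodOf m
    rAct m g = HopfRep.Comod.act k (Fn G) M (pullFn g) := rfl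

theorem one_tmul_injective : Function.Injective fun x : M => ((1 : k) ⊗ₜ[k] x : k ⊗[k] M) :=
  fun x y h => by simpa using congrArg (TensorProduct.lid k M) h

theorem rAct_mul (g g' : VecGrp.pt k k ⟶ G) (x : M) : rAct m (g * g') x = rAct m g (rAct m g' x) := by
  apply one_tmul_injective (k := k)
  simp only [← ρ_k_one_tmul, map_mul, LinearEquiv.mul_apply]

theorem rAct_one (x : M) : rAct m 1 x = x := by
  apply one_tmul_injective (k := k)
  simp only [← ρ_k_one_tmul, map_one]
  rfl

theorem rAct_inv_rAct (g : VecGrp.pt k k ⟶ G) (x : M) : rAct m g⁻¹ (rAct m g x) = x := by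
  rw [← rAct_mul, inv_mul_cancel, rAct_one]

theorem ρ_fix_iff_rAct (g : VecGrp.pt k k ⟶ G) (x : M) :
    m.ρ k g ((1 : k) ⊗ₜ[k] x) = (1 : k) ⊗ₜ[k] x ↔ rAct m g x = x := by
  rw [ρ_k_one_tmul]
  exact (one_tmul_injective (k := k) (M := M)).eq_iff

variable [IsAffine H.left] (i : H ⟶ G)

theorem ρ_comp_one_tmul {B : Type u} [CommRing B] [Algebra k B] (h : VecGrp.pt k B ⟶ H) (x : M) :
    m.ρ B (h ≫ i) ((1 : B) ⊗ₜ[k] x) =
      TensorProduct.comm k M B ((pullFn h).toLinearMap.lTensor M ((ev i).toLinearMap.lTensor M (coactOf m x))) := by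
  rw [ρ_one_tmul, pullFn_comp, AlgHom.comp_toLinearMap, LinearMap.lTensor_comp_apply]

theorem forall_ρ_eq_smul_iff (x : M) (a : Fn H) :
    (∀ (B : Type u) [CommRing B] [Algebra k B] (h : VecGrp.pt k B ⟶ H),
      m.ρ B (h ≫ i) ((1 : B) ⊗ₜ[k] x) = pullFn h a • ((1 : B) ⊗ₜ[k] x)) ↔
    (ev i).toLinearMap.lTensor M (coactOf m x) = x ⊗ₜ[k] a := by
  refine ⟨fun h => ?_, fun h B _ _ p => ?_⟩
  · have h1 := h (Fn H) (univPt H)
    rw [ρ_comp_one_tmul, univPt, pullFn_toPt] at h1
    have h2 := congrArg (TensorProduct.comm k (Fn H) M) h1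
    rw [comm_comm', TensorProduct.smul_tmul'] at h2
    simpa using h2
  · rw [ρ_comp_one_tmul, h]
    simp [TensorProduct.smul_tmul']

theorem mem_fixedUnder_iff (x : M) :
    x ∈ m.fixedUnder i ↔ (ev i).toLinearMap.lTensor M (coactOf m x) = x ⊗ₜ[k] (1 : Fn H) := by
  rw [← forall_ρ_eq_smul_iff]
  refine forall₄_congr fun B _ _ p => ?_
  rw [map_one, one_smul]

theorem gmFn_comp {T : Over (Spec (CommRingCat.of k))} (g : T ⟶ H) (χ : H ⟶ Red.Gm (Spec (CommRingCat.of k))) :
    Red.gmFn (g ≫ χ) = ev g (Red.gmFn χ) := rfl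

theorem chiVal_eq (χ : H ⟶ Red.Gm (Spec (CommRingCat.of k))) {B : Type u} [CommRing B] [Algebra k B]
    (h : VecGrp.pt k B ⟶ H) : VecGrp.chiVal χ h = pullFn h (Red.gmFn χ) := rfl

theorem forall_ρ_eq_chiVal_iff (x : M) (χ : H ⟶ Red.Gm (Spec (CommRingCat.of k))) :
    (∀ (B : Type u) [CommRing B] [Algebra k B] (h : VecGrp.pt k B ⟶ H),
      m.ρ B (h ≫ i) ((1 : B) ⊗ₜ[k] x) = VecGrp.chiVal χ h • ((1 : B) ⊗ₜ[k] x)) ↔
    (ev i).toLinearMap.lTensor M (coactOf m x) = x ⊗ₜ[k] Red.gmFn χ := by
  rw [← forall_ρ_eq_smul_iff]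
  rfl

theorem baseChange_eq_range {B : Type u} [CommRing B] [Algebra k B] (W : Submodule k M) :
    ∀ z : B ⊗[k] M, z ∈ W.baseChange B ↔ TensorProduct.comm k B M z ∈ LinearMap.range (W.subtype.rTensor B) := by
  intro z
  rw [Submodule.baseChange_eq_span]
  constructor
  · intro hz
    induction hz using Submodule.span_induction with
    | mem w hw =>
      obtain ⟨y, hy, rfl⟩ := hw
      exact ⟨⟨y, hy⟩ ⊗ₜ[k] 1, by simp⟩
    | zero => simp
    | add p q _ _ hp hq => rw [map_add]; exact add_mem hp hq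
    | smul b p _ hp =>
      obtain ⟨w, hw⟩ := hp
      refine ⟨(LinearMap.mulLeft k b).lTensor W w, ?_⟩
      have e : ∀ q : B ⊗[k] M, TensorProduct.comm k B M (b • q) =
          (LinearMap.mulLeft k b).lTensor M (TensorProduct.comm k B M q) := by
        intro q
        induction q using TensorProduct.induction_on with
        | zero => simp
        | tmul c y => simp [TensorProduct.smul_tmul']
        | add q1 q2 h1 h2 => simp only [smul_add, map_add, h1, h2]
      rw [e, ← hw, ← LinearMap.comp_apply, ← LinearMap.comp_apply, LinearMap.rTensor_comp_lTensor,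
        LinearMap.lTensor_comp_rTensor]
  · rintro ⟨w, hw⟩
    rw [show z = TensorProduct.comm k M B (TensorProduct.comm k B M z) by simp, ← hw]
    clear hw
    induction w using TensorProduct.induction_on with
    | zero => simp
    | add p q hp hq => simp only [map_add]; exact add_mem hp hq
    | tmul y b =>
      rw [LinearMap.rTensor_tmul, TensorProduct.comm_tmul,
        show (b ⊗ₜ[k] (W.subtype y) : B ⊗[k] M) = b • ((1 : B) ⊗ₜ[k] (y : M)) by
          rw [TensorProduct.smul_tmul', smul_eq_mul, _root_.mul_one]; rfl]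
      exact Submodule.smul_mem _ _ (Submodule.subset_span ⟨y, y.2, rfl⟩)

theorem isStable_iff (W : Submodule k M) :
    m.IsStable i W ↔ ∀ x ∈ W, (ev i).toLinearMap.lTensor M (coactOf m x) ∈ LinearMap.range (W.subtype.rTensor (Fn H)) := by
  refine ⟨fun h x hx => ?_, fun h B _ _ p x hx => ?_⟩
  · have h1 := (baseChange_eq_range W _).1 (h (Fn H) (univPt H) x hx)
    rwa [ρ_comp_one_tmul, univPt, pullFn_toPt, AlgHom.toLinearMap_id, LinearMap.lTensor_id, LinearMap.id_apply,
      comm_comm'] at h1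
  · rw [baseChange_eq_range, ρ_comp_one_tmul, comm_comm']
    obtain ⟨w, hw⟩ := h x hx
    refine ⟨(pullFn p).toLinearMap.lTensor W w, ?_⟩
    rw [← hw, ← LinearMap.comp_apply, ← LinearMap.comp_apply, LinearMap.rTensor_comp_lTensor,
      LinearMap.lTensor_comp_rTensor]

end

theorem isStable_id_iff [IsAffine G.left] (m : VecGrp.GMod G M) (W : Submodule k M) :
    m.IsStable (𝟙 G) W ↔ (letI := comodOf m; HopfRep.IsSubcomod (k := k) (A := Fn G) W) := by
  rw [isStable_iff]
  refine forall₂_congr fun x _ => ?_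
  have : (ev (𝟙 G)).toLinearMap.lTensor M (coactOf m x) = coactOf m x := by
    have e : (ev (𝟙 G)).toLinearMap = LinearMap.id := LinearMap.ext fun f => ev_id f
    rw [e, LinearMap.lTensor_id, LinearMap.id_apply]
  rw [this]
  rfl

end Groth.Agent.AGF27
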