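import Groth.Agent.AGF27.Translate

/-! Finitely many invariant functions detect the observable hull and separate cosets. -/

universe u

open CategoryTheory AlgebraicGeometry MonoidalCategory CartesianMonoidalCategory MonObj GrpObj TensorProduct
open Groth.Agent.GrpSchLib.Kunneth
open scoped Groth.Agent.AGF27

namespace Groth.Agent.AGF27

theorem exists_finset_span_eq {R : Type*} [CommRing R] [IsNoetherianRing R] (S : Set R) :
    ∃ s : Finset R, (s : Set R) ⊆ S ∧ Ideal.span (s : Set R) = Ideal.span S := by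
  classical
  obtain ⟨t, ht⟩ := (IsNoetherian.noetherian (Ideal.span S) : (Ideal.span S).FG)
  have : ∀ x ∈ t, ∃ s : Finset R, (s : Set R) ⊆ S ∧ x ∈ Ideal.span (s : Set R) := fun x hx =>
    Submodule.mem_span_finite_of_mem_span (ht.le (Submodule.subset_span hx))
  choose! s hsS hxs using this
  refine ⟨t.biUnion s, ?_, le_antisymm (Ideal.span_mono ?_) ?_⟩
  · simpa [Set.iUnion_subset_iff] using hsS
  · simpa [Set.iUnion_subset_iff] using hsS
  · rw [← ht]
    exact Submodule.span_le.2 fun x hx => Ideal.span_mono (Finset.coe_subset.2 (Finset.subset_biUnion_of_mem s hx)) (hxs x hx)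

variable {k : Type u} [Field k] {G H : Over (Spec (CommRingCat.of k))} [GrpObj G] [IsAffine G.left]
  [LocallyOfFiniteType G.hom]

/-- Finitely many members of a set of functions detect which rational points fix all of them. -/
theorem exists_finset_fix (S : Set (Fn G)) :
    ∃ s : Finset (Fn G), (s : Set (Fn G)) ⊆ S ∧
      ∀ g : VecGrp.pt k k ⟶ G, (∀ f ∈ s, AGF.IsRTransInv g f) → ∀ f ∈ S, AGF.IsRTransInv g f := by
  classical
  haveI : IsNoetherianRing (Fn G ⊗[k] Fn G) := by
    haveI : Algebra.FiniteType k (Fn G ⊗[k] Fn G) :=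
      Algebra.FiniteType.trans (S := Fn G) inferInstance inferInstance
    exact Algebra.FiniteType.isNoetherianRing k _
  let e : Fn G → Fn G ⊗[k] Fn G := fun f => comulAlg G f - f ⊗ₜ[k] 1
  obtain ⟨t, htS, ht⟩ := exists_finset_span_eq (e '' S)
  obtain ⟨s, hsS, rfl⟩ := Finset.subset_set_image_iff.1 htS
  refine ⟨s, hsS, fun g hg f hf => ?_⟩
  let ψ : Fn G ⊗[k] Fn G →ₐ[k] Fn G := Algebra.TensorProduct.lift (AlgHom.id k (Fn G))
    ((Algebra.ofId k (Fn G)).comp (pullFn g)) fun _ _ => Commute.all _ _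
  have hψ : ∀ y, ψ (e y) = rAct (regRep G) g y - y := by
    intro y
    simp only [e, map_sub]
    congr 1
    · rw [rAct, LinearMap.comp_apply, LinearMap.comp_apply, coactOf_regRep_apply]
      induction comulAlg G y using TensorProduct.induction_on with
      | zero => simp
      | add p q hp hq => simp only [map_add, hp, hq]
      | tmul a b => simp [ψ, Algebra.smul_def, mul_comm]
    · simp [ψ]
  have hk : Ideal.span ((s.image e : Finset _) : Set (Fn G ⊗[k] Fn G)) ≤ RingHom.ker ψ.toRingHom := by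
    refine Ideal.span_le.2 ?_
    intro z hz
    obtain ⟨y, hy, rfl⟩ := Finset.mem_image.1 hz
    show ψ (e y) = 0
    rw [hψ, sub_eq_zero, ← isRTransInv_pt_iff]
    exact hg y hy
  have : ψ (e f) = 0 := hk (ht ▸ Ideal.subset_span ⟨f, hf, rfl⟩)
  rwa [hψ, sub_eq_zero, ← isRTransInv_pt_iff] at this

/-- Finitely many members of a set of functions separate what all of them separate. -/
theorem exists_finset_separate (S : Set (Fn G)) :
    ∃ s : Finset (Fn G), (s : Set (Fn G)) ⊆ S ∧ ∀ g g' : VecGrp.pt k k ⟶ G,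
      (∀ f ∈ s, pullFn g f = pullFn g' f) → ∀ f ∈ S, pullFn g f = pullFn g' f := by
  classical
  haveI : IsNoetherianRing (Fn G ⊗[k] Fn G) := by
    haveI : Algebra.FiniteType k (Fn G ⊗[k] Fn G) :=
      Algebra.FiniteType.trans (S := Fn G) inferInstance inferInstance
    exact Algebra.FiniteType.isNoetherianRing k _
  let e : Fn G → Fn G ⊗[k] Fn G := fun f => f ⊗ₜ[k] 1 - (1 : Fn G) ⊗ₜ[k] f
  obtain ⟨t, htS, ht⟩ := exists_finset_span_eq (e '' S)
  obtain ⟨s, hsS, rfl⟩ := Finset.subset_set_image_iff.1 htS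
  refine ⟨s, hsS, fun g g' hg f hf => ?_⟩
  let ψ : Fn G ⊗[k] Fn G →ₐ[k] k := Algebra.TensorProduct.lift (pullFn g) (pullFn g') fun _ _ => Commute.all _ _
  have hψ : ∀ y, ψ (e y) = pullFn g y - pullFn g' y := fun y => by simp [ψ, e]
  have hk : Ideal.span ((s.image e : Finset _) : Set (Fn G ⊗[k] Fn G)) ≤ RingHom.ker ψ.toRingHom := by
    refine Ideal.span_le.2 ?_
    intro z hz
    obtain ⟨y, hy, rfl⟩ := Finset.mem_image.1 hz
    show ψ (e y) = 0
    rw [hψ, hg y hy, sub_self]
  have : ψ (e f) = 0 := hk (ht ▸ Ideal.subset_span ⟨f, hf, rfl⟩)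
  rwa [hψ, sub_eq_zero] at this

end Groth.Agent.AGF27
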