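import Groth.Agent.AGF27.ObsScheme
import Groth.Agent.AGF27.Finite

/-! Observable subgroups and rational modules. -/

universe u

open CategoryTheory AlgebraicGeometry MonoidalCategory CartesianMonoidalCategory MonObj GrpObj TensorProduct WithConv
open Groth.Agent.GrpSchLib.Kunneth
open scoped Groth.Agent.AGF27

namespace Groth.Agent.AGF27

variable {k : Type u} [Field k] {G H : Over (Spec (CommRingCat.of k))} [GrpObj G] [GrpObj H]
  [IsAffine G.left] [IsAffine H.left] (i : H ⟶ G)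

/-- A character of the subgroup has a semi-invariant vector in some rational module of the group. -/
def OccursG (χ : H ⟶ Red.Gm (Spec (CommRingCat.of k))) : Prop :=
  ∃ (V : Type u) (_ : AddCommGroup V) (_ : Module k V) (_ : Module.Finite k V) (ρ : VecGrp.GMod G V) (v : V), v ≠ 0 ∧
    ∀ (B : Type u) [CommRing B] [Algebra k B] (h : VecGrp.pt k B ⟶ H),
      ρ.ρ B (h ≫ i) ((1 : B) ⊗ₜ[k] v) = VecGrp.chiVal χ h • ((1 : B) ⊗ₜ[k] v)

variable [IsMonHom i]

theorem occursG_iff (χ : H ⟶ Red.Gm (Spec (CommRingCat.of k))) :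
    OccursG i χ ↔ Obs.Occurs (evBialg i) (Red.gmFn χ) := by
  refine ⟨?_, ?_⟩
  · rintro ⟨V, i1, i2, i3, ρ, v, hv, h⟩
    exact ⟨V, i1, i2, comodOf ρ, i3, v, hv, (forall_ρ_eq_chiVal_iff ρ i v χ).1 h⟩
  · rintro ⟨V, i1, i2, c, i3, v, hv, h⟩
    refine ⟨V, i1, i2, i3, gmodOf c.coact c.coassoc c.counit_comp, v, hv, ?_⟩
    refine (forall_ρ_eq_chiVal_iff (gmodOf c.coact c.coassoc c.counit_comp) i v χ).2 ?_
    rw [coactOf_gmodOf]
    exact h

theorem occursG_congr {χ χ' : H ⟶ Red.Gm (Spec (CommRingCat.of k))} (h : χ = χ') :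
    OccursG i χ ↔ OccursG i χ' := by rw [h]

variable [IsAlgClosed k] [Smooth G.hom] [Smooth H.hom] [IsClosedImmersion i.left]

/-- A vector fixed by all rational points of a smooth subgroup is invariant. -/
theorem mem_fixedUnder_of_forall_pt {M : Type u} [AddCommGroup M] [Module k M] (m : VecGrp.GMod G M) {x : M}
    (h : ∀ p : VecGrp.pt k k ⟶ H, m.ρ k (p ≫ i) ((1 : k) ⊗ₜ[k] x) = (1 : k) ⊗ₜ[k] x) : x ∈ m.fixedUnder i := by
  haveI := isReduced_fn (G := H)
  rw [mem_fixedUnder_iff]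
  refine sub_eq_zero.mp (Groth.Agent.ComodLib.eq_zero_of_forall_pt (k := k) (A := Fn H) fun p => ?_)
  rw [map_sub, Groth.Agent.ComodLib.slice_tmul, show p.toLinearMap (1 : Fn H) = 1 from map_one p, one_smul, sub_eq_zero,
    ← pullFn_toPt (X := H) p, Groth.Agent.ComodLib.slice_lTensor, ← AlgHom.comp_toLinearMap, ← pullFn_comp]
  exact (ρ_fix_iff_rAct m _ x).1 (h (toPt p))

/-- Observable subgroups are exactly the stabilisers of vectors. -/
theorem isObservableIn_iff_stab :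
    AGF.IsObservableIn k i ↔ ∃ (V : Type u) (_ : AddCommGroup V) (_ : Module k V) (_ : Module.Finite k V)
      (ρ : VecGrp.GMod G V) (v : V), AGF.IsStabOnPts k i ρ v := by
  haveI := isReduced_fn (G := G)
  haveI := isReduced_fn (G := H)
  rw [isObservableIn_iff_isObs, Obs.isObs_iff_isStabVec (evBialg i) (ev_surjective i)]
  refine ⟨?_, ?_⟩
  · rintro ⟨V, i1, i2, c, i3, v, hv, hstab⟩
    refine ⟨V, i1, i2, i3, gmodOf c.coact c.coassoc c.counit_comp, v, fun g => ⟨fun h => ?_, ?_⟩⟩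
    · refine (mem_range_res i g).1 (hstab (pullFn g) ?_)
      have h1 := (ρ_fix_iff_rAct _ g v).1 h
      rw [rAct, coactOf_gmodOf] at h1
      exact h1
    · rintro ⟨p, rfl⟩
      have hfix : v ∈ (gmodOf c.coact c.coassoc c.counit_comp).fixedUnder i := by
        rw [mem_fixedUnder_iff, coactOf_gmodOf]; exact hv
      exact hfix k p
  · rintro ⟨V, i1, i2, i3, ρ, v, hst⟩
    have hfix : v ∈ ρ.fixedUnder i := mem_fixedUnder_of_forall_pt i ρ fun p => (hst _).2 ⟨p, rfl⟩
    refine ⟨V, i1, i2, comodOf ρ, i3, v, (mem_fixedUnder_iff ρ i v).1 hfix, fun g hg => ?_⟩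
    rw [← pullFn_toPt (X := G) g] at hg ⊢
    exact (mem_range_res i _).2 ((hst _).1 ((ρ_fix_iff_rAct ρ _ v).2 hg))

theorem isObservableIn_iff_separates :
    AGF.IsObservableIn k i ↔ ∃ s : Finset (Fn G), (∀ f ∈ s, AGF.IsRTransInv i f) ∧
      ∀ g g' : VecGrp.pt k k ⟶ G, (∀ f ∈ s, g.left.appTop f = g'.left.appTop f) →
        ∃ h : VecGrp.pt k k ⟶ H, g' = g * (h ≫ i) := by
  haveI := isReduced_fn (G := G)
  haveI := isReduced_fn (G := H)
  have hval : ∀ (g g' : VecGrp.pt k k ⟶ G) (f : Fn G), g.left.appTop f = g'.left.appTop f ↔ pullFn g f = pullFn g' f :=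
    fun g g' f => ⟨fun h => congrArg (Scheme.ΓSpecIso (CommRingCat.of k)).hom h,
      fun h => (ConcreteCategory.bijective_of_isIso (Scheme.ΓSpecIso (CommRingCat.of k)).hom).1 h⟩
  rw [isObservableIn_iff_isObs]
  refine ⟨fun h => ?_, ?_⟩
  · obtain ⟨s, hs, hsep⟩ := Obs.exists_separating (evBialg i)
    refine ⟨s, fun f hf => (isRTransInv_iff_mem_inv i f).2 (hs hf), fun g g' hgg => ?_⟩
    obtain ⟨x, hx⟩ := h.exists_of_eq (evBialg i) (x := ptConv G g) (y := ptConv G g')
      (hsep _ _ fun f hf => (hval g g' f).1 (hgg f hf))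
    refine ⟨(ptConv H).symm x, (ptConv G).injective ?_⟩
    rw [map_mul, ← res_ptConv, MulEquiv.apply_symm_apply, hx]
  · rintro ⟨s, hs, hsep⟩ x hx
    obtain ⟨h, hh⟩ := hsep 1 ((ptConv G).symm x) fun f hf => by
      rw [hval]
      show (ptConv G (1 : VecGrp.pt k k ⟶ G)).ofConv f = (ptConv G ((ptConv G).symm x)).ofConv f
      rw [map_one, MulEquiv.apply_symm_apply, Obs.one_apply, hx f ((isRTransInv_iff_mem_inv i f).1 (hs f hf))]
    rw [_root_.one_mul] at hh
    have := (mem_range_res i _).2 ⟨h, hh.symm⟩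
    rwa [MulEquiv.apply_symm_apply] at this

/-- Observability is the closure of occurring characters under inverse. -/
theorem isObservableIn_iff_occursG :
    AGF.IsObservableIn k i ↔ ∀ χ : H ⟶ Red.Gm (Spec (CommRingCat.of k)), IsMonHom χ → OccursG i χ → OccursG i χ⁻¹ := by
  haveI := isReduced_fn (G := G)
  haveI := isReduced_fn (G := H)
  rw [isObservableIn_iff_isObs, Obs.isObs_iff_occurs (evBialg i) (ev_surjective i)]
  refine ⟨fun h χ hχ ho => ?_, fun h a ha ho => ?_⟩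
  · haveI := hχ
    rw [occursG_iff, gmFn_inv_eq_antipode]
    exact h _ (isGroupLikeElem_gmFn χ) ((occursG_iff i χ).1 ho)
  · obtain ⟨χ, hχ, rfl⟩ := exists_character_of_isGroupLikeElem ha
    haveI := hχ
    rw [← gmFn_inv_eq_antipode, ← occursG_iff]
    exact h χ hχ ((occursG_iff i χ).2 ho)

end Groth.Agent.AGF27
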