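import Groth.Agent.AGF27.GLTarget
import Groth.Agent.AGF27.ObsGMod
import Groth.Agent.ComodLib.Antipode

/-! Epimorphic subgroups. -/

universe u

open CategoryTheory AlgebraicGeometry MonoidalCategory CartesianMonoidalCategory MonObj GrpObj TensorProduct WithConv
open Groth.Agent.GrpSchLib.Kunneth Groth.Agent.ComodLib
open scoped Groth.Agent.AGF27

namespace Groth.Agent.AGF27

section Alg

variable {k : Type u} [Field k] {A : Type u} [CommRing A] [HopfAlgebra k A]
variable {X : Type} [Fintype X] [DecidableEq X]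

theorem IsComodMatrix.map' {A' : Type u} [CommRing A'] [HopfAlgebra k A'] {M : X → X → A} (h : IsComodMatrix k M)
    (φ : A →ₐc[k] A') : IsComodMatrix k fun a b => φ (M a b) where
  comul a b := by rw [← CoalgHomClass.map_comp_comul_apply φ, h.comul, map_sum]; rfl
  counit a b := by rw [CoalgHomClass.counit_comp_apply, h.counit]

theorem contragredient {M : X → X → A} (h : IsComodMatrix k M) :
    IsComodMatrix k fun a b => HopfAlgebra.antipode k (M b a) where
  comul a b := by rw [comul_antipode, h.comul, map_sum, map_sum]; rfl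
  counit a b := by
    rw [HopfAlgebra.counit_antipode, h.counit]
    simp only [eq_comm]

theorem sum_mul_antipode {M : X → X → A} (h : IsComodMatrix k M) (a b : X) :
    ∑ t, M a t * HopfAlgebra.antipode k (M t b) = if a = b then 1 else 0 := by
  have := HopfAlgebra.mul_antipode_lTensor_comul_apply (R := k) (M a b)
  rw [h.comul, h.counit, map_sum, map_sum] at this
  simpa [apply_ite (algebraMap k A)] using this

theorem sum_antipode_mul {M : X → X → A} (h : IsComodMatrix k M) (a b : X) :
    ∑ t, HopfAlgebra.antipode k (M a t) * M t b = if a = b then 1 else 0 := by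
  have := HopfAlgebra.mul_antipode_rTensor_comul_apply (R := k) (M a b)
  rw [h.comul, h.counit, map_sum, map_sum] at this
  simpa [apply_ite (algebraMap k A)] using this

end Alg

variable {k : Type u} [Field k] {G H : Over (Spec (CommRingCat.of k))} [GrpObj G] [GrpObj H]
  [IsAffine G.left] [IsAffine H.left] (i : H ⟶ G)

/-- Two homomorphisms agreeing on the subgroup. -/
theorem eq_of_fixedUnder_eq [IsMonHom i]
    (hc : ∀ (E : Type u) [AddCommGroup E] [Module k E] (ρ : VecGrp.GMod G E), ρ.fixedUnder i = ρ.fixedUnder (𝟙 G))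
    {G' : Over (Spec (CommRingCat.of k))} [GrpObj G'] [IsAffine G'.left] [Smooth G'.hom]
    (r s : G ⟶ G') [IsMonHom r] [IsMonHom s] (h : i ≫ r = i ≫ s) : r = s := by
  classical
  obtain ⟨gens, hgens⟩ := (inferInstance : Algebra.FiniteType k (Fn G')).out
  obtain ⟨U, hUf, hgU, hU⟩ := exists_finite_subcomod_le (k := k) (C := Fn G') (V := Fn G') gens.finite_toSet
  haveI := hUf
  let cU : HopfRep.Comod k (Fn G') U := ComodSub.Comod.restr (HopfRep.Comod.regular k (Fn G')) U hU
  let b := Module.finBasis k U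
  let M := @matrixOf k _ (Fn G') _ _ _ (Fin (Module.finrank k U)) U _ _ cU b
  have hM : IsComodMatrix k M := @isComodMatrix_matrixOf k _ (Fn G') _ _ _ _ _ _ U _ _ cU b
  let R : Fin (Module.finrank k U) → Fin (Module.finrank k U) → Fn G := fun a c => ev r (M a c)
  let S : Fin (Module.finrank k U) → Fin (Module.finrank k U) → Fn G := fun a c => ev s (M a c)
  have hR : IsComodMatrix k R := IsComodMatrix.map' hM (evBialg r)
  have hS : IsComodMatrix k S := IsComodMatrix.map' hM (evBialg s)
  let S' : Fin (Module.finrank k U) → Fin (Module.finrank k U) → Fn G := fun a c => HopfAlgebra.antipode k (S c a)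
  have hS' : IsComodMatrix k S' := contragredient hS
  let N := mulMatrix R S'
  have hN : IsComodMatrix k N := hR.mulMatrix hS'
  let v : Fin (Module.finrank k U) × Fin (Module.finrank k U) → k := fun p => if p.1 = p.2 then 1 else 0
  have horb : ∀ a c, orbit k N v (a, c) = ∑ t, R a t * HopfAlgebra.antipode k (S t c) := fun a c => by
    simp only [orbit, v, ite_smul, one_smul, zero_smul, Fintype.sum_prod_type]
    simp only [Finset.sum_ite_eq, Finset.mem_univ, if_true]
    rfl
  have hπ : ∀ a t, ev i (R a t) = ev i (S a t) := fun a t => by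
    show ev i (ev r (M a t)) = ev i (ev s (M a t))
    rw [ev_ev, ev_ev, h]
  have hfix : v ∈ (gmodOf (ofMatrix N hN).coact (ofMatrix N hN).coassoc (ofMatrix N hN).counit_comp).fixedUnder i := by
    rw [mem_fixedUnder_iff, coactOf_gmodOf]
    refine (lTensor_ofMatrix_coact_eq_iff N hN v (ev i).toLinearMap 1).mpr fun p => ?_
    obtain ⟨a, c⟩ := p
    show ev i _ = _
    rw [horb, map_sum]
    simp only [map_mul, hπ]
    simp only [← map_mul, ← map_sum, sum_mul_antipode hS]
    by_cases hac : a = c <;> simp [v, hac]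
  rw [hc, mem_fixedUnder_iff, coactOf_gmodOf] at hfix
  have hfix' := (lTensor_ofMatrix_coact_eq_iff N hN v (ev (𝟙 G)).toLinearMap 1).mp hfix
  have h1 : ∀ a c, ∑ t, R a t * HopfAlgebra.antipode k (S t c) = if a = c then 1 else 0 := fun a c => by
    rw [← horb, ← ev_id (orbit k N v (a, c))]
    exact (hfix' (a, c)).trans (by by_cases hac : a = c <;> simp [v, hac])
  have hRS : ∀ a c, R a c = S a c := fun a c => by
    calc R a c = ∑ t, R a t * (if t = c then 1 else 0) := by simp
      _ = ∑ t, ∑ l, R a t * HopfAlgebra.antipode k (S t l) * S l c :=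
          Finset.sum_congr rfl fun t _ => by rw [← sum_antipode_mul hS, Finset.mul_sum]; simp [_root_.mul_assoc]
      _ = ∑ l, (if a = l then 1 else 0) * S l c := by
          rw [Finset.sum_comm]; simp only [← Finset.sum_mul, h1]
      _ = S a c := by simp
  have hev : ev r = ev s := by
    refine AlgHom.ext_of_adjoin_eq_top hgens fun f hf => ?_
    have hf' : f ∈ U := hgU hf
    have hco : Coalgebra.comul (R := k) f =
        ∑ x, (b x : Fn G') ⊗ₜ[k] orbit k M (fun z => b.repr ⟨f, hf'⟩ z) x := by
      letI := cU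
      rw [← show _ = Coalgebra.comul (R := k) f from
        ComodSub.restr_coact_coe (HopfRep.Comod.regular k (Fn G')) U hU ⟨f, hf'⟩]
      show U.subtype.rTensor (Fn G') (cU.coact ⟨f, hf'⟩) = _
      rw [show cU.coact ⟨f, hf'⟩ = _ from coact_eq_orbit b ⟨f, hf'⟩, map_sum]
      rfl
    have hf2 : f = ∑ x, Coalgebra.counit (R := k) (b x : Fn G') • orbit k M (fun z => b.repr ⟨f, hf'⟩ z) x := by
      conv_lhs => rw [← TensorProduct.lid_tmul f (1 : k) |>.trans (one_smul k f),
        ← Coalgebra.rTensor_counit_comul (R := k) f, hco]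
      simp [map_sum]
    rw [hf2]
    simp only [map_sum, map_smul, orbit]
    exact Finset.sum_congr rfl fun x _ => congrArg _ (Finset.sum_congr rfl fun t _ => congrArg _ (hRS x t))
  have hcan := fun g : G ⟶ G' => (canPt_toPt (G := G') g).symm
  rw [hcan r, hcan s, hev]

variable [IsAlgClosed k] [Smooth G.hom] [Smooth H.hom]

theorem fixedUnder_eq_of_const (hb : ∀ f : Fn G, AGF.IsRTransInv i f → ∃ c : k, f = algebraMap k (Fn G) c)
    {E : Type u} [AddCommGroup E] [Module k E] (ρ : VecGrp.GMod G E) : ρ.fixedUnder i = ρ.fixedUnder (𝟙 G) := by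
  haveI : IsClosedImmersion (𝟙 G : G ⟶ G).left := inferInstanceAs (IsClosedImmersion (𝟙 G.left))
  refine le_antisymm (fun x hx => ?_) fun x hx B _ _ h => ?_
  · refine mem_fixedUnder_of_forall_pt (𝟙 G) ρ fun p => ?_
    rw [Category.comp_id, ρ_fix_iff_rAct]
    refine eq_of_forall_dual (k := k) fun φ => ?_
    obtain ⟨c, hc⟩ := hb _ (isRTransInv_coeff ρ φ i hx)
    have h1 : φ x = c := by
      have := congrArg (pullFn (1 : VecGrp.pt k k ⟶ G)) hc
      rwa [pullFn_coeff, rAct_one, AlgHom.commutes] at this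
    rw [← pullFn_coeff, hc, AlgHom.commutes, h1]
    rfl
  · have := hx B (h ≫ i)
    rwa [Category.comp_id] at this

omit [IsAlgClosed k] [Smooth G.hom] [Smooth H.hom] in
theorem const_of_fixedUnder_eq
    (hc : ∀ (E : Type u) [AddCommGroup E] [Module k E] (ρ : VecGrp.GMod G E), ρ.fixedUnder i = ρ.fixedUnder (𝟙 G))
    (f : Fn G) (hf : AGF.IsRTransInv i f) : ∃ c : k, f = algebraMap k (Fn G) c := by
  rw [isRTransInv_iff_mem_fixedUnder, hc, ← isRTransInv_iff_mem_fixedUnder, isRTransInv_iff_forall] at hf
  refine ⟨counitAlg G f, ?_⟩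
  have h1 := hf (Fn G) 1 (univPt G)
  rw [Category.comp_id, _root_.one_mul, univPt, pullFn_toPt, ← toPt_counit, pullFn_toPt] at h1
  exact h1

/-- Homomorphisms determined on the subgroup make its invariants global invariants. -/
theorem fixedUnder_eq_of_hom_ext [IsMonHom i]
    (he : ∀ (G' : Over (Spec (CommRingCat.of k))) [GrpObj G'] [IsAffine G'.left] [Smooth G'.hom]
      (r s : G ⟶ G') [IsMonHom r] [IsMonHom s], i ≫ r = i ≫ s → r = s)
    {E : Type u} [AddCommGroup E] [Module k E] (ρ : VecGrp.GMod G E) : ρ.fixedUnder i = ρ.fixedUnder (𝟙 G) := by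
  classical
  refine le_antisymm (fun x hx => ?_) fun x hx B _ _ h => ?_
  swap
  · have := hx B (h ≫ i)
    rwa [Category.comp_id] at this
  letI := comodOf ρ
  obtain ⟨W, hWf, hxW, hW⟩ := exists_finite_subcomod_mem (k := k) (C := Fn G) (V := E) x
  haveI := hWf
  let cW : HopfRep.Comod k (Fn G) W := ComodSub.Comod.restr (comodOf ρ) W hW
  let b := Module.finBasis k W
  let n := Module.finrank k W
  let M := @matrixOf k _ (Fn G) _ _ _ (Fin n) W _ _ cW b
  have hM : IsComodMatrix k M := @isComodMatrix_matrixOf k _ (Fn G) _ _ _ _ _ _ W _ _ cW b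
  let w : Fin n → k := fun a => b.repr ⟨x, hxW⟩ a
  have hco : coactOf ρ x = ∑ a, (b a : E) ⊗ₜ[k] orbit k M w a := by
    letI := cW
    rw [← show _ = coactOf ρ x from ComodSub.restr_coact_coe (comodOf ρ) W hW ⟨x, hxW⟩]
    show W.subtype.rTensor (Fn G) (cW.coact ⟨x, hxW⟩) = _
    rw [show cW.coact ⟨x, hxW⟩ = _ from coact_eq_orbit b ⟨x, hxW⟩, map_sum]
    rfl
  have hix : ∀ a, ev i (orbit k M w a) = algebraMap k (Fn H) (w a) := by
    intro a
    have h2 : (ev i).toLinearMap.lTensor W (cW.coact ⟨x, hxW⟩) = (⟨x, hxW⟩ : W) ⊗ₜ[k] (1 : Fn H) := by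
      apply Module.Flat.rTensor_preserves_injective_linearMap (M := Fn H) W.subtype W.injective_subtype
      rw [← LinearMap.comp_apply, LinearMap.rTensor_comp_lTensor, ← LinearMap.lTensor_comp_rTensor, LinearMap.comp_apply,
        ComodSub.restr_coact_coe, LinearMap.rTensor_tmul]
      exact (mem_fixedUnder_iff ρ i x).1 hx
    letI := cW
    have := orbit_matrixOf_eq_of_lTensor b (ev i).toLinearMap ⟨x, hxW⟩ 1 h2 a
    rw [Algebra.algebraMap_eq_smul_one]
    exact this
  -- the block matrix and its conjugate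
  let P : Fin (n + 1) → Fin (n + 1) → Fn G := fun a c =>
    Fin.lastCases (Fin.lastCases 1 (fun _ => 0) c) (fun a' => Fin.lastCases 0 (fun c' => M a' c') c) a
  let Q : Fin (n + 1) → Fin (n + 1) → Fn G := fun a c =>
    Fin.lastCases (Fin.lastCases 1 (fun _ => 0) c)
      (fun a' => Fin.lastCases (orbit k M w a' - algebraMap k (Fn G) (w a')) (fun c' => M a' c') c) a
  have hP : IsComodMatrix k P := by
    refine ⟨fun a c => ?_, fun a c => ?_⟩
    · induction a using Fin.lastCases <;> induction c using Fin.lastCases <;>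
        simp [P, Fin.sum_univ_castSucc, hM.comul, Algebra.TensorProduct.one_def]
    · induction a using Fin.lastCases <;> induction c using Fin.lastCases <;>
        simp [P, hM.counit, Fin.castSucc_ne_last, (Fin.castSucc_ne_last _).symm]
  have horb : ∀ a, Coalgebra.comul (R := k) (orbit k M w a) = ∑ t, M a t ⊗ₜ[k] orbit k M w t := fun a => by
    simp only [orbit, map_sum, map_smul, hM.comul, Finset.smul_sum, TensorProduct.tmul_sum, TensorProduct.tmul_smul]
    exact Finset.sum_comm
  have hQ : IsComodMatrix k Q := by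
    refine ⟨fun a c => ?_, fun a c => ?_⟩
    · induction a using Fin.lastCases <;> induction c using Fin.lastCases
      · simp [Q, Fin.sum_univ_castSucc, Algebra.TensorProduct.one_def]
      · simp [Q, Fin.sum_univ_castSucc]
      · rename_i a
        simp only [Q, Fin.sum_univ_castSucc, Fin.lastCases_last, Fin.lastCases_castSucc, map_sub, horb,
          TensorProduct.tmul_sub, Finset.sum_sub_distrib, TensorProduct.sub_tmul, Bialgebra.comul_algebraMap,
          Algebra.TensorProduct.algebraMap_apply]
        rw [show (∑ t, M a t ⊗ₜ[k] algebraMap k (Fn G) (w t)) = orbit k M w a ⊗ₜ[k] (1 : Fn G) by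
          rw [orbit, TensorProduct.sum_tmul]
          exact Finset.sum_congr rfl fun t _ => by rw [Algebra.algebraMap_eq_smul_one, TensorProduct.smul_tmul]]
        abel
      · simp [Q, Fin.sum_univ_castSucc, hM.comul]
    · induction a using Fin.lastCases <;> induction c using Fin.lastCases <;>
        simp [Q, hM.counit, orbit, map_sum, Fin.castSucc_ne_last, (Fin.castSucc_ne_last _).symm]
  have hPr := isRepMatrix_of_isComodMatrix hP
  have hQr := isRepMatrix_of_isComodMatrix hQ
  haveI := hPr.isMonHom_hom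
  haveI := hQr.isMonHom_hom
  haveI := isAffine_GLn (k := k) (n + 1)
  haveI := smooth_GLn (k := k) (n + 1)
  have hiPQ : i ≫ hPr.hom = i ≫ hQr.hom := by
    rw [IsRepMatrix.hom, IsRepMatrix.hom, comp_matPt, comp_matPt]
    refine matPt_congr (Matrix.ext fun a c => ?_)
    induction a using Fin.lastCases <;> induction c using Fin.lastCases <;> simp [P, Q, hix]
  have hPQ := matPt_injective (he _ hPr.hom hQr.hom hiPQ)
  have h3 : ∀ a, orbit k M w a = algebraMap k (Fn G) (w a) := fun a => by
    have := congrFun (congrFun hPQ (Fin.castSucc a)) (Fin.last n)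
    simp [P, Q] at this
    exact (sub_eq_zero.mp this.symm)
  rw [mem_fixedUnder_iff, show (ev (𝟙 G)).toLinearMap = LinearMap.id from LinearMap.ext fun f => ev_id f,
    LinearMap.lTensor_id, LinearMap.id_apply, hco]
  simp only [h3, Algebra.algebraMap_eq_smul_one, TensorProduct.tmul_smul, TensorProduct.smul_tmul', ← TensorProduct.sum_tmul]
  congr 1
  have := congrArg Subtype.val (b.sum_repr ⟨x, hxW⟩)
  rw [Submodule.coe_sum] at this
  exact this

theorem epimorphic_tfae [IsMonHom i] [IsClosedImmersion i.left] :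
    List.TFAE [
      ∀ f : Fn G, AGF.IsRTransInv i f → ∃ c : k, f = algebraMap k (Fn G) c,
      ∀ (E : Type u) [AddCommGroup E] [Module k E] (ρ : VecGrp.GMod G E), ρ.fixedUnder i = ρ.fixedUnder (𝟙 G),
      ∀ (G' : Over (Spec (CommRingCat.of k))) [GrpObj G'] [IsAffine G'.left] [Smooth G'.hom]
        (r s : G ⟶ G') [IsMonHom r] [IsMonHom s], i ≫ r = i ≫ s → r = s] := by
  tfae_have 1 → 2 := fun h E _ _ ρ => fixedUnder_eq_of_const i h ρ
  tfae_have 2 → 1 := const_of_fixedUnder_eq i
  tfae_have 2 → 3 := fun h G' _ _ _ r s _ _ hrs => eq_of_fixedUnder_eq i h r s hrs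
  tfae_have 3 → 2 := fun h E _ _ ρ => fixedUnder_eq_of_hom_ext i h ρ
  tfae_finish

end Groth.Agent.AGF27
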