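import Groth.Agent.AGF27.ObsVec
import Groth.Agent.ComodLib.Minors

/-!
# Comodules of an observable subgroup extend

`π : A → B` is a surjection of Hopf algebras.  Every finite comodule of `B`, twisted by a group-like element `χ`
which occurs, embeds in the restriction of a comodule of `A`.
-/

universe u

open TensorProduct WithConv

namespace Groth.Agent.AGF27.Obs

open Groth.Agent.ComodLib

variable {k : Type u} [Field k] {A B : Type u} [CommRing A] [HopfAlgebra k A] [CommRing B] [HopfAlgebra k B]
  (π : A →ₐc[k] B)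

/-- The block matrix with the square block `P` and a last entry `1`. -/
def extBlock {R : Type*} [CommRing R] {d : ℕ} (P : Matrix (Fin d) (Fin d) R) : Matrix (Fin (d + 1)) (Fin (d + 1)) R :=
  Matrix.of fun a b => Fin.lastCases (Fin.lastCases 1 (fun _ => 0) b) (fun a' => Fin.lastCases 0 (fun b' => P a' b') b) a

theorem det_extBlock {R : Type*} [CommRing R] {d : ℕ} (P : Matrix (Fin d) (Fin d) R) : (extBlock P).det = P.det := by
  rw [Matrix.det_succ_row _ (Fin.last d), Finset.sum_eq_single (Fin.last d)]
  · have h : (extBlock P).submatrix (Fin.last d).succAbove (Fin.last d).succAbove = P := by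
      ext a b
      simp [extBlock, Fin.succAbove_last]
    rw [h]
    simp [extBlock, ← two_mul]
  · intro b _ hb
    obtain ⟨b', rfl⟩ := Fin.exists_castSucc_eq.mpr hb
    simp [extBlock]
  · simp

theorem minor_transform {d e : ℕ} (M : Fin d ⊕ Fin e → Fin d ⊕ Fin e → A)
    (hblock : ∀ r m, π (M (Sum.inr r) (Sum.inl m)) = 0) (x : Fin d ⊕ Fin e) (i : Fin (d + 1) → Fin d ⊕ Fin e) :
    π (orbit k (powMatrix M (d + 1)) (minorVec k (Fin.snoc Sum.inl x)) i) =
      (Matrix.of fun a b : Fin d => π (M (Sum.inl a) (Sum.inl b))).det *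
        ∑ y, minorVec k (Fin.snoc Sum.inl y) i • π (M y x) := by
  classical
  let P : Matrix (Fin d) (Fin d) B := Matrix.of fun a b => π (M (Sum.inl a) (Sum.inl b))
  let G : Matrix (Fin d ⊕ Fin e) (Fin d ⊕ Fin e) B := (Matrix.of M).map π
  let ι : Fin (d + 1) → Fin d ⊕ Fin e := Fin.snoc Sum.inl x
  have h1 : π (orbit k (powMatrix M (d + 1)) (minorVec k ι) i) = (G.submatrix i ι).det := by
    rw [orbit_powMatrix_minorVec, show π (Matrix.det _) = (π : A →ₐ[k] B) (Matrix.det _) from rfl, AlgHom.map_det]
    rfl
  let N : Matrix (Fin (d + 1)) (Fin (d + 1)) B := G.submatrix i ι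
  let col : (Fin d ⊕ Fin e) → Fin (d + 1) → B := fun y l => (1 : Matrix (Fin d ⊕ Fin e) (Fin d ⊕ Fin e) B) (i l) y
  have hN : N = N.updateCol (Fin.last d) (∑ y, π (M y x) • col y) := by
    ext l b
    rw [Matrix.updateCol_apply]
    split_ifs with h
    · subst h
      simp [N, G, ι, col, Matrix.one_apply, Finset.sum_apply, mul_comm]
    · rfl
  have hterm : ∀ y, (N.updateCol (Fin.last d) (col y)).det =
      algebraMap k B (minorVec k (Fin.snoc Sum.inl y) i) * P.det := by
    intro y
    have hfac : N.updateCol (Fin.last d) (col y) =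
        (algebraMap k B).mapMatrix ((1 : Matrix (Fin d ⊕ Fin e) (Fin d ⊕ Fin e) k).submatrix i (Fin.snoc Sum.inl y)) *
          extBlock P := by
      ext l b
      rw [Matrix.mul_apply, Fin.sum_univ_castSucc]
      simp only [RingHom.mapMatrix_apply, Matrix.map_apply, Matrix.submatrix_apply, Fin.snoc_castSucc, Fin.snoc_last,
        Matrix.one_apply, apply_ite (algebraMap k B), map_one, map_zero, ite_mul, one_mul, zero_mul]
      refine Fin.lastCases ?_ (fun b' => ?_) b
      · simp [extBlock, col, Matrix.one_apply]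
      · rw [Matrix.updateCol_ne (Fin.castSucc_ne_last b')]
        rcases h : i l with a | r
        · simp [N, G, ι, h, extBlock, P]
        · simp [N, G, ι, h, extBlock, hblock]
    rw [hfac, Matrix.det_mul, det_extBlock, ← RingHom.map_det]
    rfl
  rw [h1, show (G.submatrix i ι).det = N.det from rfl, hN, Finset.mul_sum]
  have hsum : ∀ s : Finset (Fin d ⊕ Fin e), (N.updateCol (Fin.last d) (∑ y ∈ s, π (M y x) • col y)).det =
      ∑ y ∈ s, π (M y x) * (N.updateCol (Fin.last d) (col y)).det := by
    intro s
    induction s using Finset.induction_on with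
    | empty =>
      simp only [Finset.sum_empty]
      exact Matrix.det_eq_zero_of_column_eq_zero (Fin.last d) fun l => by simp
    | insert a s ha ih => rw [Finset.sum_insert ha, Finset.sum_insert ha, Matrix.det_updateCol_add, ih, Matrix.det_updateCol_smul]
  rw [hsum Finset.univ]
  refine Finset.sum_congr rfl fun y _ => ?_
  rw [hterm, Algebra.smul_def]
  show π (M y x) * (_ * P.det) = P.det * _
  ring

theorem minor_snoc_inl {d e : ℕ} (m : Fin d) (i : Fin (d + 1) → Fin d ⊕ Fin e) :
    minorVec k (Fin.snoc Sum.inl (Sum.inl m)) i = 0 :=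
  Matrix.det_zero_of_column_eq (Fin.castSucc_ne_last m) fun l => by
    show (1 : Matrix (Fin d ⊕ Fin e) (Fin d ⊕ Fin e) k) (i l) _ = (1 : Matrix (Fin d ⊕ Fin e) (Fin d ⊕ Fin e) k) (i l) _
    rw [Fin.snoc_castSucc, Fin.snoc_last]

theorem minor_snoc_inr {d e : ℕ} (r : Fin e) (y : Fin d ⊕ Fin e) :
    minorVec k (Fin.snoc Sum.inl y) (Fin.snoc Sum.inl (Sum.inr r)) = if y = Sum.inr r then 1 else 0 := by
  split_ifs with h
  · subst h
    refine minorVec_self fun a b hab => ?_
    induction a using Fin.lastCases <;> induction b using Fin.lastCases <;>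
      simp_all [Fin.snoc_castSucc, Fin.snoc_last]
  · refine Matrix.det_eq_zero_of_row_eq_zero (Fin.last d) fun b => ?_
    induction b using Fin.lastCases <;> simp [Matrix.submatrix_apply, Matrix.one_apply, Ne.symm h]

/-- The map `V → V ⊗ A → V ⊗ B` intertwines the free coactions. -/
theorem rTensor_lTensor_coactAux (V : Type u) [AddCommGroup V] [Module k V] (z : V ⊗[k] A) :
    (π.toLinearMap.lTensor V).rTensor B (π.toLinearMap.lTensor (V ⊗[k] A) (Hoch.Ind.coactAux k A V z)) =
      Hoch.Ind.coactAux k B V (π.toLinearMap.lTensor V z) := by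
  induction z using TensorProduct.induction_on with
  | zero => simp
  | add p q hp hq => simp only [map_add, hp, hq]
  | tmul v a =>
    rw [LinearMap.lTensor_tmul, Hoch.Ind.coactAux_tmul, Hoch.Ind.coactAux_tmul]
    show _ = (TensorProduct.assoc k V B B).symm (v ⊗ₜ[k] Coalgebra.comul (R := k) (π a))
    rw [← CoalgHomClass.map_comp_comul_apply π a]
    induction Coalgebra.comul (R := k) a using TensorProduct.induction_on with
    | zero => simp
    | add p q hp hq => simp only [map_add, TensorProduct.tmul_add, hp, hq]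
    | tmul p q => simp; rfl

/-- A finite comodule of `B`, twisted by an occurring group-like element, embeds in a comodule of `A`. -/
theorem exists_twisted_embedding [Algebra.FiniteType k A] (hπ : Function.Surjective π)
    (V : Type u) [AddCommGroup V] [Module k V] [HopfRep.Comod k B V] [Module.Finite k V] :
    ∃ χ : B, IsGroupLikeElem k χ ∧ Occurs π χ ∧ ∃ (X : Type) (_ : Fintype X) (_ : DecidableEq X) (M : X → X → A),
      IsComodMatrix k M ∧ ∃ φ : V →ₗ[k] X → k, Function.Injective φ ∧
        ∀ (v : V) (x : X), π (orbit k M (φ v) x) =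
          χ * TensorProduct.lid k B ((LinearMap.proj x ∘ₗ φ).rTensor B (HopfRep.Comod.coact (k := k) (A := B) v)) := by
  classical
  let bV := Module.finBasis k V
  have hsurj : Function.Surjective (π.toLinearMap.lTensor V) := LinearMap.lTensor_surjective V hπ
  choose t ht using fun j => hsurj (HopfRep.Comod.coact (k := k) (A := B) (bV j))
  obtain ⟨W, hWf, htW, hW⟩ :=
    exists_finite_subcomod_le (k := k) (C := A) (V := Hoch.Ind k A V) (Set.finite_range t)
  haveI := hWf
  let cW : HopfRep.Comod k A W := ComodSub.Comod.restr (Hoch.Ind.comod k A V) W hW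
  let qA : Hoch.Ind k A V →ₗ[k] V ⊗[k] B := π.toLinearMap.lTensor V
  let q : W →ₗ[k] V ⊗[k] B := qA ∘ₗ W.subtype
  obtain ⟨d, e, b, hbl, hbr, hker⟩ := exists_adapted_basis q
  let M := @matrixOf k _ A _ _ _ (Fin d ⊕ Fin e) W _ _ cW b
  have hM : IsComodMatrix k M := @isComodMatrix_matrixOf k _ A _ _ _ (Fin d ⊕ Fin e) _ _ W _ _ cW b
  -- `q` is equivariant
  let sub : W →ₗ[k] V ⊗[k] A := W.subtype
  have hqeq : ∀ w : W, q.rTensor B (π.toLinearMap.lTensor W (cW.coact w)) = Hoch.Ind.coactAux k B V (q w) := by
    intro w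
    have h : sub.rTensor A (cW.coact w) = Hoch.Ind.coactAux k A V (sub w) :=
      ComodSub.restr_coact_coe (Hoch.Ind.comod k A V) W hW w
    rw [show q = π.toLinearMap.lTensor V ∘ₗ sub from rfl, LinearMap.comp_apply, ← rTensor_lTensor_coactAux, ← h]
    induction cW.coact w using TensorProduct.induction_on with
    | zero => simp only [map_zero]
    | add p r hp hr => simp only [map_add, hp, hr]
    | tmul p r => rfl
  have hexp : ∀ w : W, cW.coact w = ∑ y, b y ⊗ₜ[k] orbit k M (fun z => b.repr w z) y := fun w => by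
    letI := cW
    exact coact_eq_orbit b w
  have hqexp : ∀ w : W, Hoch.Ind.coactAux k B V (q w) =
      ∑ y, q (b y) ⊗ₜ[k] π (orbit k M (fun z => b.repr w z) y) := fun w => by
    rw [← hqeq, hexp]
    simp only [map_sum, LinearMap.lTensor_tmul, LinearMap.rTensor_tmul]
    rfl
  choose φr hφr using hbr
  have hcoef : ∀ (r : Fin e) (F : Fin d ⊕ Fin e → B),
      TensorProduct.lid k B ((φr r).rTensor B (∑ y, q (b y) ⊗ₜ[k] F y)) = F (Sum.inr r) := by
    intro r F
    simp [Fintype.sum_sum_type, hbl, hφr]
  have hblock : ∀ r m, π (M (Sum.inr r) (Sum.inl m)) = 0 := by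
    intro r m
    have h1 := hqexp (b (Sum.inl m))
    rw [hbl, map_zero] at h1
    have h2 := hcoef r fun y => π (orbit k M (fun z => b.repr (b (Sum.inl m)) z) y)
    rw [← h1] at h2
    simp [orbit, Finsupp.single_apply] at h2
    exact h2.symm
  let χ : B := (Matrix.of fun a b' : Fin d => π (M (Sum.inl a) (Sum.inl b'))).det
  have heig : ∀ i, π (orbit k (powMatrix M d) (minorVec k Sum.inl) i) = minorVec k Sum.inl i • χ := by
    intro i
    rw [Algebra.smul_def]
    exact (map_orbit_minorVec M (π : A →ₐ[k] B) i).trans (det_submatrix_inl _ hblock i)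
  have hv1 : minorVec k (Sum.inl : Fin d → Fin d ⊕ Fin e) Sum.inl = 1 := minorVec_self Sum.inl_injective
  obtain ⟨χ', hχ', heig'⟩ := orbit_block hM π hblock
  have hχ : IsGroupLikeElem k χ := by
    have h := (heig Sum.inl).symm.trans (heig' Sum.inl)
    rw [hv1, one_smul, one_smul] at h
    rwa [h]
  -- a lift of the coaction
  let s : V →ₗ[k] W := bV.constr k fun j => ⟨t j, htW (Set.mem_range_self j)⟩
  have hs : ∀ v, q (s v) = HopfRep.Comod.coact (k := k) (A := B) v := by
    intro v
    have : q ∘ₗ s = HopfRep.Comod.coact (k := k) (A := B) := bV.ext fun j => by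
      simp only [LinearMap.comp_apply, s, Module.Basis.constr_basis]
      exact ht j
    exact LinearMap.congr_fun this v
  let c : Fin d ⊕ Fin e → V →ₗ[k] k := fun y => b.coord y ∘ₗ s
  have hstep : ∀ v r, π (orbit k M (fun z => c z v) (Sum.inr r)) =
      TensorProduct.lid k B ((c (Sum.inr r)).rTensor B (HopfRep.Comod.coact (k := k) (A := B) v)) := by
    intro v r
    have h1 := hqexp (s v)
    rw [hs] at h1
    have hcoass : Hoch.Ind.coactAux k B V (HopfRep.Comod.coact (k := k) (A := B) v) =
        (HopfRep.Comod.coact (k := k) (A := B) (V := V)).rTensor B (HopfRep.Comod.coact (k := k) (A := B) v) := by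
      have h := congrArg (TensorProduct.assoc k V B B).symm
        (LinearMap.congr_fun (HopfRep.Comod.coassoc (k := k) (A := B) (V := V)) v)
      simp only [LinearMap.comp_apply, LinearEquiv.coe_coe, LinearEquiv.symm_apply_apply] at h
      exact h.symm
    rw [hcoass] at h1
    have h2 := hcoef r fun y => π (orbit k M (fun z => b.repr (s v) z) y)
    rw [← h1] at h2
    refine Eq.trans ?_ (h2.symm.trans ?_)
    · rfl
    congr 1
    rw [← LinearMap.comp_apply, ← LinearMap.rTensor_comp]
    congr 2
    refine LinearMap.ext fun v' => ?_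
    simp only [LinearMap.comp_apply, c]
    rw [← hs v']
    conv_lhs => rw [← b.sum_repr (s v'), Fintype.sum_sum_type]
    simp [map_sum, hbl, hφr]
  refine ⟨χ, hχ, ?_, (Fin (d + 1) → Fin d ⊕ Fin e), inferInstance, inferInstance, powMatrix M (d + 1), hM.powMatrix _,
    LinearMap.pi (fun i => ∑ y, minorVec k (Fin.snoc Sum.inl y) i • c y), ?_, fun v i => ?_⟩
  · refine ⟨(Fin d → Fin d ⊕ Fin e) → k, inferInstance, inferInstance, ofMatrix _ (hM.powMatrix d), inferInstance,
      minorVec k Sum.inl, fun h => one_ne_zero (hv1.symm.trans (congrFun h Sum.inl)),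
      (lTensor_ofMatrix_coact_eq_iff _ (hM.powMatrix d) _ π.toLinearMap χ).mpr heig⟩
  · refine (injective_iff_map_eq_zero _).mpr fun v hv => ?_
    have hz : ∀ r, c (Sum.inr r) v = 0 := fun r => by
      have := congrFun hv (Fin.snoc Sum.inl (Sum.inr r))
      simpa [minor_snoc_inr, LinearMap.sum_apply] using this
    have hq0 : q (s v) = 0 := by
      rw [← b.sum_repr (s v), map_sum, Fintype.sum_sum_type]
      simp only [map_smul, hbl, smul_zero, Finset.sum_const_zero, zero_add]
      exact Finset.sum_eq_zero fun r _ => by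
        rw [show b.repr (s v) (Sum.inr r) = 0 from hz r, zero_smul]
    rw [hs] at hq0
    have h3 := congrArg (TensorProduct.rid k V) (LinearMap.congr_fun (HopfRep.Comod.counit_comp (k := k) (A := B) (V := V)) v)
    simp only [LinearMap.comp_apply, hq0, map_zero, LinearMap.flip_apply, TensorProduct.mk_apply, TensorProduct.rid_tmul,
      one_smul] at h3
    exact h3.symm
  · have h1 : (LinearMap.pi fun i => ∑ y, minorVec k (Fin.snoc Sum.inl y) i • c y) v =
        ∑ x, c x v • (minorVec k (Fin.snoc Sum.inl x) : (Fin (d + 1) → Fin d ⊕ Fin e) → k) := by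
      funext j
      simp [LinearMap.sum_apply, Finset.sum_apply, mul_comm]
    have h2 : orbit k (powMatrix M (d + 1)) ((LinearMap.pi fun i => ∑ y, minorVec k (Fin.snoc Sum.inl y) i • c y) v) i =
        ∑ x, c x v • orbit k (powMatrix M (d + 1)) (minorVec k (Fin.snoc Sum.inl x)) i := by
      rw [h1]
      simp only [orbit, Finset.sum_apply, Pi.smul_apply, Finset.sum_smul, smul_assoc, Finset.smul_sum]
      exact Finset.sum_comm
    rw [h2, map_sum]
    have h3 : ∀ x, π (c x v • orbit k (powMatrix M (d + 1)) (minorVec k (Fin.snoc Sum.inl x)) i) =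
        χ * ∑ y, minorVec k (Fin.snoc Sum.inl y) i • (c x v • π (M y x)) := by
      intro x
      rw [map_smul, minor_transform π M hblock, ← mul_smul_comm]
      congr 1
      rw [Finset.smul_sum]
      exact Finset.sum_congr rfl fun y _ => smul_comm _ _ _
    simp only [h3, ← Finset.mul_sum]
    congr 1
    rw [Finset.sum_comm]
    have hR : TensorProduct.lid k B ((LinearMap.proj i ∘ₗ LinearMap.pi fun j => ∑ y, minorVec k (Fin.snoc Sum.inl y) j • c y).rTensor B
        (HopfRep.Comod.coact (k := k) (A := B) v)) =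
        ∑ y, minorVec k (Fin.snoc Sum.inl y) i •
          TensorProduct.lid k B ((c y).rTensor B (HopfRep.Comod.coact (k := k) (A := B) v)) := by
      rw [LinearMap.proj_pi]
      induction HopfRep.Comod.coact (k := k) (A := B) v using TensorProduct.induction_on with
      | zero => simp
      | add p r hp hr => simp only [map_add, hp, hr, smul_add, Finset.sum_add_distrib]
      | tmul p r => simp [LinearMap.sum_apply, Finset.sum_smul, smul_smul]
    rw [hR]
    refine Finset.sum_congr rfl fun y _ => ?_
    rcases y with m | r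
    · simp [minor_snoc_inl]
    · rw [← Finset.smul_sum, ← hstep]
      congr 1
      simp [orbit, map_sum, map_smul]

end Groth.Agent.AGF27.Obs
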