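import Groth.Agent.AGF27.ExtendAlg
import Groth.Agent.AGF27.ObsGMod

/-! Extension of rational modules along a closed subgroup. -/

universe u

open CategoryTheory AlgebraicGeometry MonoidalCategory CartesianMonoidalCategory MonObj GrpObj TensorProduct WithConv
open Groth.Agent.GrpSchLib.Kunneth Groth.Agent.ComodLib
open scoped Groth.Agent.AGF27

namespace Groth.Agent.AGF27

variable {k : Type u} [Field k] {G H : Over (Spec (CommRingCat.of k))} [GrpObj G] [GrpObj H]
  [IsAffine G.left] [IsAffine H.left] (i : H ⟶ G)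
  {V W : Type u} [AddCommGroup V] [Module k V] [AddCommGroup W] [Module k W]

theorem baseChange_comm {B : Type u} [CommRing B] [Algebra k B] (φ : V →ₗ[k] W) (z : V ⊗[k] B) :
    φ.baseChange B (TensorProduct.comm k V B z) = TensorProduct.comm k W B (φ.rTensor B z) := by
  induction z using TensorProduct.induction_on with
  | zero => simp
  | add p q hp hq => simp only [map_add, hp, hq]
  | tmul v b => simp

/-- A linear map intertwines the points of the subgroup exactly when it intertwines the coactions. -/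
theorem forall_baseChange_eq_iff (σ : VecGrp.GMod H V) (ρ : VecGrp.GMod G W) (φ : V →ₗ[k] W) :
    (∀ (B : Type u) [CommRing B] [Algebra k B] (h : VecGrp.pt k B ⟶ H) (x : B ⊗[k] V),
      φ.baseChange B (σ.ρ B h x) = ρ.ρ B (h ≫ i) (φ.baseChange B x)) ↔
    ∀ v, φ.rTensor (Fn H) (coactOf σ v) = (ev i).toLinearMap.lTensor W (coactOf ρ (φ v)) := by
  refine ⟨fun h v => ?_, fun h B _ _ p x => ?_⟩
  · have h1 := h (Fn H) (univPt H) ((1 : Fn H) ⊗ₜ[k] v)
    rw [LinearMap.baseChange_tmul, ρ_one_tmul, ρ_comp_one_tmul, baseChange_comm, univPt, pullFn_toPt,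
      AlgHom.toLinearMap_id, LinearMap.lTensor_id, LinearMap.lTensor_id, LinearMap.id_apply, LinearMap.id_apply] at h1
    exact (TensorProduct.comm k W (Fn H)).injective h1
  · induction x using TensorProduct.induction_on with
    | zero => simp
    | add p q hp hq => simp only [map_add, hp, hq]
    | tmul b v =>
      rw [show (b ⊗ₜ[k] v : B ⊗[k] V) = b • ((1 : B) ⊗ₜ[k] v) by
          rw [TensorProduct.smul_tmul', smul_eq_mul, _root_.mul_one]]
      simp only [map_smul, LinearMap.baseChange_tmul]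
      rw [ρ_one_tmul, ρ_comp_one_tmul, baseChange_comm, ← h v]
      congr 2
      rw [← LinearMap.comp_apply, LinearMap.rTensor_comp_lTensor, ← LinearMap.lTensor_comp_rTensor,
        LinearMap.comp_apply]

variable [IsMonHom i] [IsAlgClosed k] [Smooth G.hom] [Smooth H.hom] [IsClosedImmersion i.left]

/-- Modules of an observable subgroup extend. -/
theorem extendsAlong_of_isObservableIn (h : AGF.IsObservableIn k i) [Module.Finite k V] (σ : VecGrp.GMod H V) :
    σ.ExtendsAlong i := by
  classical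
  haveI := isReduced_fn (G := G)
  haveI := isReduced_fn (G := H)
  have hobs := (isObservableIn_iff_isObs i).1 h
  have hπ : Function.Surjective (evBialg i) := ev_surjective i
  letI := comodOf σ
  obtain ⟨χ, hχ, hocc, X, iX, dX, M, hM, φ, hφ, hφeq⟩ := Obs.exists_twisted_embedding (evBialg i) hπ V
  obtain ⟨W', i1, i2, c, i3, w, hw0, hw⟩ := (Obs.isObs_iff_occurs (evBialg i) hπ).1 hobs χ hχ hocc
  let b := Module.finBasis k W'
  let M' := @matrixOf k _ (Fn G) _ _ _ (Fin (Module.finrank k W')) W' _ _ c b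
  have hM' : IsComodMatrix k M' := @isComodMatrix_matrixOf k _ (Fn G) _ _ _ _ _ _ W' _ _ c b
  have hw' : ∀ y, evBialg i (orbit k M' (fun z => b.repr w z) y) =
      b.repr w y • HopfAlgebraStruct.antipode (R := k) χ := fun y => by
    letI := c
    exact orbit_matrixOf_eq_of_lTensor b (evBialg i).toLinearMap w _ hw y
  let N := mulMatrix M M'
  have hN : IsComodMatrix k N := hM.mulMatrix hM'
  let Ψ : V →ₗ[k] (X × Fin (Module.finrank k W')) → k :=
    LinearMap.pi fun p => b.repr w p.2 • (LinearMap.proj p.1 ∘ₗ φ)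
  obtain ⟨y₀, hy₀⟩ : ∃ y, b.repr w y ≠ 0 := by
    by_contra hne
    exact hw0 (b.repr.injective (by ext y; simpa using not_not.1 fun h => hne ⟨y, h⟩))
  refine ⟨(X × Fin (Module.finrank k W')) → k, inferInstance, inferInstance, inferInstance,
    gmodOf (ofMatrix N hN).coact (ofMatrix N hN).coassoc (ofMatrix N hN).counit_comp, Ψ, ?_,
    (forall_baseChange_eq_iff i σ _ Ψ).2 fun v => ?_⟩
  · refine (injective_iff_map_eq_zero Ψ).mpr fun v hv => hφ ?_
    rw [map_zero]
    funext x
    simpa [Ψ, hy₀] using congrFun hv (x, y₀)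
  · rw [coactOf_gmodOf, ofMatrix_coact, map_sum]
    have hΨ : Ψ v = fun j => φ v j.1 * b.repr w j.2 := by funext j; simp [Ψ, mul_comm]
    have key : ∀ z : V ⊗[k] Fn H, Ψ.rTensor (Fn H) z = ∑ p, (Pi.basisFun k _ p) ⊗ₜ[k]
        (b.repr w p.2 • TensorProduct.lid k (Fn H) ((LinearMap.proj p.1 ∘ₗ φ).rTensor (Fn H) z)) := by
      intro z
      induction z using TensorProduct.induction_on with
      | zero => simp
      | add p q hp hq => simp only [map_add, smul_add, TensorProduct.tmul_add, Finset.sum_add_distrib, hp, hq]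
      | tmul v' a =>
        conv_lhs => rw [LinearMap.rTensor_tmul, ← (Pi.basisFun k _).sum_repr (Ψ v'), TensorProduct.sum_tmul]
        refine Finset.sum_congr rfl fun p _ => ?_
        simp [Ψ, TensorProduct.smul_tmul, smul_smul]
    rw [key]
    refine Finset.sum_congr rfl fun p _ => ?_
    rw [LinearMap.lTensor_tmul]
    congr 1
    show _ = evBialg i (orbit k N (Ψ v) p)
    rw [hΨ, orbit_mulMatrix, map_mul, hφeq, hw', mul_smul_comm]
    show _ = b.repr w p.2 • (χ * TensorProduct.lid k (Fn H) ((LinearMap.proj p.1 ∘ₗ φ).rTensor (Fn H) (coactOf σ v)) * _)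
    rw [mul_comm χ, _root_.mul_assoc, hχ.mul_antipode_cancel, _root_.mul_one]

/-- If all modules of a subgroup extend, it is observable. -/
theorem isObservableIn_of_extendsAlong
    (h : ∀ (V : Type u) [AddCommGroup V] [Module k V] [Module.Finite k V] (σ : VecGrp.GMod H V), σ.ExtendsAlong i) :
    AGF.IsObservableIn k i := by
  haveI := isReduced_fn (G := G)
  haveI := isReduced_fn (G := H)
  rw [isObservableIn_iff_isObs, Obs.isObs_iff_occurs (evBialg i) (ev_surjective i)]
  intro a ha _
  have ha' : IsGroupLikeElem k (HopfAlgebraStruct.antipode (R := k) a) := ha.antipode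
  let δ : k →ₗ[k] k ⊗[k] Fn H := LinearMap.toSpanSingleton k _ ((1 : k) ⊗ₜ[k] HopfAlgebraStruct.antipode (R := k) a)
  have hassoc : (TensorProduct.assoc k k (Fn H) (Fn H)).toLinearMap ∘ₗ δ.rTensor (Fn H) ∘ₗ δ =
      (Coalgebra.comul (R := k) (A := Fn H)).lTensor k ∘ₗ δ :=
    LinearMap.ext_ring (by simp [δ, ha'.comul_eq_tmul_self])
  have hcounit : (Coalgebra.counit (R := k) (A := Fn H)).lTensor k ∘ₗ δ = (TensorProduct.mk k k k).flip 1 :=
    LinearMap.ext_ring (by simp [δ, ha'.counit_eq_one])
  obtain ⟨W, i1, i2, i3, ρ, φ, hφ, hφeq⟩ := h k (gmodOf δ hassoc hcounit)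
  refine ⟨W, i1, i2, comodOf ρ, i3, φ 1, fun h0 => one_ne_zero (hφ (h0.trans (map_zero φ).symm)), ?_⟩
  have h1 := (forall_baseChange_eq_iff i _ ρ φ).1 hφeq 1
  rw [coactOf_gmodOf] at h1
  simp [δ] at h1
  exact h1.symm

theorem isObservableIn_iff_forall_extendsAlong :
    AGF.IsObservableIn k i ↔
      ∀ (V : Type u) [AddCommGroup V] [Module k V] [Module.Finite k V] (σ : VecGrp.GMod H V), σ.ExtendsAlong i :=
  ⟨fun h _ _ _ _ σ => extendsAlong_of_isObservableIn i h σ, isObservableIn_of_extendsAlong i⟩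

end Groth.Agent.AGF27
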