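import Groth.Agent.AGF27.Comod
import Mathlib.RingTheory.IntegralClosure.IntegrallyClosed
import Mathlib.RingTheory.Flat.TorsionFree

/-! Invariants of an action by algebra automorphisms. -/

universe u

open CategoryTheory AlgebraicGeometry MonoidalCategory CartesianMonoidalCategory MonObj GrpObj TensorProduct
open Groth.Agent.GrpSchLib.Kunneth

namespace Groth.Agent.AGF27

theorem subring_isIntegrallyClosed {A L : Type*} [CommRing A] [IsDomain A] [IsIntegrallyClosed A] [Field L]
    [Algebra A L] [IsFractionRing A L] (R : Subring A)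
    (hR : ∀ y b : A, b ∈ R → b ≠ 0 → y * b ∈ R → y ∈ R) :
    IsIntegrallyClosed R := by
  refine (isIntegrallyClosed_iff (FractionRing R)).2 fun {x} hx => ?_
  let em : FractionRing R →+* L := IsFractionRing.lift (g := (algebraMap A L).comp R.subtype)
    ((IsFractionRing.injective A L).comp Subtype.val_injective : Function.Injective ((algebraMap A L).comp R.subtype))
  obtain ⟨a, b, hb, rfl⟩ := IsFractionRing.div_surjective (A := R) x
  have hint : _root_.IsIntegral A (em (algebraMap R _ a / algebraMap R _ b)) := by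
    obtain ⟨p, hp, hp0⟩ := hx
    refine ⟨p.map R.subtype, hp.map _, ?_⟩
    have h := congrArg em hp0
    rw [Polynomial.hom_eval₂, map_zero] at h
    rw [Polynomial.eval₂_map]
    rw [show (algebraMap A L).comp R.subtype = em.comp (algebraMap R (FractionRing R)) from
      RingHom.ext fun r => (IsFractionRing.lift_algebraMap (g := (algebraMap A L).comp R.subtype)
        ((IsFractionRing.injective A L).comp Subtype.val_injective) r).symm]
    exact h
  obtain ⟨y, hy⟩ := IsIntegrallyClosed.isIntegral_iff.1 hint
  have hb0 : (b : A) ≠ 0 := fun h => nonZeroDivisors.ne_zero hb (Subtype.ext h)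
  rw [map_div₀, IsFractionRing.lift_algebraMap, IsFractionRing.lift_algebraMap,
    eq_div_iff (by simpa using hb0)] at hy
  have hab : y * (b : A) = a := IsFractionRing.injective A L (by rw [map_mul]; exact hy)
  have hyR : y ∈ R := hR y b b.2 hb0 (hab.symm ▸ a.2)
  refine ⟨⟨y, hyR⟩, ?_⟩
  rw [eq_div_iff (IsFractionRing.to_map_ne_zero_of_mem_nonZeroDivisors hb), ← map_mul]
  exact congrArg _ (Subtype.ext hab)

variable {k : Type u} [Field k] {G H : Over (Spec (CommRingCat.of k))} [GrpObj G] [GrpObj H]
variable {A : Type u} [CommRing A] [Algebra k A] (ρ : VecGrp.GMod G A) (hρ : ρ.IsMult) (i : H ⟶ G)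

include hρ in
/-- An element with an invariant non-zero-divisor multiple is invariant. -/
theorem mem_fixedUnder_of_mul {y b : A} (hb : b ∈ ρ.fixedUnder i) (hreg : IsRegular b) (hyb : y * b ∈ ρ.fixedUnder i) :
    y ∈ ρ.fixedUnder i := by
  intro B _ _ h
  have h1 := hyb B h
  rw [show ((1 : B) ⊗ₜ[k] (y * b) : VecGrp.W k A B) = ((1 : B) ⊗ₜ[k] y) * ((1 : B) ⊗ₜ[k] b) by
    rw [Algebra.TensorProduct.tmul_mul_tmul, _root_.one_mul], (hρ B (h ≫ i)).1, hb B h] at h1
  have hinj : Function.Injective ((LinearMap.mulLeft k b).lTensor B) :=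
    Module.Flat.lTensor_preserves_injective_linearMap (M := B) _ hreg.left
  have e : ∀ z : B ⊗[k] A, z * ((1 : B) ⊗ₜ[k] b) = (LinearMap.mulLeft k b).lTensor B z := by
    intro z
    induction z using TensorProduct.induction_on with
    | zero => simp
    | tmul c a => simp [mul_comm a b]
    | add p q hp hq => simp only [add_mul, map_add, hp, hq]
  exact hinj (by rw [← e, ← e]; exact h1)

theorem subalgebra_isIntegrallyClosed [IsDomain A] [IsIntegrallyClosed A] (R : Subalgebra k A)
    (hR : ∀ y b : A, b ∈ R → b ≠ 0 → y * b ∈ R → y ∈ R) : IsIntegrallyClosed R := by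
  exact subring_isIntegrallyClosed (L := FractionRing A) R.toSubring hR

end Groth.Agent.AGF27
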