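import Groth.Agent.AGF27.Hopf
import Groth.Agent.GrpSchLib.AffineHopf

/-! The Hopf algebra of functions agrees with any Hopf algebra presenting the group scheme. -/

universe u

open CategoryTheory AlgebraicGeometry MonoidalCategory CartesianMonoidalCategory MonObj GrpObj TensorProduct WithConv
open Groth.Agent.GrpSchLib.Kunneth Groth.Agent.GrpSchLib
open scoped Groth.Agent.AGF27

namespace Groth.Agent.AGF27

variable {k : Type u} [Field k] {G : Over (Spec (CommRingCat.of k))} [GrpObj G] [IsAffine G.left]

/-- Functions on the group are the presenting Hopf algebra. -/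
theorem exists_bialgEquiv_fn {A : Type u} [CommRing A] [HopfAlgebra k A]
    (e : Grp.mk (AffineHopf.sp k A) ≅ Grp.mk G) :
    ∃ φ : Fn G ≃ₐc[k] A, toPt (X := G) ((φ : Fn G →ₐc[k] A) : Fn G →ₐ[k] A) = ((Grp.forget _).mapIso e).hom := by
  let E : AffineHopf.sp k A ≅ G := (Grp.forget _).mapIso e
  haveI hE : IsMonHom E.hom := e.hom.hom.isMonHom_hom
  haveI hE' : IsMonHom E.inv := e.inv.hom.isMonHom_hom
  let f : Fn G →ₐ[k] A := pullFn (B := A) E.hom
  have hmul : (Algebra.TensorProduct.map f f).comp (comulAlg G) = (Bialgebra.comulAlgHom k A).comp f := by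
    refine (ptEquiv (X := G)).symm.injective ?_
    show toPt _ = toPt _
    have e1 : Algebra.TensorProduct.map f f = Algebra.TensorProduct.lift
        ((Algebra.TensorProduct.includeLeft : A →ₐ[k] A ⊗[k] A).comp f)
        ((Algebra.TensorProduct.includeRight : A →ₐ[k] A ⊗[k] A).comp f) fun _ _ => Commute.all _ _ := by
      apply Algebra.TensorProduct.ext <;> ext x <;> simp
    rw [e1, toPt_lift, ← ptMap_toPt, ← ptMap_toPt, ← ptMap_toPt, toPt_pullFn]
    show (AffineHopf.spMap (Algebra.TensorProduct.includeLeft : A →ₐ[k] A ⊗[k] A) ≫ E.hom) *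
        (AffineHopf.spMap (Algebra.TensorProduct.includeRight : A →ₐ[k] A ⊗[k] A) ≫ E.hom) =
      AffineHopf.spMap (Bialgebra.comulAlgHom k A) ≫ E.hom
    rw [← MonObj.mul_comp, AffineHopf.spMap_mul]
    congr 2
    ext x
    rw [AlgHom.convMul_apply]
    have key : ∀ z : A ⊗[k] A, Algebra.TensorProduct.lift (Algebra.TensorProduct.includeLeft : A →ₐ[k] A ⊗[k] A)
        (Algebra.TensorProduct.includeRight : A →ₐ[k] A ⊗[k] A) (fun _ _ => Commute.all _ _) z = z := by
      intro z
      induction z using TensorProduct.induction_on with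
      | zero => simp
      | tmul a b => simp
      | add p q hp hq => simp only [map_add, hp, hq]
    exact key _
  have hcounit : (Bialgebra.counitAlgHom k A).comp f = counitAlg G := by
    refine (ptEquiv (X := G)).symm.injective ?_
    show toPt _ = toPt _
    rw [← ptMap_toPt, toPt_pullFn, counitAlg, toPt_pullFn]
    have h1 : (AffineHopf.spMap (Bialgebra.counitAlgHom k A) : AffineHopf.sp k k ⟶ AffineHopf.sp k A) = 1 := by
      have h := AffineHopf.spMap_mul (R := k) (Bialgebra.counitAlgHom k A) (Bialgebra.counitAlgHom k A)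
      have h2 : toConv (Bialgebra.counitAlgHom k A) = (1 : WithConv (A →ₐ[k] k)) :=
        WithConv.ofConv_injective (AlgHom.ext fun _ => by rw [AlgHom.convOne_def]; rfl)
      rw [h2, _root_.one_mul, ← h2, ofConv_toConv] at h
      exact mul_eq_left.mp h
    show AffineHopf.spMap (Bialgebra.counitAlgHom k A) ≫ E.hom = 1
    rw [h1]
    exact MonObj.one_comp E.hom
  have hbij : Function.Bijective f := by
    haveI : IsIso E.hom.left := ((Over.forget _).mapIso E).isIso_hom
    haveI : IsIso E.hom.left.appTop := inferInstanceAs (IsIso (E.hom.left.app ⊤))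
    exact (ConcreteCategory.bijective_of_isIso (Scheme.ΓSpecIso (CommRingCat.of A)).hom).comp
      (ConcreteCategory.bijective_of_isIso E.hom.left.appTop)
  refine ⟨BialgEquiv.ofBijective (BialgHom.ofAlgHom f hcounit hmul) hbij, ?_⟩
  exact toPt_pullFn (X := G) (B := A) E.hom

end Groth.Agent.AGF27
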