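import Groth.Agent.AGF27.ObsVec
import Groth.Agent.ComodLib.Chevalley
import Mathlib.LinearAlgebra.Matrix.ToLinearEquiv

/-!
# Observability and invariant fractions

For a connected group a subgroup is observable exactly when every invariant fraction is a fraction of invariants.
-/

universe u

open TensorProduct WithConv

namespace Groth.Agent.AGF27.Obs

open Groth.Agent.ComodLib

variable {k : Type u} [Field k] {A B : Type u} [CommRing A] [HopfAlgebra k A] [CommRing B] [HopfAlgebra k B]
  (π : A →ₐc[k] B)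

/-- The fraction of two functions is invariant. -/
def FracInv (a b : A) : Prop :=
  ∀ (x : WithConv (A →ₐ[k] k)) (h : WithConv (B →ₐ[k] k)),
    (x * res π h).ofConv a * x.ofConv b = x.ofConv a * (x * res π h).ofConv b

/-- Every invariant fraction is a fraction of invariants. -/
def FracOfInv : Prop :=
  ∀ a b : A, b ≠ 0 → FracInv π a b → ∃ a' b' : A, a' ∈ inv π ∧ b' ∈ inv π ∧ b' ≠ 0 ∧ a * b' = a' * b

variable [IsAlgClosed k] [Algebra.FiniteType k A] [_root_.IsReduced A] [Algebra.FiniteType k B] [_root_.IsReduced B]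
  [IsDomain A]

theorem fracOfInv_of_isObs (hobs : IsObs π) : FracOfInv π := by
  classical
  intro a b hb hab
  have hfrac : ∀ h, rtr (res π h) a * b = a * rtr (res π h) b := fun h =>
    eq_of_forall_apply (k := k) fun x => by simpa only [map_mul, ← mul_apply_rtr] using hab x h
  have hinj : ∀ g : WithConv (A →ₐ[k] k), Function.Injective (rtr g) := fun g z w hzw => by
    have e : ∀ y, rtr g⁻¹ (rtr g y) = y := fun y => by simpa using rtr_rtr_inv g⁻¹ y
    rw [← e z, hzw, e]
  -- denominators
  let J : Ideal A :=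
    { carrier := {c | ∃ a', a * c = a' * b}
      add_mem' := fun {c d} ⟨p, hp⟩ ⟨q, hq⟩ => ⟨p + q, by rw [mul_add, add_mul, hp, hq]⟩
      zero_mem' := ⟨0, by simp⟩
      smul_mem' := fun r c ⟨p, hp⟩ => ⟨r * p, by rw [smul_eq_mul, mul_left_comm, hp, mul_assoc]⟩ }
  have hJh : ∀ h, rtr (res π h) b ∈ J := fun h => ⟨rtr (res π h) a, (hfrac h).symm⟩
  -- the span of the translates of the denominator
  obtain ⟨U, hUf, hbU, hU⟩ := exists_finite_subcomod_mem (k := k) (C := A) (V := A) b
  let V : Submodule k A := Submodule.span k (Set.range fun h : WithConv (B →ₐ[k] k) => rtr (res π h) b)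
  have hVU : V ≤ U := Submodule.span_le.2 <| Set.range_subset_iff.2 fun h => by
    obtain ⟨w, hw⟩ := hU b hbU
    have hw' : Coalgebra.comul (R := k) b = U.subtype.rTensor A w := hw.symm
    show rtr (res π h) b ∈ U
    simp only [rtr, AlgHom.coe_comp, Function.comp_apply, AlgEquiv.coe_toAlgHom, Bialgebra.comulAlgHom_apply, hw']
    clear hw hw'
    induction w using TensorProduct.induction_on with
    | zero => simp
    | add p q hp hq => simp only [map_add]; exact add_mem hp hq
    | tmul p q => simpa using U.smul_mem _ p.2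
  haveI : Module.Finite k V := Module.Finite.of_injective (Submodule.inclusion hVU) (Submodule.inclusion_injective hVU)
  have hVh : ∀ h, ∀ v ∈ V, rtr (res π h) v ∈ V := by
    intro h v hv
    induction hv using Submodule.span_induction with
    | mem v hv =>
      obtain ⟨h', rfl⟩ := hv
      refine Submodule.subset_span ⟨h * h', eq_of_forall_apply (k := k) fun x => ?_⟩
      show x.ofConv (rtr (res π (h * h')) b) = x.ofConv (rtr (res π h) (rtr (res π h') b))
      rw [rtr_comp, map_mul]
    | zero => simp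
    | add p q _ _ hp hq => rw [map_add]; exact add_mem hp hq
    | smul c p _ hp => rw [map_smul]; exact V.smul_mem c hp
  have hVJ : ∀ v ∈ V, v ∈ J := by
    intro v hv
    induction hv using Submodule.span_induction with
    | mem v hv => obtain ⟨h, rfl⟩ := hv; exact hJh h
    | zero => exact J.zero_mem
    | add p q _ _ hp hq => exact add_mem hp hq
    | smul c p _ hp => exact Submodule.smul_of_tower_mem J c hp
  have hbV : b ∈ V := Submodule.subset_span ⟨1, eq_of_forall_apply (k := k) fun x => by
    show x.ofConv (rtr (res π 1) b) = x.ofConv b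
    rw [← mul_apply_rtr, map_one, mul_one]⟩
  -- points which give coordinates on the span
  let f := Module.finBasis k V
  let evV : WithConv (A →ₐ[k] k) → Module.Dual k V := fun x => x.ofConv.toLinearMap ∘ₗ V.subtype
  have hspan : Submodule.span k (Set.range evV) = ⊤ := by
    by_contra hne
    obtain ⟨Φ, hΦ, hΦ0⟩ := Submodule.exists_le_ker_of_lt_top _ (lt_top_iff_ne_top.2 hne)
    refine hΦ ?_
    obtain ⟨v, rfl⟩ := (Module.evalEquiv k V).surjective Φ
    have hv0 : v = 0 := Subtype.ext (eq_of_forall_apply (k := k) fun x => by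
      have h0 : (Module.evalEquiv k V v) (evV x) = 0 := hΦ0 (Submodule.subset_span ⟨x, rfl⟩)
      rw [Submodule.coe_zero, map_zero]
      exact h0)
    rw [hv0, map_zero]
  let D := Module.Basis.ofSpan hspan.ge
  let e : Fin (Module.finrank k V) ≃ _ := f.dualBasis.indexEquiv D
  choose g hg using fun j => (linearIndepOn_empty k id).extend_subset (Set.empty_subset _) (e j).2
  have hgD : ∀ j, evV (g j) = D (e j) := fun j => by
    rw [hg j]
    exact (Module.Basis.ofSpan_apply_self hspan.ge (e j)).symm
  have hne : (Matrix.of fun i j => (g j).ofConv (f i : A)).det ≠ 0 := by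
    intro h0
    obtain ⟨c, hc, hc0⟩ := Matrix.exists_vecMul_eq_zero_iff.2 h0
    refine hc ?_
    have hv : ∑ i, c i • f i = 0 := by
      refine (Module.forall_dual_apply_eq_zero_iff (R := k) _).1 fun φ => ?_
      rw [← D.sum_repr φ]
      simp only [LinearMap.sum_apply, LinearMap.smul_apply]
      refine Finset.sum_eq_zero fun t _ => ?_
      obtain ⟨j, rfl⟩ := e.surjective t
      rw [← hgD]
      have h1 := congrFun hc0 j
      simp only [Matrix.vecMul, dotProduct, Matrix.of_apply, Pi.zero_apply] at h1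
      rw [show evV (g j) (∑ i, c i • f i) = ∑ i, c i * (g j).ofConv (f i : A) by simp [evV, map_sum], h1, smul_zero]
    funext i
    simpa [Module.Basis.repr_self, Finsupp.single_apply] using congrArg (fun v => f.repr v i) hv
  -- a semi-invariant denominator
  have hj0 : Nonempty (Fin (Module.finrank k V)) := by
    haveI : Nontrivial V := ⟨⟨⟨b, hbV⟩, 0, fun h => hb (congrArg Subtype.val h)⟩⟩
    exact ⟨⟨0, Module.finrank_pos⟩⟩
  obtain ⟨j0⟩ := hj0
  let P : Matrix (Fin (Module.finrank k V)) (Fin (Module.finrank k V)) A :=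
    Matrix.of fun i j => translatePt (g j * (g j0)⁻¹).ofConv (f i : A)
  have hPx : ∀ (x : WithConv (A →ₐ[k] k)), x.ofConv P.det =
      (Matrix.of fun i j => (g j * (g j0)⁻¹ * x).ofConv (f i : A)).det := fun x => by
    rw [AlgHom.map_det]
    congr 1
    ext i j
    exact (mul_apply_translatePt _ _ _).symm
  have hP0 : (g j0).ofConv P.det ≠ 0 := by
    rw [hPx]
    simpa [mul_assoc] using hne
  have hPJ : P.det ∈ J := by
    rw [Matrix.det_apply']
    refine J.sum_mem fun s _ => J.mul_mem_left _ ?_
    rw [← Finset.mul_prod_erase Finset.univ _ (Finset.mem_univ j0)]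
    refine J.mul_mem_right _ ?_
    show translatePt (g j0 * (g j0)⁻¹).ofConv (f (s j0) : A) ∈ J
    rw [mul_inv_cancel]
    convert hVJ _ (f (s j0)).2 using 1
    exact eq_of_forall_apply (k := k) fun x => by rw [← mul_apply_translatePt, one_mul]
  let c : WithConv (B →ₐ[k] k) → k := fun h =>
    (LinearMap.toMatrix f f ((rtr (res π h)).toLinearMap.restrict (hVh h))).det
  have hch : ∀ x h, (x * res π h).ofConv P.det = c h * x.ofConv P.det := by
    intro x h
    rw [hPx, hPx, show c h = (LinearMap.toMatrix f f ((rtr (res π h)).toLinearMap.restrict (hVh h))).transpose.det from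
      (Matrix.det_transpose _).symm, ← Matrix.det_mul]
    congr 1
    ext i j
    rw [Matrix.of_apply, ← mul_assoc, mul_apply_rtr, Matrix.mul_apply]
    have h1 : (∑ t, f.repr ((rtr (res π h)).toLinearMap.restrict (hVh h) (f i)) t • (f t : A)) = rtr (res π h) (f i : A) := by
      have := congrArg Subtype.val (f.sum_repr ((rtr (res π h)).toLinearMap.restrict (hVh h) (f i)))
      rw [Submodule.coe_sum] at this
      exact this
    conv_lhs => rw [← h1]
    simp [map_sum, LinearMap.toMatrix_apply]
  let F := translatePt (g j0).ofConv P.det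
  have hF1 : Coalgebra.counit (R := k) F = (g j0).ofConv P.det := by
    rw [← one_apply, ← mul_apply_translatePt, mul_one]
  let χ : B := ((g j0).ofConv P.det)⁻¹ • π F
  have hχ : ∀ h : WithConv (B →ₐ[k] k), h.ofConv χ = c h := fun h => by
    rw [map_smul, smul_eq_mul, ← res_apply, ← mul_apply_translatePt, hch, mul_comm, mul_assoc,
      mul_inv_cancel₀ hP0, mul_one]
  have hF : F ∈ Wt π χ := by
    rw [mem_Wt_iff]
    intro x h
    rw [hχ, ← mul_apply_translatePt, ← mul_apply_translatePt, ← mul_assoc, hch, mul_comm]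
  have hψχ : HopfAlgebraStruct.antipode (R := k) χ * χ = 1 := eq_of_forall_apply (k := k) fun h => by
    rw [map_mul, map_one, show h.ofConv (HopfAlgebraStruct.antipode (R := k) χ) = h⁻¹.ofConv χ from rfl, hχ, hχ]
    refine mul_right_cancel₀ hP0 ?_
    rw [one_mul, mul_assoc, ← hch, ← hch, mul_assoc, ← map_mul, mul_inv_cancel, map_one, mul_one]
  obtain ⟨q, hq, hq1⟩ := hobs.exists_inverse_weight π hψχ hF (by rw [hF1]; exact hP0)
  have hq0 : q ≠ 0 := fun h => hq1 (by rw [h, map_zero])
  have hP : P.det ≠ 0 := fun h => hP0 (by rw [h, map_zero])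
  have hinv : P.det * q ∈ inv π := by
    rw [mem_inv_iff]
    intro x h
    have h1 := congrArg h.ofConv hψχ
    rw [map_mul, map_one, hχ] at h1
    rw [map_mul, map_mul, hch, (mem_Wt_iff π).1 hq]
    linear_combination (x.ofConv P.det * x.ofConv q) * h1
  obtain ⟨a', ha'⟩ := J.mul_mem_right q hPJ
  refine ⟨a', P.det * q, ?_, hinv, mul_ne_zero hP hq0, ha'⟩
  rw [mem_inv_iff]
  intro x h
  rw [mul_apply_rtr]
  congr 1
  have h2 : rtr (res π h) (P.det * q) = P.det * q :=
    eq_of_forall_apply (k := k) fun y => by rw [← mul_apply_rtr, (mem_inv_iff π).1 hinv]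
  have h3 := congrArg (rtr (res π h)) ha'
  rw [map_mul, map_mul _ a' b, h2] at h3
  refine mul_right_cancel₀ (fun h0 => hb (hinj _ (h0.trans (map_zero _).symm))) (?_ : _ * rtr (res π h) b = _)
  refine mul_right_cancel₀ hb ?_
  linear_combination (-b) * h3 + (P.det * q) * hfrac h + rtr (res π h) b * ha'

theorem isObs_of_fracOfInv (hπ : Function.Surjective π) (hfr : FracOfInv π) : IsObs π := by
  obtain ⟨d, e, M, hM, hblock, hkill⟩ := exists_block_matrix π hπ
  obtain ⟨χ, hχ, heig⟩ := orbit_block hM π hblock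
  intro g hg
  let M₁ := powMatrix M d
  let v₁ : (Fin d → Fin d ⊕ Fin e) → k := minorVec k Sum.inl
  have hv₁ : v₁ Sum.inl = 1 := minorVec_self Sum.inl_injective
  let p := orbit k M₁ v₁
  have hM₁ : IsComodMatrix k M₁ := hM.powMatrix d
  have hp1 : ∀ i, Coalgebra.counit (R := k) (p i) = v₁ i := fun i => by
    simp [p, orbit, map_sum, hM₁.counit]
  have hpW : ∀ i, p i ∈ Wt π χ := fun i => by
    show (π : A →ₐ[k] B).toLinearMap.lTensor A (Coalgebra.comul (R := k) (p i)) = _
    have h1 : Coalgebra.comul (R := k) (p i) = ∑ y, M₁ i y ⊗ₜ[k] p y := by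
      simp only [p, orbit, map_sum, map_smul, hM₁.comul, Finset.smul_sum, TensorProduct.tmul_sum, TensorProduct.tmul_smul]
      exact Finset.sum_comm
    rw [h1, map_sum, show p i = ∑ y, v₁ y • M₁ i y from rfl, TensorProduct.sum_tmul]
    refine Finset.sum_congr rfl fun y _ => ?_
    rw [LinearMap.lTensor_tmul, AlgHom.toLinearMap_apply, BialgHom.coe_toAlgHom, heig, TensorProduct.smul_tmul]
  have hg1 : ∀ i, g.ofConv (p i) = v₁ i * g.ofConv (p Sum.inl) := by
    intro i
    have hne : p Sum.inl ≠ 0 := fun h => one_ne_zero (α := k) (by rw [← hv₁, ← hp1, h, map_zero])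
    obtain ⟨a', b', ha', hb', hb0, hab⟩ := hfr (p i) (p Sum.inl) hne fun x h => by
      rw [(mem_Wt_iff π).1 (hpW i), (mem_Wt_iff π).1 (hpW _)]; ring
    have hfix : ∀ f ∈ inv π, rtr g f = f := fun f hf => eq_of_forall_apply (k := k) fun y => by
      have h1 := hg _ (translatePt_mem_Wt π hf y)
      rw [← one_apply, ← mul_apply_translatePt, ← mul_apply_translatePt, mul_one] at h1
      rw [← mul_apply_rtr, h1]
    have h1 := congrArg (rtr g) hab
    rw [map_mul, map_mul, hfix b' hb', hfix a' ha'] at h1
    have h2 : rtr g (p i) * p Sum.inl = p i * rtr g (p Sum.inl) :=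
      mul_right_cancel₀ hb0 (by linear_combination p Sum.inl * h1 - rtr g (p Sum.inl) * hab)
    have h3 := congrArg (1 : WithConv (A →ₐ[k] k)).ofConv h2
    rw [map_mul, map_mul, ← mul_apply_rtr, ← mul_apply_rtr, one_mul, one_apply, one_apply, hp1, hp1, hv₁,
      mul_one] at h3
    exact h3
  obtain ⟨α, hα⟩ := exists_sum_mul_orbit_eq_one hM₁ (v := v₁) (t := Sum.inl) (by rw [hv₁]; exact one_ne_zero) g.ofConv
  have hu : IsUnit (g.ofConv (p Sum.inl)) := by
    refine IsUnit.of_mul_eq_one (∑ x, α x * v₁ x) ?_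
    rw [← hα, Finset.mul_sum]
    exact Finset.sum_congr rfl fun x _ => by rw [show g.ofConv (orbit k M₁ v₁ x) = g.ofConv (p x) from rfl, hg1 x]; ring
  have hJ : ∀ a ∈ RingHom.ker (π : A →+* B), g.ofConv a = 0 := hkill k g.ofConv fun r t =>
    eq_zero_of_minors ((Matrix.of M).map g.ofConv) _ hu
      (fun i => ((map_orbit_minorVec M g.ofConv i).symm.trans (hg1 i)).trans (smul_eq_mul _ _).symm) r t
  exact ⟨toConv (AlgHom.liftOfSurjective (π : A →ₐ[k] B) hπ g.ofConv fun a ha => hJ a ha), by
    apply WithConv.ofConv_injective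
    ext a
    exact AlgHom.liftOfSurjective_apply (π : A →ₐ[k] B) hπ g.ofConv (fun a ha => hJ a ha) a⟩

end Groth.Agent.AGF27.Obs
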