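import Groth.Agent.AGF27.Fraction
import Groth.Agent.AGF27.ObsGMod
import Groth.Agent.GrpSchLib.UnitsScheme

/-! Observability and invariant rational functions. -/

universe u

open CategoryTheory AlgebraicGeometry MonoidalCategory CartesianMonoidalCategory MonObj GrpObj TensorProduct WithConv
open Groth.Agent.GrpSchLib.Kunneth
open scoped Groth.Agent.AGF27

namespace Groth.Agent.AGF27

variable {k : Type u} [Field k] [IsAlgClosed k] {G H : Over (Spec (CommRingCat.of k))} [GrpObj G] [GrpObj H]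
  [IsAffine G.left] [IsAffine H.left] [Smooth G.hom] [Smooth H.hom] (i : H ⟶ G) [IsMonHom i] [IsClosedImmersion i.left]

theorem fracInv_iff (a b : Fn G) :
    ((G ◁ i) ≫ μ[G]).left.appTop a * (fst G H).left.appTop b = (fst G H).left.appTop a * ((G ◁ i) ≫ μ[G]).left.appTop b ↔
      Obs.FracInv (evBialg i) a b := by
  haveI : IsAffine (G ⊗ H).left := inferInstanceAs (IsAffine (Limits.pullback G.hom H.hom))
  haveI : Smooth (G ⊗ H).hom := inferInstanceAs (Smooth (Limits.pullback.fst G.hom H.hom ≫ G.hom))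
  haveI : _root_.IsReduced (Fn (G ⊗ H)) := by
    haveI : AlgebraicGeometry.IsReduced (G ⊗ H).left := Groth.Agent.GrpSchLib.isReduced_of_smooth_field (G ⊗ H).hom
    exact inferInstanceAs (_root_.IsReduced Γ((G ⊗ H).left, ⊤))
  have key : ∀ (x : VecGrp.pt k k ⟶ G) (h : VecGrp.pt k k ⟶ H) (f : Fn G),
      pullFn (lift x h) (((G ◁ i) ≫ μ[G]).left.appTop f) = (ptConv G x * Obs.res (evBialg i) (ptConv H h)).ofConv f ∧
      pullFn (lift x h) ((fst G H).left.appTop f) = (ptConv G x).ofConv f := fun x h f => by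
    rw [res_ptConv, ← map_mul]
    constructor
    · rw [pullFn_apply, (ev_mulRight i x h f).1, ← pullFn_apply]; rfl
    · rw [pullFn_apply, (ev_mulRight i x h f).2, ← pullFn_apply]; rfl
  refine ⟨fun e x h => ?_, fun e => ?_⟩
  · obtain ⟨x, rfl⟩ := (ptConv G).surjective x
    obtain ⟨h, rfl⟩ := (ptConv H).surjective h
    have e' := congrArg (pullFn (lift x h)) e
    rwa [map_mul, map_mul, (key x h a).1, (key x h a).2, (key x h b).1, (key x h b).2] at e'
  · refine sub_eq_zero.1 (by_contra fun hne => ?_)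
    obtain ⟨w, hw⟩ := Groth.Agent.ComodLib.exists_point_ne_zero (k := k) (fun hn => hne hn.eq_zero)
    refine hw ?_
    have hp : w = pullFn (lift (toPt w ≫ fst G H) (toPt w ≫ snd G H)) := by
      rw [← CartesianMonoidalCategory.comp_lift, lift_fst_snd, Category.comp_id, pullFn_toPt]
    rw [hp, map_sub, map_mul, map_mul, (key _ _ a).1, (key _ _ a).2, (key _ _ b).1, (key _ _ b).2, sub_eq_zero]
    exact e _ _

theorem isObservableIn_iff_fraction [ConnectedSpace G.left] :
    AGF.IsObservableIn k i ↔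
      ∀ a b : Fn G, b ≠ 0 →
        ((G ◁ i) ≫ μ[G]).left.appTop a * (fst G H).left.appTop b = (fst G H).left.appTop a * ((G ◁ i) ≫ μ[G]).left.appTop b →
        ∃ a' b' : Fn G, AGF.IsRTransInv i a' ∧ AGF.IsRTransInv i b' ∧ b' ≠ 0 ∧ a * b' = a' * b := by
  haveI := isReduced_fn (G := G)
  haveI := isReduced_fn (G := H)
  haveI := Groth.Agent.GrpSchLib.Kunneth.isIntegral_grp G
  haveI : Nonempty (⊤ : G.left.Opens) := ⟨⟨genericPoint G.left, trivial⟩⟩
  haveI : IsDomain (Fn G) := inferInstanceAs (IsDomain Γ(G.left, ⊤))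
  rw [isObservableIn_iff_isObs]
  simp only [fracInv_iff, isRTransInv_iff_mem_inv]
  exact ⟨Obs.fracOfInv_of_isObs _, Obs.isObs_of_fracOfInv _ (ev_surjective i)⟩

end Groth.Agent.AGF27
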