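import Groth.Agent.AGF27.Comod
import Groth.Agent.ComodLib.MatrixComod
import Groth.Agent.GrpSchLib.GLnHom
import Mathlib.RingTheory.Smooth.Basic
import Mathlib.AlgebraicGeometry.Morphisms.Smooth

/-! Homomorphisms of affine group schemes to the general linear group from comodule matrices. -/

universe u

open CategoryTheory Limits AlgebraicGeometry MonoidalCategory CartesianMonoidalCategory MonObj GrpObj TensorProduct
open Groth.Agent.GrpSchLib.Kunneth Groth.Agent.ComodLib
open scoped Groth.Agent.AGF27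

namespace Groth.Agent.AGF27

/-- The general linear group is formally smooth. -/
theorem formallySmooth_GLn (k : Type u) [CommRing k] (n : ℕ) : Algebra.FormallySmooth k (CoordGrp.GLn n k) := by
  refine Algebra.FormallySmooth.of_comp_surjective fun B _ _ I hI f => ?_
  let M : Matrix (Fin n) (Fin n) B := fun i j => (Ideal.Quotient.mk_surjective (f (CoordGrp.GLn.X i j))).choose
  have hM : M.map (Ideal.Quotient.mkₐ k I) = GrpSchLib.GLnDiag.mat f := Matrix.ext fun i j =>
    (Ideal.Quotient.mk_surjective (f (CoordGrp.GLn.X i j))).choose_spec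
  obtain ⟨d, hd⟩ := Ideal.Quotient.mk_surjective (f CoordGrp.GLn.Dinv)
  have hu : IsUnit (M.det * d) := by
    have h1 : Ideal.Quotient.mkₐ k I (M.det * d - 1) = 0 := by
      rw [map_sub, map_mul, AlgHom.map_det, map_one, AlgHom.mapMatrix_apply, hM]
      show (GrpSchLib.GLnDiag.mat f).det * Ideal.Quotient.mk I d - 1 = 0
      rw [hd, GrpSchLib.GLnDiag.det_mat, sub_self]
    have h2 : IsNilpotent (M.det * d - 1) := ⟨2, by
      have := Ideal.pow_mem_pow (Ideal.Quotient.eq_zero_iff_mem.mp h1) 2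
      rwa [hI, Ideal.mem_bot] at this⟩
    simpa using h2.isUnit_add_one
  obtain ⟨g, hg⟩ := GrpSchLib.GLnDiag.exists_pt (k := k) M ((Matrix.isUnit_iff_isUnit_det M).mpr (isUnit_of_mul_isUnit_left hu))
  exact ⟨g, GrpSchLib.GLnDiag.ext_mat (by rw [GrpSchLib.GLnDiag.mat_comp, hg, hM])⟩

variable {k : Type u} [Field k] {G : Over (Spec (CommRingCat.of k))} [GrpObj G] [IsAffine G.left]

/-- The canonical point of a scheme with values in its functions. -/
noncomputable def canPt (T : Over (Spec (CommRingCat.of k))) : T ⟶ VecGrp.pt k (Fn T) :=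
  Over.homMk T.left.toSpecΓ (by
    show T.left.toSpecΓ ≫ Spec.map ((Scheme.ΓSpecIso (CommRingCat.of k)).inv ≫ T.hom.appTop) = T.hom
    rw [Spec.map_comp, ← Scheme.toSpecΓ_naturality_assoc, toSpecΓ_SpecMap_ΓSpecIso_inv, Category.comp_id])

omit [GrpObj G] in
theorem canPt_toPt {T : Over (Spec (CommRingCat.of k))} (g : T ⟶ G) : canPt T ≫ toPt (ev g) = g := by
  refine Over.OverMorphism.ext ?_
  show T.left.toSpecΓ ≫ Spec.map g.left.appTop ≫ G.left.isoSpec.inv = g.left
  rw [← Scheme.toSpecΓ_naturality_assoc]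
  show g.left ≫ G.left.isoSpec.hom ≫ G.left.isoSpec.inv = g.left
  rw [Iso.hom_inv_id, Category.comp_id]

omit [GrpObj G] [IsAffine G.left] in
theorem ev_canPt {T : Over (Spec (CommRingCat.of k))} (z : VecGrp.pt k (Fn T) ⟶ G) (f : Fn G) :
    ev (canPt T ≫ z) f = pullFn z f := by
  rw [← ev_ev, pullFn_apply, ev_apply]
  show T.left.toSpecΓ.appTop _ = _
  rw [Scheme.toSpecΓ_appTop]
  rfl

/-- A comodule matrix is multiplicative on all points. -/
theorem isRepMatrix_of_isComodMatrix {n : ℕ} {M : Fin n → Fin n → Fn G} (hM : IsComodMatrix k M) :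
    IsRepMatrix (Matrix.of M) := by
  refine ⟨fun T g h => ?_, fun T => ?_⟩
  · ext a b
    rw [Matrix.map_apply, Matrix.mul_apply]
    conv_lhs => rw [← canPt_toPt g, ← canPt_toPt h, ← MonObj.comp_mul, ev_canPt, ← toPt_lift, pullFn_toPt]
    rw [AlgHom.comp_apply, Matrix.of_apply, show comulAlg G (M a b) = ∑ y, M a y ⊗ₜ[k] M y b from hM.comul a b, map_sum]
    simp
  · ext a b
    rw [Matrix.map_apply, show (1 : T ⟶ G) = canPt T ≫ 1 from (MonObj.comp_one _).symm, ev_canPt, ← toPt_counit,
      pullFn_toPt, AlgHom.comp_apply, Matrix.of_apply, show counitAlg G (M a b) = _ from hM.counit a b]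
    simp [Matrix.one_apply, apply_ite (Algebra.ofId k (Fn T))]

omit [GrpObj G] [IsAffine G.left] in
theorem isAffine_GLn (n : ℕ) : IsAffine (FrB.GLn n (Spec (CommRingCat.of k))).left := by
  haveI : IsAffine (FrB.GLZ.{u} n).left := inferInstanceAs (IsAffine (Spec _))
  haveI : IsAffineHom (FrB.GLZ.{u} n).hom := inferInstance
  haveI : IsAffineHom (FrB.GLn n (Spec (CommRingCat.of k))).hom := inferInstanceAs (IsAffineHom (pullback.snd _ _))
  exact isAffine_of_isAffineHom (FrB.GLn n (Spec (CommRingCat.of k))).hom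

omit [GrpObj G] [IsAffine G.left] in
theorem smooth_GLn (n : ℕ) : Smooth (FrB.GLn n (Spec (CommRingCat.of k))).hom := by
  haveI : Smooth (FrB.GLZ.{u} n).hom := by
    refine (HasRingHomProperty.Spec_iff (P := @Smooth)).mpr ?_
    haveI := formallySmooth_GLn (ULift.{u} ℤ) n
    haveI : Algebra.FiniteType (ULift.{u} ℤ) (CoordGrp.GLn n (ULift.{u} ℤ)) :=
      @Algebra.FiniteType.of_surjective _ _ _ _ _ _ _ _
        (inferInstance : Algebra.FiniteType (ULift.{u} ℤ) (MvPolynomial (CoordGrp.GLPoly.Idx n) (ULift.{u} ℤ)))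
        (CoordGrp.GLn.mk n (ULift.{u} ℤ)) (Quotient.mk_surjective)
    haveI : IsNoetherianRing (ULift.{u} ℤ) := isNoetherianRing_of_ringEquiv ℤ ULift.ringEquiv.symm
    haveI : Algebra.FinitePresentation (ULift.{u} ℤ) (CoordGrp.GLn n (ULift.{u} ℤ)) :=
      Algebra.FinitePresentation.of_finiteType.mp inferInstance
    exact RingHom.smooth_algebraMap.mpr ⟨inferInstance, inferInstance⟩
  exact inferInstanceAs (Smooth (pullback.snd _ _))

end Groth.Agent.AGF27
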