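import Groth.Agent.ComodLib.BaseChange
import Groth.Prelude.Def_Hoch
import Mathlib.RingTheory.Coalgebra.TensorProduct
import Mathlib.RingTheory.Flat.Equalizer

/-! Hochschild cohomology of comodules commutes with base change from a field. -/

universe u v w

open TensorProduct

namespace Groth.Agent.AGF27.HochBC

section Abstract

variable {K : Type u} [CommRing K] {R : Type w} [CommRing R] [Algebra K R] [Module.Flat K R]
variable {C D : Type v} [AddCommGroup C] [Module K C] [AddCommGroup D] [Module K D]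
variable {C' D' : Type*} [AddCommGroup C'] [Module R C'] [AddCommGroup D'] [Module R D']

theorem exists_baseChange_preimage {M N : Type v} [AddCommGroup M] [Module K M] [AddCommGroup N] [Module K N]
    (g : M →ₗ[K] N) {z : R ⊗[K] M} (hz : g.baseChange R z = 0) :
    ∃ y : R ⊗[K] LinearMap.ker g, (LinearMap.ker g).subtype.baseChange R y = z := by
  obtain ⟨y, hy⟩ := (Module.Flat.lTensor_exact (M := R) (LinearMap.exact_subtype_ker_map g) z).1 hz
  exact ⟨y, hy⟩

theorem exists_ker_quot_equiv (f : C →ₗ[K] D) (B : Submodule K C) (e : R ⊗[K] C →ₗ[R] C') (e₁ : R ⊗[K] D →ₗ[R] D')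
    (he : Function.Bijective e) (he₁ : Function.Bijective e₁) (f' : C' →ₗ[R] D') (B' : Submodule R C')
    (hf : ∀ x, e₁ (f.baseChange R x) = f' (e x)) (hB : ∀ b ∈ B, e ((1 : R) ⊗ₜ[K] b) ∈ B')
    (hB' : ∀ z, e z ∈ B' → B.mkQ.baseChange R z = 0) :
    ∃ E : R ⊗[K] (LinearMap.ker f ⧸ B.comap (LinearMap.ker f).subtype) ≃ₗ[R]
        (LinearMap.ker f' ⧸ B'.comap (LinearMap.ker f').subtype),
      ∀ (r : R) (z : LinearMap.ker f) (hz : e (r ⊗ₜ[K] (z : C)) ∈ LinearMap.ker f'),
        E (r ⊗ₜ[K] Submodule.mkQ (B.comap (LinearMap.ker f).subtype) z) =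
          Submodule.mkQ (B'.comap (LinearMap.ker f').subtype) ⟨e (r ⊗ₜ[K] (z : C)), hz⟩ := by
  let Z := LinearMap.ker f
  let BZ := B.comap Z.subtype
  let g : R ⊗[K] Z →ₗ[R] LinearMap.ker f' := LinearMap.codRestrict _ (e ∘ₗ Z.subtype.baseChange R) fun y => by
    rw [LinearMap.mem_ker, LinearMap.comp_apply, ← hf,
      show f.baseChange R (Z.subtype.baseChange R y) = (f ∘ₗ Z.subtype).baseChange R y by rw [LinearMap.baseChange_comp]; rfl,
      show f ∘ₗ Z.subtype = 0 from LinearMap.ext fun z => z.2, LinearMap.baseChange_zero, LinearMap.zero_apply, map_zero]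
  let Q := Submodule.mkQ (B'.comap (LinearMap.ker f').subtype) ∘ₗ g
  letI : Module K (LinearMap.ker f' ⧸ B'.comap (LinearMap.ker f').subtype) := Module.compHom _ (algebraMap K R)
  haveI : IsScalarTower K R (LinearMap.ker f' ⧸ B'.comap (LinearMap.ker f').subtype) :=
    IsScalarTower.of_algebraMap_smul fun _ _ => rfl
  let ψ : Z →ₗ[K] (LinearMap.ker f' ⧸ B'.comap (LinearMap.ker f').subtype) :=
    (Q.restrictScalars K) ∘ₗ TensorProduct.mk K R Z 1
  have hψ : BZ ≤ LinearMap.ker ψ := fun z hz => by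
    rw [LinearMap.mem_ker]
    show Submodule.mkQ _ (g ((1 : R) ⊗ₜ[K] z)) = 0
    rw [Submodule.mkQ_apply, Submodule.Quotient.mk_eq_zero]
    show e (Z.subtype.baseChange R ((1 : R) ⊗ₜ[K] z)) ∈ B'
    rw [LinearMap.baseChange_tmul]
    exact hB _ hz
  let E := (BZ.liftQ ψ hψ).liftBaseChange R
  have hE : ∀ y, E (BZ.mkQ.baseChange R y) = Q y := fun y => by
    induction y using TensorProduct.induction_on with
    | zero => simp
    | add p q hp hq => simp only [map_add, hp, hq]
    | tmul r z =>
      rw [LinearMap.baseChange_tmul, LinearMap.liftBaseChange_tmul]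
      show r • Q ((1 : R) ⊗ₜ[K] z) = _
      rw [← map_smul, TensorProduct.smul_tmul', smul_eq_mul, mul_one]
  have hsurj : Function.Surjective (BZ.mkQ.baseChange R) :=
    LinearMap.lTensor_surjective R BZ.mkQ_surjective
  have hbij : Function.Bijective E := by
    refine ⟨(injective_iff_map_eq_zero E).mpr fun x hx => ?_, fun c => ?_⟩
    · obtain ⟨y, rfl⟩ := hsurj x
      rw [hE] at hx
      have hy : e (Z.subtype.baseChange R y) ∈ B' :=
        (Submodule.Quotient.mk_eq_zero (B'.comap (LinearMap.ker f').subtype) (x := g y)).1 hx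
      have h1 : (B.mkQ ∘ₗ Z.subtype).baseChange R y = 0 := by
        rw [LinearMap.baseChange_comp, LinearMap.comp_apply]
        exact hB' _ hy
      obtain ⟨t, ht⟩ := exists_baseChange_preimage _ h1
      rw [← ht, ← LinearMap.comp_apply, ← LinearMap.baseChange_comp,
        show BZ.mkQ ∘ₗ (LinearMap.ker (B.mkQ ∘ₗ Z.subtype)).subtype = 0 from LinearMap.ext fun z => ?_,
        LinearMap.baseChange_zero, LinearMap.zero_apply]
      refine (Submodule.Quotient.mk_eq_zero BZ).2 ?_
      exact (Submodule.Quotient.mk_eq_zero B).1 z.2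
    · obtain ⟨⟨c, hc⟩, rfl⟩ := Submodule.mkQ_surjective _ c
      obtain ⟨w, rfl⟩ := he.2 c
      obtain ⟨y, hy⟩ := exists_baseChange_preimage f (z := w) (he₁.1 (by
        rw [hf, map_zero]; exact hc))
      refine ⟨BZ.mkQ.baseChange R y, ?_⟩
      rw [hE]
      exact congrArg (Submodule.mkQ _) (Subtype.ext (congrArg e hy))
  refine ⟨LinearEquiv.ofBijective E hbij, fun r z hz => ?_⟩
  show E (r ⊗ₜ[K] BZ.mkQ z) = _
  rw [← LinearMap.baseChange_tmul (f := BZ.mkQ) r z, hE]
  exact congrArg (Submodule.mkQ _) (Subtype.ext (congrArg e (LinearMap.baseChange_tmul ..)))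

end Abstract

section Hochschild

variable (K : Type u) [CommRing K] (A : Type v) [CommRing A] [Bialgebra K A]
variable (V : Type v) [AddCommGroup V] [Module K V] [HopfRep.Comod K A V]
variable (R : Type w) [CommRing R] [Algebra K R]
variable (φ : ∀ n : ℕ, R ⊗[K] (Hoch.cochain K A V n) →ₗ[R] (Hoch.cochain R (R ⊗[K] A) (R ⊗[K] V) n))
variable (hφ0 : ∀ x : R ⊗[K] V, φ 0 x = x)
  (hφs : ∀ (n : ℕ) (r : R) (c : Hoch.cochain K A V n) (a : A),
    φ (n + 1) (r ⊗ₜ[K] (c ⊗ₜ[K] a)) = (φ n (r ⊗ₜ[K] c)) ⊗ₜ[R] ((1 : R) ⊗ₜ[K] a))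

include hφs in
theorem φ_succ (n : ℕ) (z : R ⊗[K] (Hoch.cochain K A V (n + 1))) :
    φ (n + 1) z = (φ n).rTensor (R ⊗[K] A) (AlgebraTensorModule.distribBaseChange K R _ A z) := by
  induction z using TensorProduct.induction_on with
  | zero => rw [map_zero]; simp only [map_zero]
  | add p q hp hq =>
    rw [map_add]
    simp only [map_add, hp, hq]
  | tmul r z =>
    induction z using TensorProduct.induction_on with
    | zero => rw [TensorProduct.tmul_zero, map_zero]; simp only [map_zero]
    | add p q hp hq =>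
      rw [TensorProduct.tmul_add, map_add]
      simp only [map_add, hp, hq]
    | tmul c a => rw [hφs, AlgebraTensorModule.distribBaseChange_tmul, LinearMap.rTensor_tmul]

include hφ0 hφs in
theorem bijective : ∀ n, Function.Bijective (φ n) := by
  intro n
  induction n with
  | zero => exact (funext hφ0 : ⇑(φ 0) = id) ▸ Function.bijective_id
  | succ n ih =>
    have h : ⇑(φ (n + 1)) = ⇑((TensorProduct.congr (LinearEquiv.ofBijective (φ n) ih) (LinearEquiv.refl R (R ⊗[K] A)))) ∘
        ⇑(AlgebraTensorModule.distribBaseChange K R (Hoch.cochain K A V n) A) := funext fun z => φ_succ K A V R φ hφs n z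
    rw [h]
    exact (LinearEquiv.bijective _).comp (LinearEquiv.bijective _)

theorem comul_one_tmul (a : A) : Coalgebra.comul (R := R) ((1 : R) ⊗ₜ[K] a) =
    AlgebraTensorModule.distribBaseChange K R A A ((1 : R) ⊗ₜ[K] Coalgebra.comul (R := K) a) := by
  rw [TensorProduct.comul_tmul, CommSemiring.comul_apply]
  induction Coalgebra.comul (R := K) a using TensorProduct.induction_on with
  | zero => simp
  | add p q hp hq => simp only [TensorProduct.tmul_add, map_add, hp, hq]
  | tmul p q => simp [AlgebraTensorModule.distribBaseChange_tmul]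

include hφ0 hφs in
theorem commute : letI := CoactBr.Comod.baseChange K R A V
    ∀ (n : ℕ) (x : R ⊗[K] (Hoch.cochain K A V n)),
      φ (n + 1) ((Hoch.d K A V n).baseChange R x) = Hoch.d R (R ⊗[K] A) (R ⊗[K] V) n (φ n x) := by
  letI := CoactBr.Comod.baseChange K R A V
  intro n
  induction n with
  | zero =>
    intro x
    rw [φ_succ K A V R φ hφs, hφ0, Hoch.d_zero, LinearMap.baseChange_sub, LinearMap.sub_apply, map_sub, map_sub]
    show _ = (HopfRep.Comod.coact (k := R) (A := R ⊗[K] A) x : (R ⊗[K] V) ⊗[R] (R ⊗[K] A)) - x ⊗ₜ[R] (1 : R ⊗[K] A)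
    rw [ComodLib.baseChange_coact_eq K R, LinearMap.comp_apply]
    have h0 : ∀ y : (R ⊗[K] V) ⊗[R] (R ⊗[K] A), (φ 0).rTensor (R ⊗[K] A) y = y := fun y => by
      rw [show φ 0 = LinearMap.id from LinearMap.ext hφ0]
      exact LinearMap.congr_fun (LinearMap.rTensor_id (R ⊗[K] A) (R ⊗[K] V)) y
    refine congrArg₂ (· - ·) (h0 _) ?_
    refine (h0 _).trans ?_
    induction x using TensorProduct.induction_on with
    | zero => simp
    | add p q hp hq => simp only [map_add, TensorProduct.add_tmul, hp, hq]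
    | tmul r v => simp [Algebra.TensorProduct.one_def]
  | succ n ih =>
    have key : ∀ (r : R) (c : Hoch.cochain K A V n) (z : A ⊗[K] A),
        φ (n + 2) (r ⊗ₜ[K] ((TensorProduct.assoc K _ A A).symm (c ⊗ₜ[K] z))) =
          (TensorProduct.assoc R _ _ _).symm (φ n (r ⊗ₜ[K] c) ⊗ₜ[R] AlgebraTensorModule.distribBaseChange K R A A ((1 : R) ⊗ₜ[K] z)) := by
      intro r c z
      induction z using TensorProduct.induction_on with
      | zero => simp only [TensorProduct.tmul_zero, map_zero]
      | add p q hp hq => simp only [TensorProduct.tmul_add, map_add, hp, hq]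
      | tmul p q =>
        rw [TensorProduct.assoc_symm_tmul, hφs, hφs, AlgebraTensorModule.distribBaseChange_tmul, TensorProduct.assoc_symm_tmul]
    intro x
    induction x using TensorProduct.induction_on with
    | zero => simp only [map_zero]
    | add p q hp hq => simp only [map_add, hp, hq]
    | tmul r y =>
      induction y using TensorProduct.induction_on with
      | zero => simp only [TensorProduct.tmul_zero, map_zero]
      | add p q hp hq => simp only [TensorProduct.tmul_add, map_add, hp, hq]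
      | tmul c a =>
        rw [LinearMap.baseChange_tmul, hφs, Hoch.d_succ, Hoch.d_succ, LinearMap.add_apply, LinearMap.add_apply,
          LinearMap.smul_apply, LinearMap.smul_apply, LinearMap.rTensor_tmul, LinearMap.rTensor_tmul,
          TensorProduct.tmul_add, map_add, hφs, ← ih, LinearMap.baseChange_tmul]
        refine congrArg₂ (· + ·) rfl ?_
        rw [Hoch.tail_tmul, Hoch.tail_tmul, TensorProduct.tmul_smul, ← algebraMap_smul R, map_smul, key, map_pow, map_neg,
          map_one, comul_one_tmul, TensorProduct.tmul_sub, TensorProduct.tmul_sub, map_sub, map_sub,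
          AlgebraTensorModule.distribBaseChange_tmul, AlgebraTensorModule.distribBaseChange_tmul,
          Algebra.TensorProduct.one_def]

include hφ0 hφs in
theorem exists_cohomology_equiv [Module.Flat K R] : letI := CoactBr.Comod.baseChange K R A V
    ∀ n : ℕ, ∃ e : R ⊗[K] Hoch.H K A V n ≃ₗ[R] Hoch.H R (R ⊗[K] A) (R ⊗[K] V) n,
      ∀ (r : R) (z : Hoch.cocycles K A V n)
        (hz : φ n (r ⊗ₜ[K] (z : Hoch.cochain K A V n)) ∈ Hoch.cocycles R (R ⊗[K] A) (R ⊗[K] V) n),
        e (r ⊗ₜ[K] Hoch.H.mk K A V n z) = Hoch.H.mk R (R ⊗[K] A) (R ⊗[K] V) n ⟨φ n (r ⊗ₜ[K] (z : Hoch.cochain K A V n)), hz⟩ := by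
  letI := CoactBr.Comod.baseChange K R A V
  intro n
  have hb := bijective K A V R φ hφ0 hφs
  have hc := commute K A V R φ hφ0 hφs
  refine exists_ker_quot_equiv (Hoch.d K A V n) (Hoch.coboundaries K A V n) (φ n) (φ (n + 1)) (hb n) (hb (n + 1))
    (Hoch.d R (R ⊗[K] A) (R ⊗[K] V) n) (Hoch.coboundaries R (R ⊗[K] A) (R ⊗[K] V) n) (hc n) ?_ ?_
  · cases n with
    | zero =>
      intro b hb0
      rw [(Submodule.mem_bot K).1 hb0, TensorProduct.tmul_zero, map_zero]
      exact Submodule.zero_mem _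
    | succ n =>
      rintro _ ⟨u, rfl⟩
      exact ⟨φ n ((1 : R) ⊗ₜ[K] u), by rw [← hc, LinearMap.baseChange_tmul]⟩
  · cases n with
    | zero =>
      intro z hz
      rw [(hb 0).1 (((Submodule.mem_bot R).1 hz).trans (map_zero (φ 0)).symm), map_zero]
    | succ n =>
      rintro z ⟨u', hu'⟩
      obtain ⟨u, rfl⟩ := (hb n).2 u'
      rw [← hc] at hu'
      rw [← (hb (n + 1)).1 hu', ← LinearMap.comp_apply, ← LinearMap.baseChange_comp,
        show (Hoch.coboundaries K A V (n + 1)).mkQ ∘ₗ Hoch.d K A V n = 0 from LinearMap.ext fun t =>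
          (Submodule.Quotient.mk_eq_zero _).2 ⟨t, rfl⟩,
        LinearMap.baseChange_zero, LinearMap.zero_apply]

end Hochschild

end Groth.Agent.AGF27.HochBC
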