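import Groth.Agent.GrpSchLib.AntiAffineGMod
import Mathlib.RingTheory.Bialgebra.Convolution
import Mathlib.RingTheory.HopfAlgebra.Basic
import Mathlib.RingTheory.HopfAlgebra.Convolution
import Mathlib.RingTheory.Jacobson.Ring
import Mathlib.RingTheory.Nullstellensatz

/-! The Hopf algebra of functions of an affine group scheme over a field, built from its points. -/

universe u

open CategoryTheory AlgebraicGeometry MonoidalCategory CartesianMonoidalCategory MonObj GrpObj TensorProduct
open Groth.Agent.GrpSchLib.Kunneth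

set_option linter.unusedSimpArgs false

namespace Groth.Agent.AGF27

variable {k : Type u} [Field k] {G H X : Over (Spec (CommRingCat.of k))}
variable {B B' : Type u} [CommRing B] [Algebra k B] [CommRing B'] [Algebra k B']

theorem pullFn_comp (g : VecGrp.pt k B ⟶ H) (i : H ⟶ G) : pullFn (g ≫ i) = (pullFn g).comp (ev i) :=
  AlgHom.ext fun _ => rfl

theorem pullFn_ptMap' (φ : B →ₐ[k] B') (g : VecGrp.pt k B ⟶ G) :
    pullFn (VecGrp.ptMap φ ≫ g) = φ.comp (pullFn g) :=
  AlgHom.ext fun f => pullFn_ptMap φ g f

/-- The point of an affine scheme given by an algebra map on its functions. -/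
noncomputable def toPt [IsAffine X.left] (f : Fn X →ₐ[k] B) : VecGrp.pt k B ⟶ X :=
  Over.homMk (Spec.map (CommRingCat.ofHom f.toRingHom) ≫ X.left.isoSpec.inv) (by
    show (Spec.map (CommRingCat.ofHom f.toRingHom) ≫ X.left.isoSpec.inv) ≫ X.hom =
      Spec.map (CommRingCat.ofHom (algebraMap k B))
    have h : X.left.isoSpec.inv ≫ X.hom =
        Spec.map ((Scheme.ΓSpecIso (CommRingCat.of k)).inv ≫ X.hom.appTop) := by
      rw [Iso.inv_comp_eq, Spec.map_comp]
      show X.hom = X.left.toSpecΓ ≫ Spec.map X.hom.appTop ≫ _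
      rw [← Scheme.toSpecΓ_naturality_assoc, toSpecΓ_SpecMap_ΓSpecIso_inv, Category.comp_id]
    rw [Category.assoc, h, ← Spec.map_comp]
    congr 1
    ext c
    exact f.commutes c)

theorem toPt_left [IsAffine X.left] (f : Fn X →ₐ[k] B) :
    (toPt f).left = Spec.map (CommRingCat.ofHom f.toRingHom) ≫ X.left.isoSpec.inv := rfl

theorem left_eq_of_pullFn [IsAffine X.left] (g : VecGrp.pt k B ⟶ X) :
    g.left = Spec.map (CommRingCat.ofHom (pullFn g).toRingHom) ≫ X.left.isoSpec.inv := by
  rw [Iso.eq_comp_inv]
  show g.left ≫ X.left.toSpecΓ = Spec.map (g.left.appTop ≫ (Scheme.ΓSpecIso (CommRingCat.of B)).hom)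
  rw [Scheme.toSpecΓ_naturality, Spec.map_comp]
  congr 1
  exact (SpecMap_ΓSpecIso_hom (CommRingCat.of B)).symm

/-- Points of an affine scheme are algebra maps on its functions. -/
noncomputable def ptEquiv [IsAffine X.left] : (VecGrp.pt k B ⟶ X) ≃ (Fn X →ₐ[k] B) where
  toFun := pullFn
  invFun := toPt
  left_inv g := Over.OverMorphism.ext (left_eq_of_pullFn g).symm
  right_inv f := by
    have h := left_eq_of_pullFn (toPt f)
    rw [toPt_left, cancel_mono] at h
    exact AlgHom.coe_ringHom_injective (congrArg CommRingCat.Hom.hom (Spec.map_injective h)).symm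

@[simp] theorem pullFn_toPt [IsAffine X.left] (f : Fn X →ₐ[k] B) : pullFn (toPt f) = f :=
  ptEquiv.right_inv f

@[simp] theorem toPt_pullFn [IsAffine X.left] (g : VecGrp.pt k B ⟶ X) : toPt (pullFn g) = g :=
  ptEquiv.left_inv g

theorem pt_ext [IsAffine X.left] {g g' : VecGrp.pt k B ⟶ X} (h : pullFn g = pullFn g') : g = g' :=
  ptEquiv.injective h

theorem ptMap_toPt [IsAffine X.left] (φ : B →ₐ[k] B') (f : Fn X →ₐ[k] B) :
    VecGrp.ptMap φ ≫ toPt f = toPt (φ.comp f) :=
  pt_ext (by rw [pullFn_ptMap', pullFn_toPt, pullFn_toPt])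

theorem toPt_comp [IsAffine H.left] [IsAffine G.left] (f : Fn H →ₐ[k] B) (i : H ⟶ G) :
    toPt f ≫ i = toPt (f.comp (ev i)) :=
  pt_ext (by rw [pullFn_comp, pullFn_toPt, pullFn_toPt])

variable (G) in
/-- The tautological point of an affine scheme with values in its functions. -/
noncomputable def univPt [IsAffine G.left] : VecGrp.pt k (Fn G) ⟶ G := toPt (AlgHom.id k (Fn G))

theorem ptMap_univPt [IsAffine G.left] (g : VecGrp.pt k B ⟶ G) :
    VecGrp.ptMap (pullFn g) ≫ univPt G = g := by
  rw [univPt, ptMap_toPt, AlgHom.comp_id, toPt_pullFn]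

variable [GrpObj G] [GrpObj H]

theorem ptMap_mul (φ : B →ₐ[k] B') (g g' : VecGrp.pt k B ⟶ G) :
    VecGrp.ptMap φ ≫ (g * g') = (VecGrp.ptMap φ ≫ g) * (VecGrp.ptMap φ ≫ g') := MonObj.comp_mul _ _ _

theorem ptMap_one (φ : B →ₐ[k] B') : VecGrp.ptMap φ ≫ (1 : VecGrp.pt k B ⟶ G) = 1 := MonObj.comp_one _

theorem ptMap_inv (φ : B →ₐ[k] B') (g : VecGrp.pt k B ⟶ G) :
    VecGrp.ptMap φ ≫ g⁻¹ = (VecGrp.ptMap φ ≫ g)⁻¹ := GrpObj.comp_inv _ _

section Structure

variable (G) [IsAffine G.left]

/-- The point with values in `Fn G ⊗ Fn G` whose comorphism is the comultiplication. -/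
noncomputable def mulPt : VecGrp.pt k (Fn G ⊗[k] Fn G) ⟶ G :=
  toPt (Algebra.TensorProduct.includeLeft : Fn G →ₐ[k] Fn G ⊗[k] Fn G) *
    toPt (Algebra.TensorProduct.includeRight : Fn G →ₐ[k] Fn G ⊗[k] Fn G)

/-- The comultiplication of functions. -/
noncomputable def comulAlg : Fn G →ₐ[k] Fn G ⊗[k] Fn G := pullFn (mulPt G)

/-- The counit of functions. -/
noncomputable def counitAlg : Fn G →ₐ[k] k := pullFn (1 : VecGrp.pt k k ⟶ G)

/-- The antipode of functions. -/
noncomputable def antipodeAlg : Fn G →ₐ[k] Fn G := pullFn (univPt G)⁻¹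

theorem toPt_lift (f g : Fn G →ₐ[k] B) :
    toPt ((Algebra.TensorProduct.lift f g fun _ _ => Commute.all _ _).comp (comulAlg G)) = toPt f * toPt g := by
  rw [← ptMap_toPt, comulAlg, toPt_pullFn, mulPt, ptMap_mul, ptMap_toPt, ptMap_toPt,
    Algebra.TensorProduct.lift_comp_includeLeft]
  congr 2
  ext x
  simp

theorem toPt_counit : toPt ((Algebra.ofId k B).comp (counitAlg G)) = (1 : VecGrp.pt k B ⟶ G) := by
  rw [← ptMap_toPt, counitAlg, toPt_pullFn, ptMap_one]

theorem toPt_antipode (f : Fn G →ₐ[k] B) : toPt (f.comp (antipodeAlg G)) = (toPt f)⁻¹ := by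
  rw [← ptMap_toPt, antipodeAlg, toPt_pullFn, ptMap_inv, univPt, ptMap_toPt, AlgHom.comp_id]

/-- The bialgebra of functions on an affine group scheme. -/
noncomputable scoped instance instBialgebra : Bialgebra k (Fn G) :=
  Bialgebra.ofAlgHom (comulAlg G) (counitAlg G)
    (by
      refine (ptEquiv (X := G)).symm.injective ?_
      let j1 : Fn G →ₐ[k] Fn G ⊗[k] (Fn G ⊗[k] Fn G) := Algebra.TensorProduct.includeLeft
      let j2 : Fn G →ₐ[k] Fn G ⊗[k] (Fn G ⊗[k] Fn G) :=
        Algebra.TensorProduct.includeRight.comp Algebra.TensorProduct.includeLeft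
      let j3 : Fn G →ₐ[k] Fn G ⊗[k] (Fn G ⊗[k] Fn G) :=
        Algebra.TensorProduct.includeRight.comp Algebra.TensorProduct.includeRight
      have e1 : (Algebra.TensorProduct.assoc k k k (Fn G) (Fn G) (Fn G)).toAlgHom.comp
          (Algebra.TensorProduct.map (comulAlg G) (AlgHom.id k (Fn G))) =
          Algebra.TensorProduct.lift ((Algebra.TensorProduct.lift j1 j2 fun _ _ => Commute.all _ _).comp (comulAlg G))
            j3 fun _ _ => Commute.all _ _ := by
        apply Algebra.TensorProduct.ext
        · ext x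
          simp only [AlgHom.coe_comp, AlgHom.coe_restrictScalars', Function.comp_apply,
            Algebra.TensorProduct.includeLeft_apply, Algebra.TensorProduct.map_tmul, map_one,
            Algebra.TensorProduct.lift_tmul, _root_.mul_one]
          induction comulAlg G x using TensorProduct.induction_on with
          | zero => simp
          | tmul a b => simp [j1, j2]
          | add p q hp hq => simp only [TensorProduct.add_tmul, map_add, hp, hq]
        · ext x
          simp [j3, Algebra.TensorProduct.one_def]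
      have e2 : Algebra.TensorProduct.map (AlgHom.id k (Fn G)) (comulAlg G) =
          Algebra.TensorProduct.lift j1 ((Algebra.TensorProduct.lift j2 j3 fun _ _ => Commute.all _ _).comp (comulAlg G))
            fun _ _ => Commute.all _ _ := by
        apply Algebra.TensorProduct.ext
        · ext x
          simp [j1]
        · ext x
          simp only [AlgHom.coe_comp, AlgHom.coe_restrictScalars', Function.comp_apply,
            Algebra.TensorProduct.includeRight_apply, Algebra.TensorProduct.map_tmul, map_one,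
            Algebra.TensorProduct.lift_tmul, _root_.one_mul, AlgHom.coe_id, id_eq]
          induction comulAlg G x using TensorProduct.induction_on with
          | zero => simp
          | tmul a b => simp [j2, j3]
          | add p q hp hq => simp only [TensorProduct.tmul_add, map_add, hp, hq]
      show toPt _ = toPt _
      rw [← AlgHom.comp_assoc, e1, e2, toPt_lift, toPt_lift, toPt_lift, toPt_lift, _root_.mul_assoc])
    (by
      refine (ptEquiv (X := G)).symm.injective ?_
      have e : Algebra.TensorProduct.map (counitAlg G) (AlgHom.id k (Fn G)) =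
          Algebra.TensorProduct.lift ((Algebra.ofId k (k ⊗[k] Fn G)).comp (counitAlg G))
            (Algebra.TensorProduct.includeRight : Fn G →ₐ[k] k ⊗[k] Fn G) fun _ _ => Commute.all _ _ := by
        apply Algebra.TensorProduct.ext
        · ext x
          simp
        · ext x
          simp [Algebra.TensorProduct.one_def]
      show toPt _ = toPt _
      rw [e, toPt_lift, toPt_counit, _root_.one_mul]
      congr 1)
    (by
      refine (ptEquiv (X := G)).symm.injective ?_
      have e : Algebra.TensorProduct.map (AlgHom.id k (Fn G)) (counitAlg G) =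
          Algebra.TensorProduct.lift (Algebra.TensorProduct.includeLeft : Fn G →ₐ[k] Fn G ⊗[k] k)
            ((Algebra.ofId k (Fn G ⊗[k] k)).comp (counitAlg G)) fun _ _ => Commute.all _ _ := by
        apply Algebra.TensorProduct.ext
        · ext x
          simp
        · ext x
          simp [Algebra.algebraMap_eq_smul_one, Algebra.TensorProduct.one_def, ← TensorProduct.tmul_smul]
      show toPt _ = toPt _
      rw [e, toPt_lift, toPt_counit, _root_.mul_one]
      congr 1)

theorem comul_eq (x : Fn G) : Coalgebra.comul (R := k) x = comulAlg G x := rfl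

theorem counit_eq (x : Fn G) : Coalgebra.counit (R := k) x = counitAlg G x := rfl

theorem counitAlgHom_eq : Bialgebra.counitAlgHom k (Fn G) = counitAlg G := AlgHom.ext fun _ => rfl

theorem comulAlgHom_eq : Bialgebra.comulAlgHom k (Fn G) = comulAlg G := AlgHom.ext fun _ => rfl

/-- The Hopf algebra of functions on an affine group scheme. -/
noncomputable scoped instance instHopf : HopfAlgebra k (Fn G) :=
  HopfAlgebra.ofAlgHom (antipodeAlg G)
    (by
      refine (ptEquiv (X := G)).symm.injective ?_
      show toPt _ = toPt _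
      rw [comulAlgHom_eq, counitAlgHom_eq, toPt_lift, toPt_counit]
      conv_lhs => arg 1; rw [← AlgHom.id_comp (antipodeAlg G), toPt_antipode]
      exact inv_mul_cancel _)
    (by
      refine (ptEquiv (X := G)).symm.injective ?_
      show toPt _ = toPt _
      rw [comulAlgHom_eq, counitAlgHom_eq, toPt_lift, toPt_counit]
      conv_lhs => arg 2; rw [← AlgHom.id_comp (antipodeAlg G), toPt_antipode]
      exact mul_inv_cancel _)

variable {G}

theorem pullFn_mul (g g' : VecGrp.pt k B ⟶ G) :
    pullFn (g * g') = (WithConv.toConv (pullFn g) * WithConv.toConv (pullFn g')).ofConv := by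
  refine (ptEquiv (X := G)).symm.injective ?_
  show toPt _ = toPt _
  rw [toPt_pullFn]
  have : (WithConv.toConv (pullFn g) * WithConv.toConv (pullFn g')).ofConv =
      (Algebra.TensorProduct.lift (pullFn g) (pullFn g') fun _ _ => Commute.all _ _).comp (comulAlg G) := by
    rw [AlgHom.convMul_def, comulAlgHom_eq, ← AlgHom.comp_assoc]
    show AlgHom.comp _ (comulAlg G) = AlgHom.comp _ (comulAlg G)
    congr 1
    apply Algebra.TensorProduct.ext <;> ext x <;> simp
  rw [this, toPt_lift, toPt_pullFn, toPt_pullFn]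

theorem pullFn_one : pullFn (1 : VecGrp.pt k B ⟶ G) = (Algebra.ofId k B).comp (counitAlg G) := by
  rw [← toPt_counit, pullFn_toPt]

theorem pullFn_one_k : pullFn (1 : VecGrp.pt k k ⟶ G) = Bialgebra.counitAlgHom k (Fn G) := by
  rw [counitAlgHom_eq]; rfl

theorem pullFn_inv (g : VecGrp.pt k B ⟶ G) : pullFn g⁻¹ = (pullFn g).comp (antipodeAlg G) := by
  refine (ptEquiv (X := G)).symm.injective ?_
  show toPt _ = toPt _
  rw [toPt_antipode, toPt_pullFn, toPt_pullFn]

/-- A homomorphism of affine group schemes induces a bialgebra map on functions. -/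
theorem comul_ev [IsAffine H.left] (i : H ⟶ G) [IsMonHom i] :
    (comulAlg H).comp (ev i) = (Algebra.TensorProduct.map (ev i) (ev i)).comp (comulAlg G) := by
  refine (ptEquiv (X := G)).symm.injective ?_
  have e : Algebra.TensorProduct.map (ev i) (ev i) =
      Algebra.TensorProduct.lift ((Algebra.TensorProduct.includeLeft : Fn H →ₐ[k] Fn H ⊗[k] Fn H).comp (ev i))
        ((Algebra.TensorProduct.includeRight : Fn H →ₐ[k] Fn H ⊗[k] Fn H).comp (ev i)) fun _ _ => Commute.all _ _ := by
    apply Algebra.TensorProduct.ext <;> ext x <;> simp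
  show toPt _ = toPt _
  rw [e, toPt_lift, ← toPt_comp, ← toPt_comp, ← toPt_comp, comulAlg, toPt_pullFn, mulPt, MonObj.mul_comp]

theorem counit_ev [IsAffine H.left] (i : H ⟶ G) [IsMonHom i] : (counitAlg H).comp (ev i) = counitAlg G := by
  rw [counitAlg, ← pullFn_comp, MonObj.one_comp]
  rfl

end Structure

section Points

/-- The functions on an affine scheme of finite type form a finitely generated algebra. -/
instance finiteType_fn [IsAffine X.left] [LocallyOfFiniteType X.hom] : Algebra.FiniteType k (Fn X) := by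
  have h1 : X.hom.appTop.hom.FiniteType := HasRingHomProperty.appTop (P := @LocallyOfFiniteType) X.hom inferInstance
  have h2 : (Scheme.ΓSpecIso (CommRingCat.of k)).inv.hom.FiniteType :=
    RingHom.FiniteType.of_surjective _ (ConcreteCategory.bijective_of_isIso (Scheme.ΓSpecIso (CommRingCat.of k)).inv).2
  exact h1.comp h2

instance isNoetherianRing_fn [IsAffine X.left] [LocallyOfFiniteType X.hom] : IsNoetherianRing (Fn X) :=
  Algebra.FiniteType.isNoetherianRing k (Fn X)

/-- A function on a reduced affine scheme of finite type over an algebraically closed field vanishes if it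
vanishes at every rational point. -/
theorem eq_zero_of_forall_pt [IsAlgClosed k] [IsAffine X.left] [LocallyOfFiniteType X.hom] [IsReduced X.left]
    {f : Fn X} (h : ∀ g : VecGrp.pt k k ⟶ X, pullFn g f = 0) : f = 0 := by
  haveI : IsJacobsonRing (Fn X) := isJacobsonRing_of_finiteType (A := k) (B := Fn X)
  have hj : (⊥ : Ideal (Fn X)).jacobson = ⊥ := by
    exact IsJacobsonRing.out ‹IsJacobsonRing (Fn X)› Ideal.isRadical_bot
  have hf : f ∈ (⊥ : Ideal (Fn X)).jacobson := Ideal.mem_sInf.mpr fun {m} hm => by
    haveI := hm.2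
    letI := Ideal.Quotient.field m
    haveI : Algebra.FiniteType k (Fn X ⧸ m) := .of_surjective (Ideal.Quotient.mkₐ k m) Ideal.Quotient.mk_surjective
    haveI : Module.Finite k (Fn X ⧸ m) := finite_of_finite_type_of_isJacobsonRing k (Fn X ⧸ m)
    haveI : Algebra.IsIntegral k (Fn X ⧸ m) := Algebra.IsIntegral.of_finite k _
    let e : (Fn X ⧸ m) ≃ₐ[k] k :=
      (AlgEquiv.ofBijective (Algebra.ofId k (Fn X ⧸ m)) IsAlgClosed.algebraMap_bijective_of_isIntegral).symm
    have := h (toPt (e.toAlgHom.comp (Ideal.Quotient.mkₐ k m)))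
    rw [pullFn_toPt] at this
    exact Ideal.Quotient.eq_zero_iff_mem.mp (e.injective (this.trans (map_zero e).symm))
  rwa [hj, Ideal.mem_bot] at hf

theorem eq_of_forall_pt [IsAlgClosed k] [IsAffine X.left] [LocallyOfFiniteType X.hom] [IsReduced X.left]
    {f f' : Fn X} (h : ∀ g : VecGrp.pt k k ⟶ X, pullFn g f = pullFn g f') : f = f' :=
  sub_eq_zero.mp (eq_zero_of_forall_pt fun g => by rw [map_sub, h g, sub_self])

end Points

end Groth.Agent.AGF27
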