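import Groth.Agent.AGF27.Comod
import Groth.Agent.S6094

/-! The regular rational module of an affine group scheme; invariance of functions under translation. -/

universe u

open CategoryTheory AlgebraicGeometry MonoidalCategory CartesianMonoidalCategory MonObj GrpObj TensorProduct
open Groth.Agent.GrpSchLib.Kunneth
open scoped Groth.Agent.AGF27

namespace Groth.Agent.AGF27

variable {k : Type u} [Field k] {G H T : Over (Spec (CommRingCat.of k))} [GrpObj G] [GrpObj H] [IsAffine G.left]
variable {M : Type u} [AddCommGroup M] [Module k M]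

section OfCoact

variable (δ : M →ₗ[k] M ⊗[k] Fn G)
  (hassoc : (TensorProduct.assoc k M (Fn G) (Fn G)).toLinearMap ∘ₗ δ.rTensor (Fn G) ∘ₗ δ =
    (Coalgebra.comul (R := k) (A := Fn G)).lTensor M ∘ₗ δ)
  (hcounit : (Coalgebra.counit (R := k) (A := Fn G)).lTensor M ∘ₗ δ = (TensorProduct.mk k M k).flip 1)

/-- The endomorphisms given by the points, read from a coaction. -/
noncomputable def actPtHom (B : Type u) [CommRing B] [Algebra k B] :
    (VecGrp.pt k B ⟶ G) →* Module.End B (B ⊗[k] M) where
  toFun g := S6094.act δ (pullFn g)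
  map_one' := by
    have e : pullFn (1 : VecGrp.pt k B ⟶ G) = (1 : WithConv (Fn G →ₐ[k] B)).ofConv := by
      rw [pullFn_one, ← counitAlgHom_eq, AlgHom.convOne_def]
    rw [e]
    exact S6094.act_one δ hcounit
  map_mul' g g' := by
    rw [pullFn_mul]
    exact S6094.act_mul δ hassoc _ _

/-- The rational module of a coaction. -/
noncomputable def gmodOf : VecGrp.GMod G M where
  ρ B _ _ := (LinearMap.GeneralLinearGroup.generalLinearEquiv B (B ⊗[k] M)).toMonoidHom.comp
    (actPtHom δ hassoc hcounit B).toHomUnits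
  naturality {B B'} _ _ _ _ φ g x := by
    show VecGrp.Wmap φ (S6094.act δ (pullFn g) x) = S6094.act δ (pullFn (VecGrp.ptMap φ ≫ g)) (VecGrp.Wmap φ x)
    rw [pullFn_ptMap', S6094.Wmap_act]

theorem gmodOf_ρ_one_tmul {B : Type u} [CommRing B] [Algebra k B] (g : VecGrp.pt k B ⟶ G) (x : M) :
    (gmodOf δ hassoc hcounit).ρ B g ((1 : B) ⊗ₜ[k] x) =
      TensorProduct.comm k M B ((pullFn g).toLinearMap.lTensor M (δ x)) := by
  show S6094.act δ (pullFn g) _ = _
  rw [S6094.act_tmul, one_smul]
  rfl

theorem coactOf_gmodOf : coactOf (gmodOf δ hassoc hcounit) = δ := LinearMap.ext fun x => by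
  have h := lTensor_pullFn_coact (gmodOf δ hassoc hcounit) (univPt G) x
  rw [gmodOf_ρ_one_tmul, comm_comm', univPt, pullFn_toPt] at h
  simpa using h

end OfCoact

theorem gmod_ext {m m' : VecGrp.GMod G M} (h : coactOf m = coactOf m') : m = m' := by
  have h' : ∀ (B : Type u) [CommRing B] [Algebra k B] (g : VecGrp.pt k B ⟶ G) (z : B ⊗[k] M),
      m.ρ B g z = m'.ρ B g z := by
    intro B _ _ g z
    induction z using TensorProduct.induction_on with
    | zero => simp
    | add p q hp hq => simp only [map_add, hp, hq]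
    | tmul b x =>
      rw [show (b ⊗ₜ[k] x : B ⊗[k] M) = b • ((1 : B) ⊗ₜ[k] x) by
          rw [TensorProduct.smul_tmul', smul_eq_mul, _root_.mul_one],
        map_smul, map_smul, ρ_one_tmul, ρ_one_tmul, h]
  obtain ⟨ρ, _⟩ := m
  obtain ⟨ρ', _⟩ := m'
  congr
  funext B _ _
  exact MonoidHom.ext fun g => LinearEquiv.ext (h' B g)

variable (G) in
/-- The regular rational module: functions, acted on by right translation. -/
noncomputable def regRep : VecGrp.GMod G (Fn G) :=
  gmodOf (CoalgebraStruct.comul (R := k) (A := Fn G)) Coalgebra.coassoc Coalgebra.lTensor_counit_comp_comul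

theorem coactOf_regRep : coactOf (regRep G) = CoalgebraStruct.comul (R := k) (A := Fn G) := coactOf_gmodOf _ _ _

theorem coactOf_regRep_apply (f : Fn G) : coactOf (regRep G) f = comulAlg G f := by
  rw [coactOf_regRep]; rfl

/-- Multiplying out a translate of a function. -/
theorem pullFn_mul_apply {B : Type u} [CommRing B] [Algebra k B] (x y : VecGrp.pt k B ⟶ G) (f : Fn G) :
    pullFn (x * y) f = Algebra.TensorProduct.lift (pullFn x) (pullFn y) (fun _ _ => Commute.all _ _) (comulAlg G f) := by
  rw [← AlgHom.comp_apply]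
  congr 1
  refine (ptEquiv (X := G)).symm.injective ?_
  show toPt _ = toPt _
  rw [toPt_lift, toPt_pullFn, toPt_pullFn, toPt_pullFn]

omit [IsAffine G.left] in
theorem ev_mulRight (i : T ⟶ G) {Z : Over (Spec (CommRingCat.of k))} (x : Z ⟶ G) (h : Z ⟶ T) (f : Fn G) :
    ev (lift x h) (((G ◁ i) ≫ μ[G]).left.appTop f) = ev (x * (h ≫ i)) f ∧
      ev (lift x h) ((fst G T).left.appTop f) = ev x f := by
  refine ⟨?_, ?_⟩
  · show ev (lift x h) (ev ((G ◁ i) ≫ μ[G]) f) = _
    rw [ev_ev]
    congr 2
    simp [Hom.mul_def]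
  · show ev (lift x h) (ev (fst G T) f) = _
    rw [ev_ev, lift_fst]

variable [IsAffine T.left]

theorem isRTransInv_iff_forall (i : T ⟶ G) (f : Fn G) :
    AGF.IsRTransInv i f ↔ ∀ (B : Type u) [CommRing B] [Algebra k B] (x : VecGrp.pt k B ⟶ G) (h : VecGrp.pt k B ⟶ T),
      pullFn (x * (h ≫ i)) f = pullFn x f := by
  refine ⟨fun hf B _ _ x h => ?_, fun hf => ?_⟩
  · rw [pullFn_apply, pullFn_apply, ← (ev_mulRight i x h f).1, ← (ev_mulRight i x h f).2]
    exact congrArg _ (congrArg _ hf)
  · haveI : IsAffine (G ⊗ T).left := inferInstanceAs (IsAffine (Limits.pullback G.hom T.hom))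
    have h := hf (Fn (G ⊗ T)) (univPt (G ⊗ T) ≫ fst G T) (univPt (G ⊗ T) ≫ snd G T)
    have e : ∀ (q : G ⊗ T ⟶ G), pullFn (univPt (G ⊗ T) ≫ q) f = ev q f := fun q => by
      rw [pullFn_comp, univPt, pullFn_toPt]; rfl
    rw [Category.assoc, ← MonObj.comp_mul, e, e] at h
    have e2 : fst G T * (snd G T ≫ i) = (G ◁ i) ≫ μ[G] := by
      rw [Hom.mul_def]; congr 1
    rw [e2] at h
    exact h

theorem isRTransInv_iff (i : T ⟶ G) (f : Fn G) :
    AGF.IsRTransInv i f ↔ (ev i).toLinearMap.lTensor (Fn G) (comulAlg G f) = f ⊗ₜ[k] (1 : Fn T) := by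
  rw [isRTransInv_iff_forall]
  refine ⟨fun h => ?_, fun h B _ _ x y => ?_⟩
  · have h1 := h (Fn G ⊗[k] Fn T) (toPt Algebra.TensorProduct.includeLeft) (toPt Algebra.TensorProduct.includeRight)
    rw [pullFn_mul_apply, pullFn_comp, pullFn_toPt, pullFn_toPt] at h1
    refine Eq.trans ?_ h1
    induction comulAlg G f using TensorProduct.induction_on with
    | zero => simp
    | add p q hp hq => simp only [map_add, hp, hq]
    | tmul a b => simp
  · rw [pullFn_mul_apply, pullFn_comp]
    have key : ∀ z : Fn G ⊗[k] Fn G, Algebra.TensorProduct.lift (pullFn x) ((pullFn y).comp (ev i))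
        (fun _ _ => Commute.all _ _) z = Algebra.TensorProduct.lift (pullFn x) (pullFn y)
          (fun _ _ => Commute.all _ _) ((ev i).toLinearMap.lTensor (Fn G) z) := by
      intro z
      induction z using TensorProduct.induction_on with
      | zero => simp
      | add p q hp hq => simp only [map_add, hp, hq]
      | tmul a b => simp
    rw [key, h]
    simp

omit [IsAffine T.left] in
theorem isRTransInv_iff_mem_fixedUnder [IsAffine H.left] (i : H ⟶ G) (f : Fn G) :
    AGF.IsRTransInv i f ↔ f ∈ (regRep G).fixedUnder i := by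
  rw [isRTransInv_iff, mem_fixedUnder_iff, coactOf_regRep_apply]

omit [IsAffine T.left] in
theorem isRTransInv_pt_iff (g : VecGrp.pt k k ⟶ G) (f : Fn G) :
    AGF.IsRTransInv g f ↔ rAct (regRep G) g f = f := by
  haveI : IsAffine (VecGrp.pt k k).left := inferInstanceAs (IsAffine (Spec (CommRingCat.of k)))
  rw [isRTransInv_iff_forall]
  refine ⟨fun h => ?_, fun h B _ _ x y => ?_⟩
  · have h1 := h (Fn G) (univPt G) (VecGrp.ptMap (Algebra.ofId k (Fn G)))
    rw [pullFn_mul_apply, pullFn_ptMap', univPt, pullFn_toPt] at h1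
    refine Eq.trans ?_ h1
    rw [rAct, LinearMap.comp_apply, LinearMap.comp_apply, coactOf_regRep_apply]
    induction comulAlg G f using TensorProduct.induction_on with
    | zero => simp
    | add p q hp hq => simp only [map_add, hp, hq]
    | tmul a b => simp [Algebra.smul_def, mul_comm]
  · have hy : y = VecGrp.ptMap (Algebra.ofId k B) := by
      refine Over.OverMorphism.ext ?_
      have h3 : y.left ≫ (VecGrp.pt k k).hom = (VecGrp.pt k B).hom := Over.w y
      change y.left ≫ Spec.map (CommRingCat.ofHom (algebraMap k k)) = Spec.map (CommRingCat.ofHom (algebraMap k B)) at h3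
      rw [show CommRingCat.ofHom (algebraMap k k) = 𝟙 _ from rfl, Spec.map_id] at h3
      exact (Category.comp_id y.left).symm.trans h3
    subst hy
    rw [pullFn_mul_apply, pullFn_ptMap']
    conv_rhs => rw [← h]
    rw [rAct, LinearMap.comp_apply, LinearMap.comp_apply, coactOf_regRep_apply]
    induction comulAlg G f using TensorProduct.induction_on with
    | zero => simp
    | add p q hp hq => simp only [map_add, hp, hq]
    | tmul a b =>
      simp only [Algebra.TensorProduct.lift_tmul, LinearEquiv.coe_coe, LinearMap.lTensor_tmul, TensorProduct.rid_tmul,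
        map_smul, AlgHom.coe_comp, Function.comp_apply, AlgHom.toLinearMap_apply, Algebra.ofId_apply]
      simp [Algebra.smul_def, mul_comm]

/-- The matrix coefficient function of a rational module. -/
noncomputable def coeff (m : VecGrp.GMod G M) (φ : M →ₗ[k] k) : M →ₗ[k] Fn G :=
  (TensorProduct.lid k (Fn G)).toLinearMap ∘ₗ φ.rTensor (Fn G) ∘ₗ coactOf m

omit [IsAffine T.left] in
theorem pullFn_coeff (m : VecGrp.GMod G M) (φ : M →ₗ[k] k) (g : VecGrp.pt k k ⟶ G) (x : M) :
    pullFn g (coeff m φ x) = φ (rAct m g x) := by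
  simp only [coeff, rAct, LinearMap.comp_apply, LinearEquiv.coe_coe]
  induction coactOf m x using TensorProduct.induction_on with
  | zero => simp
  | add p q hp hq => simp only [map_add, hp, hq]
  | tmul a b => simp [mul_comm]

omit [IsAffine T.left] in
theorem comul_coeff (m : VecGrp.GMod G M) (φ : M →ₗ[k] k) (x : M) :
    comulAlg G (coeff m φ x) = (coeff m φ).rTensor (Fn G) (coactOf m x) := by
  have hc : ∀ z : M ⊗[k] Fn G, comulAlg G (TensorProduct.lid k (Fn G) (φ.rTensor (Fn G) z)) =
      TensorProduct.lid k _ (φ.rTensor (Fn G ⊗[k] Fn G) ((comulAlg G).toLinearMap.lTensor M z)) := by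
    intro z
    induction z using TensorProduct.induction_on with
    | zero => simp
    | add p q hp hq => simp only [map_add, hp, hq]
    | tmul a b => simp
  simp only [coeff, LinearMap.comp_apply, LinearEquiv.coe_coe]
  rw [hc]
  have h := LinearMap.congr_fun (coassoc_coactOf m) x
  simp only [LinearMap.comp_apply, LinearEquiv.coe_coe] at h
  show TensorProduct.lid k _ (φ.rTensor _ ((CoalgebraStruct.comul (R := k) (A := Fn G)).lTensor M (coactOf m x))) = _
  rw [← h]
  clear h hc
  induction coactOf m x using TensorProduct.induction_on with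
  | zero => simp
  | add p q hp hq => simp only [map_add, hp, hq]
  | tmul a b =>
    simp only [LinearMap.rTensor_tmul, LinearMap.comp_apply, LinearEquiv.coe_coe]
    induction coactOf m a using TensorProduct.induction_on with
    | zero => simp
    | add p q hp hq => simp only [TensorProduct.add_tmul, map_add, hp, hq]
    | tmul c d => simp [TensorProduct.smul_tmul']

omit [IsAffine T.left] in
/-- A matrix coefficient of an invariant vector is invariant. -/
theorem isRTransInv_coeff [IsAffine H.left] (m : VecGrp.GMod G M) (φ : M →ₗ[k] k) (i : H ⟶ G) {x : M}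
    (hx : x ∈ m.fixedUnder i) : AGF.IsRTransInv i (coeff m φ x) := by
  rw [mem_fixedUnder_iff] at hx
  rw [isRTransInv_iff, comul_coeff, ← LinearMap.comp_apply, LinearMap.lTensor_comp_rTensor,
    ← LinearMap.rTensor_comp_lTensor, LinearMap.comp_apply, hx, LinearMap.rTensor_tmul]

theorem eq_of_forall_dual {x y : M} (h : ∀ φ : M →ₗ[k] k, φ x = φ y) : x = y := by
  refine sub_eq_zero.mp ((Module.forall_dual_apply_eq_zero_iff (R := k) (x - y)).mp fun φ => ?_)
  rw [map_sub, h φ, sub_self]

omit [IsAffine T.left] in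
/-- A rational point fixing all invariant functions fixes all invariant vectors. -/
theorem rAct_eq_of_forall_isRTransInv [IsAffine H.left] (i : H ⟶ G) (g : VecGrp.pt k k ⟶ G)
    (hg : ∀ f : Fn G, AGF.IsRTransInv i f → AGF.IsRTransInv g f) (m : VecGrp.GMod G M) {x : M}
    (hx : x ∈ m.fixedUnder i) : rAct m g x = x := by
  refine eq_of_forall_dual (k := k) fun φ => ?_
  have h1 := (isRTransInv_pt_iff g _).1 (hg _ (isRTransInv_coeff m φ i hx))
  have h2 := congrArg (pullFn (1 : VecGrp.pt k k ⟶ G)) h1
  rw [pullFn_coeff, rAct_one] at h2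
  rw [← h2, ← pullFn_coeff m φ g]
  have h3 : pullFn (1 * g) (coeff m φ x) = pullFn (1 : VecGrp.pt k k ⟶ G) (rAct (regRep G) g (coeff m φ x)) := by
    rw [pullFn_mul_apply, rAct, LinearMap.comp_apply, LinearMap.comp_apply, coactOf_regRep_apply]
    induction comulAlg G (coeff m φ x) using TensorProduct.induction_on with
    | zero => simp
    | add p q hp hq => simp only [map_add, hp, hq]
    | tmul a b => simp [mul_comm]
  rw [_root_.one_mul] at h3
  exact h3

end Groth.Agent.AGF27
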