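import Groth.Agent.AGF27.ObsVec
import Groth.Agent.AGF27.Translate
import Groth.Agent.GrpSchLib.SmoothReduced
import Groth.Prelude.Def_GmPts

/-! Observable subgroups of linear algebraic groups: passing between the scheme and the algebraic language. -/

universe u

open CategoryTheory AlgebraicGeometry MonoidalCategory CartesianMonoidalCategory MonObj GrpObj TensorProduct WithConv
open Groth.Agent.GrpSchLib.Kunneth
open scoped Groth.Agent.AGF27

namespace Groth.Agent.AGF27

variable {k : Type u} [Field k] {G H : Over (Spec (CommRingCat.of k))} [GrpObj G] [GrpObj H]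
  [IsAffine G.left] [IsAffine H.left]

/-- The bialgebra map of a homomorphism of affine group schemes. -/
noncomputable def evBialg (i : H ⟶ G) [IsMonHom i] : Fn G →ₐc[k] Fn H :=
  BialgHom.ofAlgHom (ev i) (by rw [counitAlgHom_eq, counitAlgHom_eq]; exact counit_ev i)
    (by rw [comulAlgHom_eq, comulAlgHom_eq]; exact (comul_ev i).symm)

theorem evBialg_apply (i : H ⟶ G) [IsMonHom i] (f : Fn G) : evBialg i f = ev i f := rfl

theorem evBialg_toLinearMap (i : H ⟶ G) [IsMonHom i] : (evBialg i).toLinearMap = (ev i).toLinearMap := rfl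

omit [GrpObj G] [GrpObj H] in
theorem ev_surjective (i : H ⟶ G) [IsClosedImmersion i.left] : Function.Surjective (ev i) :=
  i.left.app_surjective ⊤ (isAffineOpen_top _)

omit [GrpObj G] [IsAffine G.left] in
theorem isReduced_fn [Smooth G.hom] : _root_.IsReduced (Fn G) := by
  haveI : IsReduced G.left := Groth.Agent.GrpSchLib.isReduced_of_smooth_field G.hom
  exact inferInstanceAs (_root_.IsReduced Γ(G.left, ⊤))

variable (G) in
/-- Rational points as algebra maps, with the convolution product. -/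
noncomputable def ptConv : (VecGrp.pt k k ⟶ G) ≃* WithConv (Fn G →ₐ[k] k) where
  toFun g := toConv (pullFn g)
  invFun x := toPt x.ofConv
  left_inv g := toPt_pullFn g
  right_inv x := by simp only [pullFn_toPt, toConv_ofConv]
  map_mul' g g' := by rw [pullFn_mul, toConv_ofConv]

theorem res_ptConv (i : H ⟶ G) [IsMonHom i] (h : VecGrp.pt k k ⟶ H) :
    Obs.res (evBialg i) (ptConv H h) = ptConv G (h ≫ i) := by
  apply WithConv.ofConv_injective
  show (pullFn h).comp (ev i) = pullFn (h ≫ i)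
  rw [pullFn_comp]

theorem mem_range_res (i : H ⟶ G) [IsMonHom i] (g : VecGrp.pt k k ⟶ G) :
    ptConv G g ∈ Set.range (Obs.res (evBialg i)) ↔ ∃ h : VecGrp.pt k k ⟶ H, h ≫ i = g := by
  refine ⟨fun ⟨x, hx⟩ => ⟨(ptConv H).symm x, (ptConv G).injective ?_⟩, fun ⟨h, hh⟩ => ⟨ptConv H h, ?_⟩⟩
  · rw [← res_ptConv, MulEquiv.apply_symm_apply, hx]
  · rw [res_ptConv, hh]

theorem isRTransInv_iff_mem_inv (i : H ⟶ G) [IsMonHom i] (f : Fn G) :
    AGF.IsRTransInv i f ↔ f ∈ Obs.inv (evBialg i) := by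
  rw [isRTransInv_iff]
  rfl

theorem mem_rTransInv_iff_mem_inv (i : H ⟶ G) [IsMonHom i] (f : Fn G) :
    f ∈ AGF.rTransInv i ↔ f ∈ Obs.inv (evBialg i) := isRTransInv_iff_mem_inv i f

omit [GrpObj H] [IsAffine H.left] in
theorem rAct_regRep_eq_rtr (g : VecGrp.pt k k ⟶ G) (f : Fn G) :
    rAct (regRep G) g f = Obs.rtr (ptConv G g) f := by
  rw [rAct, LinearMap.comp_apply, LinearMap.comp_apply, coactOf_regRep_apply, Obs.rtr]
  show TensorProduct.rid k (Fn G) ((pullFn g).toLinearMap.lTensor (Fn G) (comulAlg G f)) =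
    Algebra.TensorProduct.rid k k (Fn G) (Algebra.TensorProduct.map (AlgHom.id k (Fn G)) (pullFn g) (comulAlg G f))
  induction comulAlg G f using TensorProduct.induction_on with
  | zero => simp
  | add p q hp hq => simp only [map_add, hp, hq]
  | tmul a b => simp

section Reduced

variable [IsAlgClosed k] [Smooth G.hom] [Smooth H.hom]

/-- The two notions of observability agree. -/
theorem isObservableIn_iff_isObs (i : H ⟶ G) [IsMonHom i] : AGF.IsObservableIn k i ↔ Obs.IsObs (evBialg i) := by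
  haveI := isReduced_fn (G := G)
  haveI := isReduced_fn (G := H)
  refine ⟨fun h x hx => ?_, fun h g hg => ?_⟩
  · have key : ∀ f : Fn G, AGF.IsRTransInv i f → AGF.IsRTransInv ((ptConv G).symm x) f := by
      intro f hf
      rw [isRTransInv_pt_iff, rAct_regRep_eq_rtr, MulEquiv.apply_symm_apply]
      refine Obs.eq_of_forall_apply (k := k) fun y => ?_
      have h1 := hx _ (Obs.translatePt_mem_Wt (evBialg i) ((isRTransInv_iff_mem_inv i f).1 hf) y)
      rw [← Obs.mul_apply_translatePt, ← Obs.one_apply, ← Obs.mul_apply_translatePt, _root_.mul_one] at h1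
      rw [← Obs.mul_apply_rtr, h1]
    have := (mem_range_res i _).2 (h _ key)
    rwa [MulEquiv.apply_symm_apply] at this
  · refine (mem_range_res i g).1 (h (ptConv G g) fun f hf => ?_)
    have h1 := (isRTransInv_pt_iff g f).1 (hg f ((isRTransInv_iff_mem_inv i f).2 hf))
    rw [rAct_regRep_eq_rtr] at h1
    have h2 := congrArg (1 : WithConv (Fn G →ₐ[k] k)).ofConv h1
    rwa [← Obs.mul_apply_rtr, _root_.one_mul, Obs.one_apply] at h2

end Reduced

omit [IsAffine H.left] [GrpObj G] [IsAffine G.left] in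
theorem chiVal_mul (χ : H ⟶ Red.Gm (Spec (CommRingCat.of k))) [IsMonHom χ] {B : Type u} [CommRing B] [Algebra k B]
    (g g' : VecGrp.pt k B ⟶ H) : VecGrp.chiVal χ (g * g') = VecGrp.chiVal χ g * VecGrp.chiVal χ g' := by
  have h1 : (g * g') ≫ χ = (g ≫ χ) * (g' ≫ χ) := MonObj.mul_comp g g' χ
  unfold VecGrp.chiVal
  rw [h1, GmPts.gmFn_mul, map_mul]

omit [IsAffine H.left] [GrpObj G] [IsAffine G.left] in
theorem chiVal_one (χ : H ⟶ Red.Gm (Spec (CommRingCat.of k))) [IsMonHom χ] (B : Type u) [CommRing B] [Algebra k B] :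
    VecGrp.chiVal χ (1 : VecGrp.pt k B ⟶ H) = 1 := by
  have h1 : (1 : VecGrp.pt k B ⟶ H) ≫ χ = 1 := MonObj.one_comp χ
  unfold VecGrp.chiVal
  rw [h1, GmPts.gmFn_one, map_one]

/-- The function of a character is group-like. -/
theorem isGroupLikeElem_gmFn (χ : H ⟶ Red.Gm (Spec (CommRingCat.of k))) [IsMonHom χ] :
    IsGroupLikeElem k (Red.gmFn χ : Fn H) where
  counit_eq_one := by
    show pullFn (1 : VecGrp.pt k k ⟶ H) (Red.gmFn χ) = 1
    rw [← chiVal_eq (H := H), chiVal_one]
  comul_eq_tmul_self := by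
    show pullFn (mulPt H) (Red.gmFn χ) = Red.gmFn χ ⊗ₜ[k] Red.gmFn χ
    rw [← chiVal_eq (H := H), mulPt, chiVal_mul, chiVal_eq, chiVal_eq, pullFn_toPt, pullFn_toPt]
    simp

theorem gmFn_inv_eq_antipode (χ : H ⟶ Red.Gm (Spec (CommRingCat.of k))) [IsMonHom χ] :
    (Red.gmFn χ⁻¹ : Fn H) = HopfAlgebraStruct.antipode (R := k) (Red.gmFn χ : Fn H) :=
  left_inv_eq_right_inv (GmPts.gmFn_inv χ) (isGroupLikeElem_gmFn χ).mul_antipode_cancel

/-- Every group-like function is the function of a character. -/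
theorem exists_character_of_isGroupLikeElem {a : Fn H} (ha : IsGroupLikeElem k a) :
    ∃ χ : H ⟶ Red.Gm (Spec (CommRingCat.of k)), IsMonHom χ ∧ Red.gmFn χ = a := by
  obtain ⟨u, rfl⟩ := ha.isUnit
  let χ : H ⟶ Red.Gm (Spec (CommRingCat.of k)) := GmPts.ptOfUnit u
  have hfn : Red.gmFn χ = (u : Fn H) := GmPts.gmFn_ptOfUnit u
  refine ⟨χ, ?_, hfn⟩
  have hone : η[H] ≫ χ = η := by
    apply GmPts.gmFn_injective
    show Red.gmFn (η[H] ≫ χ) = Red.gmFn η
    let j : VecGrp.pt k k ⟶ 𝟙_ (Over (Spec (CommRingCat.of k))) := toUnit _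
    have hj : Function.Injective j.left.appTop := by
      have : j.left = 𝟙 (Spec (CommRingCat.of k)) := by
        have := Over.w j
        change j.left ≫ 𝟙 _ = Spec.map (CommRingCat.ofHom (algebraMap k k)) at this
        rw [show CommRingCat.ofHom (algebraMap k k) = 𝟙 _ from rfl, Spec.map_id] at this
        exact (Category.comp_id j.left).symm.trans this
      intro a b hab
      rw [this] at hab
      simpa using hab
    apply hj
    rw [← GmPts.gmFn_comp, ← GmPts.gmFn_comp, ← Category.assoc]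
    show Red.gmFn ((1 : VecGrp.pt k k ⟶ H) ≫ χ) = Red.gmFn (1 : VecGrp.pt k k ⟶ Red.Gm _)
    rw [GmPts.gmFn_one]
    apply (ConcreteCategory.bijective_of_isIso (Scheme.ΓSpecIso (CommRingCat.of k)).hom).1
    show VecGrp.chiVal χ (1 : VecGrp.pt k k ⟶ H) = _
    rw [chiVal_eq, hfn, map_one]
    exact ha.counit_eq_one
  have hmul : μ[H] ≫ χ = (χ ⊗ₘ χ) ≫ μ := by
    haveI : IsAffine (H ⊗ H).left := inferInstanceAs (IsAffine (Limits.pullback H.hom H.hom))
    apply GmPts.gmFn_injective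
    have e1 : (χ ⊗ₘ χ) ≫ μ[Red.Gm (Spec (CommRingCat.of k))] = (fst H H ≫ χ) * (snd H H ≫ χ) := by
      rw [Hom.mul_def, lift_fst_comp_snd_comp]
    show Red.gmFn (μ[H] ≫ χ) = Red.gmFn ((χ ⊗ₘ χ) ≫ μ)
    rw [e1, GmPts.gmFn_mul, gmFn_comp, gmFn_comp, gmFn_comp, hfn]
    have e2 : ∀ q : H ⊗ H ⟶ H, ev q (u : Fn H) = pullFn (univPt (H ⊗ H) ≫ q) u := fun q => by
      rw [pullFn_comp, univPt, pullFn_toPt]; rfl
    rw [e2, e2, e2, show (μ[H] : H ⊗ H ⟶ H) = fst H H * snd H H by rw [Hom.mul_def, lift_fst_snd, Category.id_comp],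
      MonObj.comp_mul, pullFn_mul_apply, show comulAlg H (u : Fn H) = _ from ha.comul_eq_tmul_self,
      Algebra.TensorProduct.lift_tmul]
  exact { one_hom := hone, mul_hom := hmul }

end Groth.Agent.AGF27
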