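import Groth.Agent.AGF27.MultAct
import Groth.Agent.AGF27.ObsScheme
import Groth.Agent.GrpSchLib.UnitsScheme
import Mathlib.RingTheory.UniqueFactorizationDomain.Basic

/-! Invariants of a connected group without characters in a factorial algebra. -/

universe u

open CategoryTheory AlgebraicGeometry MonoidalCategory CartesianMonoidalCategory MonObj GrpObj TensorProduct WithConv
open Groth.Agent.GrpSchLib.Kunneth Groth.Agent.ComodLib
open scoped Groth.Agent.AGF27

namespace Groth.Agent.AGF27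

variable {k : Type u} [Field k] [IsAlgClosed k]
variable {G : Over (Spec (CommRingCat.of k))} [GrpObj G] [IsAffine G.left] [Smooth G.hom]

theorem isDomain_fn [ConnectedSpace G.left] : IsDomain (Fn G) := by
  haveI := Groth.Agent.GrpSchLib.Kunneth.isIntegral_grp G
  haveI : Nonempty (⊤ : G.left.Opens) := ⟨⟨genericPoint G.left, trivial⟩⟩
  exact inferInstanceAs (IsDomain Γ(G.left, ⊤))

/-- A connected group permuting finitely many lines fixes each of them. -/
theorem rAct_mem_line [ConnectedSpace G.left] {M : Type u} [AddCommGroup M] [Module k M] (m : VecGrp.GMod G M) {J : Type*} [Fintype J]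
    (e : J → M) {x : M} (h : ∀ g : VecGrp.pt k k ⟶ G, ∃ l, rAct m g x ∈ k ∙ e l) :
    ∀ g : VecGrp.pt k k ⟶ G, rAct m g x ∈ k ∙ x := by
  classical
  haveI := isDomain_fn (G := G)
  haveI := isReduced_fn (G := G)
  obtain ⟨l₀, hl₀⟩ : ∃ l, ∀ g : VecGrp.pt k k ⟶ G, rAct m g x ∈ k ∙ e l := by
    by_contra hcon
    simp only [not_exists, not_forall] at hcon
    choose g hg using hcon
    have hφ : ∀ l, ∃ φ : M →ₗ[k] k, (k ∙ e l) ≤ LinearMap.ker φ ∧ φ (rAct m (g l) x) ≠ 0 := fun l => by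
      obtain ⟨φ, h1, h2⟩ := Submodule.exists_le_ker_of_notMem (hg l)
      exact ⟨φ, h2, h1⟩
    choose φ hφk hφne using hφ
    have hne : ∏ l, coeff m (φ l) x ≠ 0 := Finset.prod_ne_zero_iff.2 fun l _ h0 => hφne l (by
      rw [← pullFn_coeff, h0, map_zero])
    obtain ⟨p, hp⟩ := Groth.Agent.ComodLib.exists_point_ne_zero (k := k) (fun hn => hne hn.eq_zero)
    rw [map_prod, Finset.prod_ne_zero_iff] at hp
    obtain ⟨l, hl⟩ := h (toPt p)
    refine hp l (Finset.mem_univ l) ?_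
    rw [← pullFn_toPt (X := G) p, pullFn_coeff]
    exact hφk l hl
  intro g
  have h1 := hl₀ 1
  rw [rAct_one] at h1
  by_cases hx : x = 0
  · simp [hx]
  · obtain ⟨c, hc⟩ := Submodule.mem_span_singleton.1 h1
    obtain ⟨d, hd⟩ := Submodule.mem_span_singleton.1 (hl₀ g)
    have hc0 : c ≠ 0 := fun h0 => hx (by rw [← hc, h0, zero_smul])
    exact Submodule.mem_span_singleton.2 ⟨d * c⁻¹, by rw [← hd, ← hc, smul_smul, _root_.mul_assoc, inv_mul_cancel₀ hc0, _root_.mul_one]⟩

/-- A stable line is given by a character. -/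
theorem fixed_of_stable_line {M : Type u} [AddCommGroup M] [Module k M] (m : VecGrp.GMod G M)
    (hχ : ∀ χ : G ⟶ Red.Gm (Spec (CommRingCat.of k)), IsMonHom χ → χ = 1)
    {x : M} (h : ∀ g : VecGrp.pt k k ⟶ G, rAct m g x ∈ k ∙ x) : x ∈ m.fixedUnder (𝟙 G) := by
  haveI := isReduced_fn (G := G)
  by_cases hx : x = 0
  · simp [hx]
  letI := comodOf m
  obtain ⟨φ, hφ⟩ := Obs.exists_dual_eq_one (k := k) hx
  let a := coeff m φ x
  have hline : ∀ g, rAct m g x = pullFn g a • x := fun g => by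
    obtain ⟨c, hc⟩ := Submodule.mem_span_singleton.1 (h g)
    rw [pullFn_coeff, ← hc, map_smul, hφ, smul_eq_mul, _root_.mul_one]
  have hco : coactOf m x = x ⊗ₜ[k] a := by
    refine sub_eq_zero.mp (Groth.Agent.ComodLib.eq_zero_of_forall_pt (k := k) (A := Fn G) fun p => ?_)
    rw [map_sub, slice_tmul, sub_eq_zero, ← pullFn_toPt (X := G) p, AlgHom.toLinearMap_apply, ← hline]
    simp only [rAct, LinearMap.comp_apply, LinearEquiv.coe_coe]
    induction coactOf m x using TensorProduct.induction_on with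
    | zero => simp
    | add p q hp hq => simp only [map_add, hp, hq]
    | tmul u v => simp [slice_tmul]
  have h1 : pullFn (1 : VecGrp.pt k k ⟶ G) a = 1 := by rw [pullFn_coeff, rAct_one, hφ]
  have ha : IsGroupLikeElem k a := by
    refine ⟨h1, ?_⟩
    show comulAlg G a = _
    rw [comul_coeff, hco, LinearMap.rTensor_tmul]
  obtain ⟨χ, hχm, hχa⟩ := exists_character_of_isGroupLikeElem ha
  have ha1 : a = 1 := by
    rw [← hχa, hχ χ hχm]
    exact GmPts.gmFn_one
  refine mem_fixedUnder_id_of_forall_rAct m fun g => ?_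
  rw [hline, ha1, map_one, one_smul]

variable {A : Type u} [CommRing A] [IsDomain A] [Algebra k A] [UniqueFactorizationMonoid A]

theorem uniqueFactorizationMonoid_fixedSubalgebra [ConnectedSpace G.left]
    (hχ : ∀ χ : G ⟶ Red.Gm (Spec (CommRingCat.of k)), IsMonHom χ → χ = 1)
    (hunits : ∀ x : Aˣ, (x : A) ∈ Set.range (algebraMap k A)) (ρ : VecGrp.GMod G A) (hρ : ρ.IsMult) :
    UniqueFactorizationMonoid ↥(ρ.fixedSubalgebra hρ (𝟙 G)) := by
  classical
  let R := ρ.fixedSubalgebra hρ (𝟙 G)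
  have hfix : ∀ (r : R) (g : VecGrp.pt k k ⟶ G), rAct ρ g r = r := fun r g => by
    simpa using rAct_eq_of_mem_fixedUnder ρ (i := 𝟙 G) r.2 g
  have hdiv : ∀ (a : R) (c : A), (a : A) ≠ 0 → (a : A) * c ∈ R → c ∈ R := by
    intro a c ha hac
    exact mem_fixedUnder_id_of_forall_rAct ρ fun g => mul_left_cancel₀ ha (by
      conv_lhs => rw [← hfix a g, ← rAct_mult ρ hρ]
      exact hfix ⟨_, hac⟩ g)
  have hprime : ∀ p : R, Prime (p : A) → Prime p := by
    intro p hp
    refine ⟨fun h => hp.ne_zero (by rw [h]; rfl), fun hu => hp.not_isUnit (hu.map R.val), fun a b ⟨c, hc⟩ => ?_⟩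
    have hdvd : (p : A) ∣ (a : A) * b := ⟨c, congrArg Subtype.val hc⟩
    rcases hp.dvd_or_dvd hdvd with ⟨d, hd⟩ | ⟨d, hd⟩
    · exact Or.inl ⟨⟨d, hdiv p d hp.ne_zero (hd ▸ a.2)⟩, Subtype.ext hd⟩
    · exact Or.inr ⟨⟨d, hdiv p d hp.ne_zero (hd ▸ b.2)⟩, Subtype.ext hd⟩
  refine UniqueFactorizationMonoid.of_exists_prime_factors fun r hr => ?_
  have hr0 : (r : A) ≠ 0 := fun h => hr (Subtype.ext h)
  obtain ⟨s, hs, hsr⟩ := UniqueFactorizationMonoid.exists_prime_factors (r : A) hr0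
  have hmem : ∀ p ∈ s, p ∈ R := by
    intro p hp
    have hpr : p ∣ (r : A) := (Multiset.dvd_prod hp).trans hsr.dvd
    refine fixed_of_stable_line ρ hχ (rAct_mem_line ρ (fun q : ↥s.toFinset => (q : A)) fun g => ?_)
    have hq : Prime (rAlg ρ hρ g p) := (MulEquiv.prime_iff (rAlg ρ hρ g).toMulEquiv).2 (hs p hp)
    have hqr : rAlg ρ hρ g p ∣ (r : A) := by
      have := map_dvd (rAlg ρ hρ g) hpr
      rwa [rAlg_apply ρ hρ g r, hfix] at this
    obtain ⟨q, hqs, hdvd⟩ := hq.exists_mem_multiset_dvd (hqr.trans hsr.symm.dvd)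
    obtain ⟨u, hu⟩ := hq.associated_of_dvd (hs q hqs) hdvd
    obtain ⟨c, hc⟩ := hunits u⁻¹
    refine ⟨⟨q, Multiset.mem_toFinset.2 hqs⟩, Submodule.mem_span_singleton.2 ⟨c, ?_⟩⟩
    rw [Algebra.smul_def, hc, ← rAlg_apply ρ hρ g p]
    show (↑u⁻¹ : A) * q = _
    rw [← hu, mul_comm, _root_.mul_assoc, Units.mul_inv, _root_.mul_one]
  let t : Multiset R := s.attach.map fun p => (⟨p.1, hmem p.1 p.2⟩ : R)
  refine ⟨t, fun b hb => ?_, ?_⟩
  · obtain ⟨p, -, rfl⟩ := Multiset.mem_map.1 hb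
    exact hprime _ (hs p.1 p.2)
  · obtain ⟨u, hu⟩ := hsr
    obtain ⟨c, hc⟩ := hunits u
    have hc0 : c ≠ 0 := fun h0 => u.ne_zero (by rw [← hc, h0, map_zero])
    refine ⟨((Units.mk0 c hc0).map (algebraMap k R).toMonoidHom), Subtype.ext ?_⟩
    show ((t.prod : R) : A) * algebraMap k A c = _
    rw [hc, ← hu]
    congr 1
    show R.val t.prod = _
    rw [map_multiset_prod, Multiset.map_map]
    exact congrArg Multiset.prod (Multiset.attach_map_val s)

end Groth.Agent.AGF27
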