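import Groth.Agent.GrpSchLib.AntiAffineGMod
import Groth.Prelude.Def_W4bk4grossh1223Act
import Mathlib.Algebra.TrivSqZeroExt.Basic
import Mathlib.RingTheory.Finiteness.Prod

/-! Invariants of a compatible module: the trick of the trivial square-zero extension. -/

universe u

open CategoryTheory AlgebraicGeometry MonoidalCategory CartesianMonoidalCategory MonObj GrpObj TensorProduct

namespace Groth.Agent.AGF27

variable {k : Type u} [Field k] {G : Over (Spec (CommRingCat.of k))} [GrpObj G]
variable {A : Type u} [CommRing A] [Algebra k A]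
variable {M : Type u} [AddCommGroup M] [Module A M] [Module k M] [IsScalarTower k A M]

open TrivSqZeroExt

/-- The product of two rational modules. -/
noncomputable def gmodProd {M' M'' N : Type u} [AddCommGroup M'] [Module k M'] [AddCommGroup M''] [Module k M'']
    [AddCommGroup N] [Module k N] (θ : N ≃ₗ[k] M' × M'')
    (ρ : VecGrp.GMod G M') (σ : VecGrp.GMod G M'') : VecGrp.GMod G N where
  ρ B _ _ :=
    { toFun := fun g => ((TensorProduct.AlgebraTensorModule.congr (LinearEquiv.refl B B) θ).trans (TensorProduct.prodRight k B B M' M'')).trans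
        (((ρ.ρ B g).prodCongr (σ.ρ B g)).trans ((TensorProduct.AlgebraTensorModule.congr (LinearEquiv.refl B B) θ).trans (TensorProduct.prodRight k B B M' M'')).symm)
      map_one' := by
        refine LinearEquiv.ext fun z => ?_
        apply ((TensorProduct.AlgebraTensorModule.congr (LinearEquiv.refl B B) θ).trans (TensorProduct.prodRight k B B M' M'')).injective
        simp
      map_mul' := fun g h => by
        refine LinearEquiv.ext fun z => ?_
        apply ((TensorProduct.AlgebraTensorModule.congr (LinearEquiv.refl B B) θ).trans (TensorProduct.prodRight k B B M' M'')).injective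
        simp }
  naturality {B B'} _ _ _ _ φ g z := by
    have e : ∀ z : B ⊗[k] N, ((TensorProduct.AlgebraTensorModule.congr (LinearEquiv.refl B' B') θ).trans (TensorProduct.prodRight k B' B' M' M'')) (VecGrp.Wmap φ z) =
        (VecGrp.Wmap φ (((TensorProduct.AlgebraTensorModule.congr (LinearEquiv.refl B B) θ).trans (TensorProduct.prodRight k B B M' M'')) z).1, VecGrp.Wmap φ (((TensorProduct.AlgebraTensorModule.congr (LinearEquiv.refl B B) θ).trans (TensorProduct.prodRight k B B M' M'')) z).2) := by
      intro z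
      induction z using TensorProduct.induction_on with
      | zero => simp only [map_zero, Prod.fst_zero, Prod.snd_zero]; rfl
      | add p q hp hq => simp only [map_add, hp, hq, Prod.fst_add, Prod.snd_add, Prod.mk_add_mk]
      | tmul b x => simp
    apply ((TensorProduct.AlgebraTensorModule.congr (LinearEquiv.refl B' B') θ).trans (TensorProduct.prodRight k B' B' M' M'')).injective
    rw [e]
    show (VecGrp.Wmap φ (((TensorProduct.AlgebraTensorModule.congr (LinearEquiv.refl B B) θ).trans (TensorProduct.prodRight k B B M' M'')) (((TensorProduct.AlgebraTensorModule.congr (LinearEquiv.refl B B) θ).trans (TensorProduct.prodRight k B B M' M'')).symm (ρ.ρ B g (((TensorProduct.AlgebraTensorModule.congr (LinearEquiv.refl B B) θ).trans (TensorProduct.prodRight k B B M' M'')) z).1, σ.ρ B g (((TensorProduct.AlgebraTensorModule.congr (LinearEquiv.refl B B) θ).trans (TensorProduct.prodRight k B B M' M'')) z).2))).1,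
      VecGrp.Wmap φ (((TensorProduct.AlgebraTensorModule.congr (LinearEquiv.refl B B) θ).trans (TensorProduct.prodRight k B B M' M'')) (((TensorProduct.AlgebraTensorModule.congr (LinearEquiv.refl B B) θ).trans (TensorProduct.prodRight k B B M' M'')).symm (ρ.ρ B g (((TensorProduct.AlgebraTensorModule.congr (LinearEquiv.refl B B) θ).trans (TensorProduct.prodRight k B B M' M'')) z).1, σ.ρ B g (((TensorProduct.AlgebraTensorModule.congr (LinearEquiv.refl B B) θ).trans (TensorProduct.prodRight k B B M' M'')) z).2))).2) =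
      ((TensorProduct.AlgebraTensorModule.congr (LinearEquiv.refl B' B') θ).trans (TensorProduct.prodRight k B' B' M' M'')) (((TensorProduct.AlgebraTensorModule.congr (LinearEquiv.refl B' B') θ).trans (TensorProduct.prodRight k B' B' M' M'')).symm (ρ.ρ B' (VecGrp.ptMap φ ≫ g) (((TensorProduct.AlgebraTensorModule.congr (LinearEquiv.refl B' B') θ).trans (TensorProduct.prodRight k B' B' M' M'')) (VecGrp.Wmap φ z)).1,
        σ.ρ B' (VecGrp.ptMap φ ≫ g) (((TensorProduct.AlgebraTensorModule.congr (LinearEquiv.refl B' B') θ).trans (TensorProduct.prodRight k B' B' M' M'')) (VecGrp.Wmap φ z)).2))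
    rw [LinearEquiv.apply_symm_apply, LinearEquiv.apply_symm_apply, e, ρ.naturality, σ.naturality]

/-- Invariants of a finite compatible module are a finite module over the invariants. -/
theorem fixedUnder_fg_of_moduleFinite (hG : VecGrp.IsReductiveGrp k G) (thmA : VecGrp.ReductiveInvariantsFG k)
    [Algebra.FiniteType k A] (ρA : VecGrp.GMod G A) (hρ : ρA.IsMult) [Module.Finite A M]
    (ρM : VecGrp.GMod G M) (hc : VecGrp.GMod.IsCompat ρA ρM) :
    ∃ s : Finset M, (↑s : Set M) ⊆ ρM.fixedUnder (𝟙 G) ∧
      ρM.fixedUnder (𝟙 G) ≤ (Submodule.span ↥(ρA.fixedSubalgebra hρ (𝟙 G)) (↑s : Set M)).restrictScalars k := by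
  classical
  letI : Module Aᵐᵒᵖ M := Module.compHom M ((RingHom.id A).fromOpposite mul_comm)
  haveI : IsCentralScalar A M := ⟨fun _ _ => rfl⟩
  haveI : IsScalarTower k Aᵐᵒᵖ M := ⟨fun c a m => by
    show (c • a).unop • m = c • a.unop • m
    rw [MulOpposite.unop_smul, smul_assoc]⟩
  let R := TrivSqZeroExt A M
  let θ : R ≃ₗ[k] A × M :=
    { toFun := fun r => (r.fst, r.snd)
      invFun := fun x => TrivSqZeroExt.inl x.1 + TrivSqZeroExt.inr x.2
      left_inv := fun r => TrivSqZeroExt.inl_fst_add_inr_snd_eq r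
      right_inv := fun x => Prod.ext (by show (TrivSqZeroExt.inl x.1 + TrivSqZeroExt.inr x.2).fst = x.1; simp) (by show (TrivSqZeroExt.inl x.1 + TrivSqZeroExt.inr x.2).snd = x.2; simp)
      map_add' := fun _ _ => rfl
      map_smul' := fun _ _ => rfl }
  let ρR : VecGrp.GMod G R := gmodProd θ ρA ρM
  let P := fun (B : Type u) [CommRing B] [Algebra k B] =>
    ((TensorProduct.AlgebraTensorModule.congr (LinearEquiv.refl B B) θ).trans (TensorProduct.prodRight k B B A M))
  have hP : ∀ (B : Type u) [CommRing B] [Algebra k B] (b : B) (r : R), P B (b ⊗ₜ[k] r) = (b ⊗ₜ[k] r.fst, b ⊗ₜ[k] r.snd) :=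
    fun B _ _ b r => by simp [P, θ] <;> exact ⟨rfl, rfl⟩
  have hPρ : ∀ (B : Type u) [CommRing B] [Algebra k B] (g : VecGrp.pt k B ⟶ G) (z : B ⊗[k] R),
      P B (ρR.ρ B g z) = (ρA.ρ B g (P B z).1, ρM.ρ B g (P B z).2) := fun B _ _ g z =>
    (P B).apply_symm_apply _
  have hPmul : ∀ (B : Type u) [CommRing B] [Algebra k B] (z w : B ⊗[k] R), P B (z * w) =
      ((P B z).1 * (P B w).1, VecGrp.GMod.smulW k A M B (P B z).1 (P B w).2 + VecGrp.GMod.smulW k A M B (P B w).1 (P B z).2) := by
    intro B _ _ z w
    induction z using TensorProduct.induction_on with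
    | zero => simp [← Prod.zero_eq_mk]
    | add p q hp hq =>
      rw [add_mul, map_add, hp, hq, map_add]
      simp only [Prod.fst_add, Prod.snd_add, add_mul, map_add, LinearMap.add_apply, Prod.mk_add_mk]
      rw [add_add_add_comm]
    | tmul b r =>
      induction w using TensorProduct.induction_on with
      | zero => simp [← Prod.zero_eq_mk]
      | add p q hp hq =>
        rw [mul_add, map_add, hp, hq, map_add]
        simp only [Prod.fst_add, Prod.snd_add, mul_add, map_add, LinearMap.add_apply, Prod.mk_add_mk]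
        rw [add_add_add_comm]
      | tmul c s =>
        rw [Algebra.TensorProduct.tmul_mul_tmul, hP, hP, hP]
        simp only [Algebra.TensorProduct.tmul_mul_tmul, VecGrp.GMod.smulW, TensorProduct.map₂_apply_tmul, Prod.mk.injEq]
        refine ⟨rfl, ?_⟩
        rw [show r.snd = r.snd from rfl]
        show (b * c) ⊗ₜ[k] (r * s).snd = (b * c) ⊗ₜ[k] (r.fst • s.snd) + (c * b) ⊗ₜ[k] (s.fst • r.snd)
        rw [snd_mul, op_smul_eq_smul, TensorProduct.tmul_add, mul_comm c b]
  have hPone : ∀ (B : Type u) [CommRing B] [Algebra k B], P B 1 = (1, 0) := fun B _ _ => by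
    rw [Algebra.TensorProduct.one_def, hP]; simp [Algebra.TensorProduct.one_def]
  have hmult : ρR.IsMult := fun B _ _ g => by
    refine ⟨fun z w => (P B).injective ?_, (P B).injective ?_⟩
    · rw [hPρ, hPmul, hPmul, hPρ, hPρ]
      simp only [(hρ B g).1, map_add, hc B g]
    · rw [hPρ, hPone]
      simp only [(hρ B g).2, map_zero]
  haveI : Module.Finite A R := inferInstanceAs (Module.Finite A (A × M))
  haveI : Algebra.FiniteType k R := Algebra.FiniteType.trans (S := A) inferInstance inferInstance
  obtain ⟨t, hts, ht⟩ := thmA G hG R ρR hmult inferInstance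
  have hfix : ∀ r : R, r ∈ ρR.fixedUnder (𝟙 G) ↔ r.fst ∈ ρA.fixedUnder (𝟙 G) ∧ r.snd ∈ ρM.fixedUnder (𝟙 G) := by
    intro r
    refine ⟨fun h => ⟨fun B _ _ g => ?_, fun B _ _ g => ?_⟩, fun h B _ _ g => (P B).injective ?_⟩
    · have := congrArg (fun z => (P B z).1) (h B g)
      simp only [hPρ, hP] at this
      exact this
    · have := congrArg (fun z => (P B z).2) (h B g)
      simp only [hPρ, hP] at this
      exact this
    · rw [hPρ, hP, h.1 B g, h.2 B g]
  refine ⟨t.image TrivSqZeroExt.snd, fun m hm => ?_, fun m hm => ?_⟩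
  · obtain ⟨r, hr, rfl⟩ := Finset.mem_image.1 hm
    exact ((hfix r).1 (hts hr)).2
  · have hall : ∀ r ∈ Algebra.adjoin k (↑t : Set R), r.fst ∈ ρA.fixedSubalgebra hρ (𝟙 G) ∧
        r.snd ∈ Submodule.span ↥(ρA.fixedSubalgebra hρ (𝟙 G)) (↑(t.image TrivSqZeroExt.snd) : Set M) := by
      intro r hr
      induction hr using Algebra.adjoin_induction with
      | mem r hr => exact ⟨((hfix r).1 (hts hr)).1, Submodule.subset_span (Finset.mem_image_of_mem _ hr)⟩
      | algebraMap c =>
        refine ⟨?_, ?_⟩
        · have : (algebraMap k R c).fst = algebraMap k A c := by simp [R, TrivSqZeroExt.algebraMap_eq_inl']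
          rw [this]; exact Subalgebra.algebraMap_mem _ _
        · have : (algebraMap k R c).snd = 0 := by simp [R, TrivSqZeroExt.algebraMap_eq_inl']
          rw [this]; exact Submodule.zero_mem _
      | add p q _ _ hp hq => exact ⟨add_mem hp.1 hq.1, add_mem hp.2 hq.2⟩
      | mul p q _ _ hp hq =>
        refine ⟨mul_mem hp.1 hq.1, ?_⟩
        rw [TrivSqZeroExt.snd_mul, op_smul_eq_smul]
        exact add_mem (Submodule.smul_mem _ (⟨p.fst, hp.1⟩ : ↥(ρA.fixedSubalgebra hρ (𝟙 G))) hq.2)
          (Submodule.smul_mem _ (⟨q.fst, hq.1⟩ : ↥(ρA.fixedSubalgebra hρ (𝟙 G))) hp.2)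
    have hm' : (TrivSqZeroExt.inr m : R) ∈ ρR.fixedUnder (𝟙 G) := (hfix _).2 ⟨by simp, by simpa using hm⟩
    simpa using (hall _ (ht hm')).2

end Groth.Agent.AGF27
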