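import Groth.Agent.AGF27.ObsGMod
import Groth.Prelude.Def_W4bk4grossh1223Act

/-! Rational actions by algebra automorphisms, on rational points. -/

universe u

open CategoryTheory AlgebraicGeometry MonoidalCategory CartesianMonoidalCategory MonObj GrpObj TensorProduct WithConv
open Groth.Agent.GrpSchLib.Kunneth
open scoped Groth.Agent.AGF27

namespace Groth.Agent.AGF27

variable {k : Type u} [Field k] {G : Over (Spec (CommRingCat.of k))} [GrpObj G] [IsAffine G.left]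
variable {A : Type u} [CommRing A] [Algebra k A] (ρ : VecGrp.GMod G A)

theorem rAct_mult (hρ : ρ.IsMult) (g : VecGrp.pt k k ⟶ G) (x y : A) :
    rAct ρ g (x * y) = rAct ρ g x * rAct ρ g y := by
  apply one_tmul_injective (k := k)
  show (1 : k) ⊗ₜ[k] rAct ρ g (x * y) = ((1 : k) ⊗ₜ[k] (rAct ρ g x * rAct ρ g y) : VecGrp.W k A k)
  rw [show ((1 : k) ⊗ₜ[k] (rAct ρ g x * rAct ρ g y) : VecGrp.W k A k) =
      ((1 : k) ⊗ₜ[k] rAct ρ g x) * ((1 : k) ⊗ₜ[k] rAct ρ g y) by rw [Algebra.TensorProduct.tmul_mul_tmul, _root_.one_mul],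
    ← ρ_k_one_tmul, ← ρ_k_one_tmul, ← ρ_k_one_tmul, ← (hρ k g).1, Algebra.TensorProduct.tmul_mul_tmul, _root_.one_mul]

/-- A rational point as an automorphism of the algebra. -/
noncomputable def rAlg (hρ : ρ.IsMult) (g : VecGrp.pt k k ⟶ G) : A ≃ₐ[k] A :=
  AlgEquiv.ofLinearEquiv (LinearEquiv.ofLinear (rAct ρ g) (rAct ρ g⁻¹)
    (LinearMap.ext fun x => by rw [LinearMap.comp_apply, ← rAct_mul, mul_inv_cancel, rAct_one, LinearMap.id_apply])
    (LinearMap.ext fun x => by rw [LinearMap.comp_apply, rAct_inv_rAct, LinearMap.id_apply]))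
    (by
      apply one_tmul_injective (k := k)
      show (1 : k) ⊗ₜ[k] rAct ρ g (1 : A) = (1 : k) ⊗ₜ[k] (1 : A)
      rw [← ρ_k_one_tmul]
      exact (congrArg _ Algebra.TensorProduct.one_def.symm).trans ((hρ k g).2.trans Algebra.TensorProduct.one_def))
    (rAct_mult ρ hρ g)

theorem rAlg_apply (hρ : ρ.IsMult) (g : VecGrp.pt k k ⟶ G) (x : A) : rAlg ρ hρ g x = rAct ρ g x := rfl

theorem rAct_eq_of_mem_fixedUnder {H : Over (Spec (CommRingCat.of k))} [GrpObj H] {i : H ⟶ G} {x : A}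
    (hx : x ∈ ρ.fixedUnder i) (p : VecGrp.pt k k ⟶ H) : rAct ρ (p ≫ i) x = x :=
  (ρ_fix_iff_rAct ρ _ x).1 (hx k p)

variable [IsAlgClosed k] [Smooth G.hom]

theorem mem_fixedUnder_id_of_forall_rAct {M : Type u} [AddCommGroup M] [Module k M] (m : VecGrp.GMod G M) {x : M}
    (h : ∀ g : VecGrp.pt k k ⟶ G, rAct m g x = x) : x ∈ m.fixedUnder (𝟙 G) := by
  haveI : IsClosedImmersion (𝟙 G : G ⟶ G).left := inferInstanceAs (IsClosedImmersion (𝟙 G.left))
  refine mem_fixedUnder_of_forall_pt (𝟙 G) m fun p => (ρ_fix_iff_rAct m _ x).2 ?_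
  rw [Category.comp_id]
  exact h p

end Groth.Agent.AGF27
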