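import Groth.Agent.ComodLib.Rosenlicht
import Groth.Agent.ComodLib.StableOrbit

/-!
# Observable subgroups, algebraically

`π : A → B` is a surjection of reduced Hopf algebras of finite type over an algebraically closed field.
-/

universe u

open TensorProduct WithConv

namespace Groth.Agent.AGF27.Obs

open Groth.Agent.ComodLib

variable {k : Type u} [Field k] {A B : Type u} [CommRing A] [HopfAlgebra k A] [CommRing B] [HopfAlgebra k B]

/-- Right translation of functions by a point. -/
noncomputable def rtr (g : WithConv (A →ₐ[k] k)) : A →ₐ[k] A :=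
  (Algebra.TensorProduct.rid k k A).toAlgHom.comp
    ((Algebra.TensorProduct.map (AlgHom.id k A) g.ofConv).comp (Bialgebra.comulAlgHom k A))

theorem mul_apply_rtr (x g : WithConv (A →ₐ[k] k)) (f : A) : (x * g).ofConv f = x.ofConv (rtr g f) := by
  rw [AlgHom.convMul_def]
  simp only [rtr, AlgHom.coe_comp, Function.comp_apply, AlgEquiv.coe_toAlgHom]
  induction Bialgebra.comulAlgHom k A f using TensorProduct.induction_on with
  | zero => simp
  | add p q hp hq => simp only [map_add, hp, hq]
  | tmul a b => simp [mul_comm]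

theorem mul_apply_translatePt (x g : WithConv (A →ₐ[k] k)) (f : A) :
    (x * g).ofConv f = g.ofConv (translatePt x.ofConv f) := by
  rw [convMul_ofConv]; rfl

theorem one_apply (f : A) : (1 : WithConv (A →ₐ[k] k)).ofConv f = Coalgebra.counit (R := k) f := by
  simp [AlgHom.convOne_def]

variable (π : A →ₐc[k] B)

/-- The point of `A` below a point of `B`. -/
noncomputable def res : WithConv (B →ₐ[k] k) →* WithConv (A →ₐ[k] k) where
  toFun h := toConv (h.ofConv.comp (π : A →ₐ[k] B))
  map_one' := by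
    apply WithConv.ofConv_injective
    ext f
    simp [AlgHom.convOne_def]
  map_mul' h h' := by
    apply WithConv.ofConv_injective
    ext f
    rw [AlgHom.convMul_def, AlgHom.convMul_def]
    simp only [AlgHom.coe_comp, Function.comp_apply, Bialgebra.comulAlgHom_apply, BialgHom.coe_toAlgHom]
    rw [← CoalgHomClass.map_comp_comul_apply π]
    induction Coalgebra.comul (R := k) f using TensorProduct.induction_on with
    | zero => simp
    | add p q hp hq => simp only [map_add, hp, hq]
    | tmul a b => simp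

theorem res_apply (h : WithConv (B →ₐ[k] k)) (f : A) : (res π h).ofConv f = h.ofConv (π f) := rfl

/-- The semi-invariant functions of weight `χ`. -/
noncomputable def Wt (χ : B) : Submodule k A where
  carrier := {f | (π : A →ₐ[k] B).toLinearMap.lTensor A (Coalgebra.comul (R := k) f) = f ⊗ₜ[k] χ}
  add_mem' {a b} ha hb := by
    simp only [Set.mem_setOf_eq] at ha hb ⊢
    rw [map_add, map_add, ha, hb, TensorProduct.add_tmul]
  zero_mem' := by simp
  smul_mem' c a ha := by
    simp only [Set.mem_setOf_eq] at ha ⊢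
    rw [map_smul, map_smul, ha, TensorProduct.smul_tmul']

/-- The invariant functions. -/
noncomputable def inv : Subalgebra k A :=
  AlgHom.equalizer ((Algebra.TensorProduct.map (AlgHom.id k A) (π : A →ₐ[k] B)).comp (Bialgebra.comulAlgHom k A))
    (Algebra.TensorProduct.includeLeft : A →ₐ[k] A ⊗[k] B)

theorem mem_inv_iff_mem_Wt {f : A} : f ∈ inv π ↔ f ∈ Wt π 1 := Iff.rfl

/-- The subgroup is observable: a point taking the same value as the identity on all invariants lies in it. -/
def IsObs : Prop :=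
  ∀ g : WithConv (A →ₐ[k] k), (∀ f ∈ inv π, g.ofConv f = Coalgebra.counit (R := k) f) → g ∈ Set.range (res π)

variable [IsAlgClosed k] [Algebra.FiniteType k A] [_root_.IsReduced A] [Algebra.FiniteType k B] [_root_.IsReduced B]

omit [Algebra.FiniteType k A] [_root_.IsReduced A] [Algebra.FiniteType k B] [_root_.IsReduced B] in
theorem slice_lTensor_comul (h : WithConv (B →ₐ[k] k)) (f : A) :
    slice h.ofConv.toLinearMap ((π : A →ₐ[k] B).toLinearMap.lTensor A (Coalgebra.comul (R := k) f)) =
      rtr (res π h) f := by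
  simp only [rtr, AlgHom.coe_comp, Function.comp_apply, AlgEquiv.coe_toAlgHom, Bialgebra.comulAlgHom_apply]
  induction Coalgebra.comul (R := k) f using TensorProduct.induction_on with
  | zero => simp
  | add p q hp hq => simp only [map_add, hp, hq]
  | tmul a b => simp [slice_tmul, res_apply]

omit [Algebra.FiniteType k B] [_root_.IsReduced B] in
theorem eq_of_forall_apply {f f' : A} (h : ∀ x : WithConv (A →ₐ[k] k), x.ofConv f = x.ofConv f') : f = f' := by
  refine sub_eq_zero.mp (by_contra fun hne => ?_)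
  obtain ⟨x, hx⟩ := exists_point_ne_zero (k := k) (a := f - f') (fun hn => hne hn.eq_zero)
  exact hx (by rw [map_sub, show x f = x f' from h (toConv x), sub_self])

theorem mem_Wt_iff {χ : B} {f : A} :
    f ∈ Wt π χ ↔ ∀ (x : WithConv (A →ₐ[k] k)) (h : WithConv (B →ₐ[k] k)),
      (x * res π h).ofConv f = x.ofConv f * h.ofConv χ := by
  refine ⟨fun hf x h => ?_, fun hf => ?_⟩
  · rw [mul_apply_rtr, ← slice_lTensor_comul, show _ = f ⊗ₜ[k] χ from hf, slice_tmul, map_smul,
      AlgHom.toLinearMap_apply, smul_eq_mul, mul_comm]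
  · show (π : A →ₐ[k] B).toLinearMap.lTensor A (Coalgebra.comul (R := k) f) = f ⊗ₜ[k] χ
    refine sub_eq_zero.mp (eq_zero_of_forall_pt (k := k) (A := B) fun h => ?_)
    rw [map_sub, slice_tmul, sub_eq_zero, show slice h.toLinearMap _ = _ from slice_lTensor_comul π (toConv h) f]
    refine eq_of_forall_apply (k := k) fun x => ?_
    rw [← mul_apply_rtr, hf, map_smul, AlgHom.toLinearMap_apply, smul_eq_mul, mul_comm]

theorem mem_inv_iff {f : A} :
    f ∈ inv π ↔ ∀ (x : WithConv (A →ₐ[k] k)) (h : WithConv (B →ₐ[k] k)),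
      (x * res π h).ofConv f = x.ofConv f := by
  rw [mem_inv_iff_mem_Wt, mem_Wt_iff]
  simp

theorem translatePt_mem_Wt {χ : B} {f : A} (hf : f ∈ Wt π χ) (y : WithConv (A →ₐ[k] k)) :
    translatePt y.ofConv f ∈ Wt π χ := by
  rw [mem_Wt_iff] at hf ⊢
  intro x h
  rw [← mul_apply_translatePt, ← mul_apply_translatePt, ← mul_assoc, hf]

/-- Points that no invariant separates lie in one coset. -/
theorem IsObs.exists_of_eq (hobs : IsObs π) {x y : WithConv (A →ₐ[k] k)}
    (h : ∀ f ∈ inv π, x.ofConv f = y.ofConv f) : ∃ h : WithConv (B →ₐ[k] k), y = x * res π h := by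
  obtain ⟨h', hh⟩ := hobs (x⁻¹ * y) fun f hf => by
    have h1 := h _ (translatePt_mem_Wt π hf x⁻¹)
    rw [← mul_apply_translatePt, ← mul_apply_translatePt, inv_mul_cancel, one_apply] at h1
    exact h1.symm
  exact ⟨h', by rw [hh, mul_inv_cancel_left]⟩

section Components

omit [Algebra.FiniteType k B] [_root_.IsReduced B]

omit [Algebra.FiniteType k A] [_root_.IsReduced A] [IsAlgClosed k] in
theorem rtr_comp (g g' : WithConv (A →ₐ[k] k)) (f : A) (x : WithConv (A →ₐ[k] k)) :
    x.ofConv (rtr g (rtr g' f)) = x.ofConv (rtr (g * g') f) := by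
  rw [← mul_apply_rtr, ← mul_apply_rtr, ← mul_apply_rtr, mul_assoc]

theorem rtr_rtr_inv (g : WithConv (A →ₐ[k] k)) (f : A) : rtr g (rtr g⁻¹ f) = f :=
  eq_of_forall_apply fun x => by rw [rtr_comp, mul_inv_cancel, ← mul_apply_rtr, mul_one]

theorem comap_rtr_mem_minimalPrimes (g : WithConv (A →ₐ[k] k)) {Q : Ideal A} (hQ : Q ∈ minimalPrimes A) :
    Ideal.comap (rtr g) Q ∈ minimalPrimes A := by
  haveI : Q.IsPrime := hQ.1.1
  refine ⟨⟨inferInstance, bot_le⟩, fun Q' hQ' hle z hz => ?_⟩
  haveI : Q'.IsPrime := hQ'.1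
  have hle' : Q'.comap (rtr g⁻¹) ≤ Q := fun w hw => by
    have hw' : rtr g (rtr g⁻¹ w) ∈ Q := hle hw
    rwa [rtr_rtr_inv] at hw'
  have := (hQ.2 ⟨Ideal.IsPrime.comap (rtr g⁻¹), bot_le⟩ hle') hz
  rw [Ideal.mem_comap] at this
  have e : rtr g⁻¹ (rtr g z) = z := by
    simpa using rtr_rtr_inv g⁻¹ z
  rwa [e] at this

/-- Only one minimal prime lies below a point. -/
theorem minimalPrime_unique (x : WithConv (A →ₐ[k] k)) {P Q : Ideal A} (hP : P ∈ minimalPrimes A)
    (hQ : Q ∈ minimalPrimes A) (lP : P ≤ RingHom.ker x.ofConv) (lQ : Q ≤ RingHom.ker x.ofConv) : P = Q := by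
  classical
  haveI : IsNoetherianRing A := Algebra.FiniteType.isNoetherianRing k A
  haveI : P.IsPrime := hP.1.1
  let T := (minimalPrimes.finite_of_isNoetherianRing A).toFinset.erase P
  obtain ⟨s, hsT, hs⟩ : ∃ s, (∀ R ∈ T, s ∈ R) ∧ s ∉ P := by
    by_contra hcon
    simp only [not_exists, not_and, not_not] at hcon
    have hle : T.inf id ≤ P := fun s hs => hcon s fun R hR => (Submodule.mem_finsetInf.mp hs) R hR
    obtain ⟨R, hR, hRP⟩ := (Ideal.IsPrime.inf_le' inferInstance).mp hle
    have hRm : R ∈ minimalPrimes A := (Set.Finite.mem_toFinset _).mp (Finset.mem_of_mem_erase hR)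
    exact Finset.ne_of_mem_erase hR (le_antisymm hRP (hP.2 ⟨hRm.1.1, bot_le⟩ hRP))
  obtain ⟨w, hw⟩ := exists_point_ne_zero (k := k) (a := Ideal.Quotient.mk P s)
    (fun hn => hs (Ideal.Quotient.eq_zero_iff_mem.mp hn.eq_zero))
  let x₀ : WithConv (A →ₐ[k] k) := toConv (w.comp (Ideal.Quotient.mkₐ k P))
  have hone : ∀ R ∈ minimalPrimes A, R ≤ RingHom.ker x₀.ofConv → R = P := fun R hR hl => by
    by_contra hne
    exact hw (hl (hsT R (Finset.mem_erase.mpr ⟨hne, (Set.Finite.mem_toFinset _).mpr hR⟩)))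
  let g := x⁻¹ * x₀
  have hpull : ∀ R ∈ minimalPrimes A, R ≤ RingHom.ker x.ofConv → Ideal.comap (rtr g) R = P := fun R hR hl =>
    hone _ (comap_rtr_mem_minimalPrimes g hR) fun z hz => by
      have hz' : x.ofConv (rtr g z) = 0 := hl hz
      rw [← mul_apply_rtr, mul_inv_cancel_left] at hz'
      exact hz'
  have e := (hpull P hP lP).trans (hpull Q hQ lQ).symm
  ext z
  have := SetLike.ext_iff.mp e (rtr g⁻¹ z)
  simpa only [Ideal.mem_comap, rtr_rtr_inv] using this

omit [Algebra.FiniteType k A] [_root_.IsReduced A] [IsAlgClosed k] in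
theorem isPrime_ker (x : WithConv (A →ₐ[k] k)) : (RingHom.ker x.ofConv).IsPrime := RingHom.ker_isPrime _

/-- The component through a point. -/
noncomputable def comp (x : WithConv (A →ₐ[k] k)) : Ideal A :=
  (haveI := isPrime_ker x; Ideal.exists_minimalPrimes_le (I := (⊥ : Ideal A)) (J := RingHom.ker x.ofConv) bot_le).choose

theorem comp_mem (x : WithConv (A →ₐ[k] k)) : comp x ∈ minimalPrimes A :=
  (haveI := isPrime_ker x; Ideal.exists_minimalPrimes_le (I := (⊥ : Ideal A)) (J := RingHom.ker x.ofConv) bot_le).choose_spec.1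

theorem comp_le (x : WithConv (A →ₐ[k] k)) : comp x ≤ RingHom.ker x.ofConv :=
  (haveI := isPrime_ker x; Ideal.exists_minimalPrimes_le (I := (⊥ : Ideal A)) (J := RingHom.ker x.ofConv) bot_le).choose_spec.2

theorem comp_eq_of_le {x : WithConv (A →ₐ[k] k)} {P : Ideal A} (hP : P ∈ minimalPrimes A)
    (h : P ≤ RingHom.ker x.ofConv) : comp x = P :=
  minimalPrime_unique x (comp_mem x) hP (comp_le x) h

theorem comp_mul (x g : WithConv (A →ₐ[k] k)) : comp (x * g) = Ideal.comap (rtr g) (comp x) :=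
  comp_eq_of_le (comap_rtr_mem_minimalPrimes g (comp_mem x)) fun z hz => by
    rw [RingHom.mem_ker, mul_apply_rtr]
    exact comp_le x hz

/-- The indicator function of a set of components. -/
theorem exists_indicator (S : Set (Ideal A)) :
    ∃ e : A, ∀ x : WithConv (A →ₐ[k] k),
      (comp x ∈ S → x.ofConv e = 1) ∧ (comp x ∉ S → x.ofConv e = 0) := by
  classical
  haveI : IsNoetherianRing A := Algebra.FiniteType.isNoetherianRing k A
  haveI : Finite {P : Ideal A // P ∈ minimalPrimes A} := (minimalPrimes.finite_of_isNoetherianRing A).to_subtype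
  let f : {P : Ideal A // P ∈ minimalPrimes A} → Ideal A := fun P => P.1
  have hco : Pairwise (Function.onFun IsCoprime f) := by
    intro P Q hPQ
    rw [Function.onFun, Ideal.isCoprime_iff_sup_eq]
    by_contra htop
    obtain ⟨w, hw⟩ := exists_point (k := k) _ htop
    exact hPQ (Subtype.ext (minimalPrime_unique (toConv w) P.2 Q.2 (le_sup_left.trans hw) (le_sup_right.trans hw)))
  obtain ⟨e, he⟩ := Ideal.exists_forall_sub_mem_ideal hco (fun R => if R.1 ∈ S then (1 : A) else 0)
  refine ⟨e, fun x => ⟨fun hx => ?_, fun hx => ?_⟩⟩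
  · have := comp_le x (he ⟨comp x, comp_mem x⟩)
    rwa [RingHom.mem_ker, if_pos hx, map_sub, map_one, sub_eq_zero] at this
  · have := comp_le x (he ⟨comp x, comp_mem x⟩)
    rwa [RingHom.mem_ker, if_neg hx, sub_zero] at this

end Components

omit [IsAlgClosed k] [_root_.IsReduced A] [_root_.IsReduced B] [Algebra.FiniteType k B] in
/-- Finitely many invariants separate what all invariants separate. -/
theorem exists_separating :
    ∃ s : Finset A, (↑s : Set A) ⊆ inv π ∧ ∀ x y : WithConv (A →ₐ[k] k),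
      (∀ f ∈ s, x.ofConv f = y.ofConv f) → ∀ f ∈ inv π, x.ofConv f = y.ofConv f := by
  classical
  haveI : IsNoetherianRing A := Algebra.FiniteType.isNoetherianRing k A
  haveI : IsNoetherianRing (A ⊗[k] A) := by
    haveI : Algebra.FiniteType k (A ⊗[k] A) := Algebra.FiniteType.trans (S := A) inferInstance inferInstance
    exact Algebra.FiniteType.isNoetherianRing k _
  let e : A → A ⊗[k] A := fun f => f ⊗ₜ[k] 1 - (1 : A) ⊗ₜ[k] f
  obtain ⟨T, hT⟩ := (IsNoetherian.noetherian (Ideal.span (e '' (inv π : Set A))) : (Ideal.span _).FG)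
  have hsub : ∀ z ∈ T, ∃ s : Finset A, (↑s : Set A) ⊆ inv π ∧ z ∈ Ideal.span (e '' (↑s : Set A)) := by
    intro z hz
    obtain ⟨t, hts, hzt⟩ := Submodule.mem_span_finite_of_mem_span (hT.le (Submodule.subset_span hz))
    obtain ⟨s, hs, rfl⟩ := Finset.subset_set_image_iff.1 hts
    exact ⟨s, hs, by rwa [Finset.coe_image] at hzt⟩
  choose! s hs hzs using hsub
  refine ⟨T.biUnion s, by simpa [Set.iUnion_subset_iff] using hs, fun x y hxy f hf => ?_⟩
  let ψ : A ⊗[k] A →ₐ[k] k := Algebra.TensorProduct.lift x.ofConv y.ofConv fun _ _ => Commute.all _ _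
  have hψ : ∀ a, ψ (e a) = x.ofConv a - y.ofConv a := fun a => by simp [ψ, e]
  have hk : Ideal.span (↑T : Set (A ⊗[k] A)) ≤ RingHom.ker ψ.toRingHom := by
    refine Ideal.span_le.2 fun z hz => ?_
    refine (Ideal.span_le.2 ?_) (hzs z hz)
    rintro _ ⟨a, ha, rfl⟩
    show ψ (e a) = 0
    rw [hψ, hxy a (Finset.mem_biUnion.2 ⟨z, hz, ha⟩), sub_self]
  have : ψ (e f) = 0 := hk (hT.ge (Ideal.subset_span ⟨f, hf, rfl⟩))
  rwa [hψ, sub_eq_zero] at this

/-- **Key lemma.** For an observable subgroup the inverse of the weight of a semi-invariant function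
is again a weight of a semi-invariant function. -/
theorem IsObs.exists_inverse_weight (hobs : IsObs π) {χ ψ : B} (hψχ : ψ * χ = 1) {f : A} (hf : f ∈ Wt π χ)
    (hf1 : Coalgebra.counit (R := k) f ≠ 0) : ∃ a : A, a ∈ Wt π ψ ∧ Coalgebra.counit (R := k) a ≠ 0 := by
  classical
  haveI : IsNoetherianRing A := Algebra.FiniteType.isNoetherianRing k A
  rw [mem_Wt_iff] at hf
  have hchi : ∀ h : WithConv (B →ₐ[k] k), h.ofConv ψ * h.ofConv χ = 1 := fun h => by rw [← map_mul, hψχ, map_one]
  obtain ⟨s, hsinv, hsep⟩ := exists_separating π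
  have hone : ∀ x : WithConv (A →ₐ[k] k), x.ofConv f ≠ 0 → ∀ h, (x * res π h).ofConv f ≠ 0 := fun x hx h => by
    rw [hf]
    exact mul_ne_zero hx fun h0 => by simpa [h0] using hchi h
  let P0 : Ideal A := comp (1 : WithConv (A →ₐ[k] k))
  have hP0 : P0 ∈ minimalPrimes A := comp_mem _
  haveI : P0.IsPrime := hP0.1.1
  let D1 := A ⧸ P0
  haveI : IsDomain D1 := Ideal.Quotient.isDomain P0
  let fb : D1 := Ideal.Quotient.mkₐ k P0 f
  have hfb : fb ≠ 0 := fun h => hf1 (by
    rw [← one_apply]
    exact comp_le (1 : WithConv (A →ₐ[k] k)) (Ideal.Quotient.eq_zero_iff_mem.mp h))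
  -- an invariant vanishing where `f` vanishes on the identity component, but not on all of it
  obtain ⟨q, hqinv, hqz, x0, hx0c, hx0⟩ : ∃ q, q ∈ inv π ∧
      (∀ x : WithConv (A →ₐ[k] k), comp x = P0 → x.ofConv f = 0 → x.ofConv q = 0) ∧
      ∃ x0 : WithConv (A →ₐ[k] k), comp x0 = P0 ∧ x0.ofConv q ≠ 0 := by
    let J : Ideal D1 := Ideal.span {fb}
    by_cases hJ : J = ⊤
    · refine ⟨1, one_mem _, fun x hx hxf => absurd hxf ?_, 1, rfl, by simp⟩
      intro h0
      obtain ⟨u, hu⟩ := Ideal.span_singleton_eq_top.mp hJ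
      let xb : D1 →ₐ[k] k := Ideal.Quotient.liftₐ P0 x.ofConv fun a ha => comp_le x (hx.symm ▸ ha)
      have : xb fb = 0 := h0
      rw [← hu] at this
      exact (u.isUnit.map xb).ne_zero this
    by_contra hcon
    let T : Set D1 := Ideal.Quotient.mkₐ k P0 '' (↑s : Set A)
    let R : Subalgebra k D1 := Algebra.adjoin k T
    haveI : Algebra.FiniteType k R :=
      (Subalgebra.fg_iff_finiteType _).mp (Subalgebra.fg_def.mpr ⟨T, s.finite_toSet.image _, rfl⟩)
    haveI : IsNoetherianRing R := Algebra.FiniteType.isNoetherianRing k R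
    haveI : Nontrivial (D1 ⧸ J) := Ideal.Quotient.nontrivial_iff.mpr hJ
    let φ : R →ₐ[k] D1 ⧸ J := (Ideal.Quotient.mkₐ k J).comp R.val
    haveI : Algebra.FiniteType k D1 := .of_surjective (Ideal.Quotient.mkₐ k P0) Ideal.Quotient.mk_surjective
    haveI : Algebra.FiniteType k (D1 ⧸ J) := .of_surjective (Ideal.Quotient.mkₐ k J) Ideal.Quotient.mk_surjective
    have hfp : φ.toRingHom.FinitePresentation :=
      RingHom.FinitePresentation.of_finiteType.mp
        (RingHom.FiniteType.of_comp_finiteType (f := algebraMap k R)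
          (by
            show (φ.toRingHom.comp (algebraMap k R)).FiniteType
            rw [show φ.toRingHom.comp (algebraMap k R) = algebraMap k (D1 ⧸ J) from φ.comp_algebraMap]
            exact RingHom.finiteType_algebraMap.mpr inferInstance))
    have hinj : Function.Injective φ := by
      refine (injective_iff_map_eq_zero φ).mpr fun r hr => ?_
      have hrJ : (r : D1) ∈ J := Ideal.Quotient.eq_zero_iff_mem.mp hr
      obtain ⟨c, hc⟩ := Ideal.mem_span_singleton'.mp hrJ
      have hrmem : (r : D1) ∈ (Algebra.adjoin k (↑s : Set A)).map (Ideal.Quotient.mkₐ k P0) := by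
        rw [AlgHom.map_adjoin]; exact r.2
      obtain ⟨q, hq, hqr⟩ := hrmem
      by_contra hne
      have hqP : q ∉ P0 := fun h => hne (Subtype.ext (by
        rw [← hqr]; exact Ideal.Quotient.eq_zero_iff_mem.mpr h))
      obtain ⟨w, hw⟩ := exists_point_ne_zero (k := k) (a := Ideal.Quotient.mkₐ k P0 q)
        (fun hn => hqP (Ideal.Quotient.eq_zero_iff_mem.mp hn.eq_zero))
      refine hcon ⟨q, Algebra.adjoin_le hsinv hq, fun x hx hxf => ?_,
        toConv (w.comp (Ideal.Quotient.mkₐ k P0)), comp_eq_of_le hP0 fun a ha => ?_, hw⟩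
      · let xb : D1 →ₐ[k] k := Ideal.Quotient.liftₐ P0 x.ofConv fun a ha => comp_le x (hx.symm ▸ ha)
        have h1 : xb (Ideal.Quotient.mkₐ k P0 q) = xb (c * fb) := congrArg xb (hqr.trans hc.symm)
        rw [map_mul, show xb fb = 0 from hxf, mul_zero] at h1
        exact h1
      · show w (Ideal.Quotient.mk P0 a) = 0
        rw [Ideal.Quotient.eq_zero_iff_mem.mpr ha, map_zero]
    obtain ⟨c, hc, hrange⟩ := exists_basicOpen_subset_range φ.toRingHom hfp hinj
    have hc0 : (c : D1) ≠ 0 := fun h => hc (by rw [show c = 0 from Subtype.ext h]; exact IsNilpotent.zero)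
    obtain ⟨w, hw⟩ := exists_point_ne_zero (k := k) (a := (c : D1) * fb)
      (fun hn => mul_ne_zero hc0 hfb hn.eq_zero)
    rw [map_mul, mul_ne_zero_iff] at hw
    obtain ⟨g, hg⟩ := exists_lift_of_mem_range φ (w.comp R.val) (hrange _ fun h => hw.1 h)
    let x : WithConv (A →ₐ[k] k) := toConv (w.comp (Ideal.Quotient.mkₐ k P0))
    let y : WithConv (A →ₐ[k] k) := toConv ((g.comp (Ideal.Quotient.mkₐ k J)).comp (Ideal.Quotient.mkₐ k P0))
    have hxy : ∀ a ∈ s, y.ofConv a = x.ofConv a := fun a ha => by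
      have := AlgHom.congr_fun hg ⟨Ideal.Quotient.mkₐ k P0 a, Algebra.subset_adjoin ⟨a, ha, rfl⟩⟩
      exact this
    obtain ⟨h, hh⟩ := hobs.exists_of_eq π (hsep y x hxy)
    have hy : y.ofConv f = 0 := by
      show g (Ideal.Quotient.mk J fb) = 0
      rw [Ideal.Quotient.eq_zero_iff_mem.mpr (Ideal.mem_span_singleton_self fb), map_zero]
    exact hw.2 (show x.ofConv f = 0 by rw [hh, hf, hy, zero_mul])
  -- the indicator of the components meeting the subgroup
  obtain ⟨e, he⟩ := exists_indicator (k := k) (A := A) (Set.range fun h : WithConv (B →ₐ[k] k) => comp (res π h))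
  have hcomp1 : ∀ h, comp (res π h) = Ideal.comap (rtr (res π h)) P0 := fun h => by
    rw [← comp_mul, one_mul]
  have hS : ∀ x h, comp x ∈ Set.range (fun h => comp (res π h)) →
      comp (x * res π h) ∈ Set.range (fun h => comp (res π h)) := by
    rintro x h ⟨h', hx⟩
    exact ⟨h' * h, by simp only at hx ⊢; rw [map_mul, comp_mul, comp_mul, hx]⟩
  have heinv : e ∈ inv π := by
    rw [mem_inv_iff]
    intro x h
    by_cases hx : comp x ∈ Set.range (fun h => comp (res π h))
    · rw [(he _).1 hx, (he _).1 (hS x h hx)]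
    · refine ((he _).2 fun h' => hx ?_).trans ((he _).2 hx).symm
      have := hS _ h⁻¹ h'
      rwa [map_inv, mul_inv_cancel_right] at this
  have hqv : ∀ x : WithConv (A →ₐ[k] k), x.ofConv f = 0 → x.ofConv (q * e) = 0 := by
    intro x hxf
    rw [map_mul]
    by_cases hx : comp x ∈ Set.range (fun h => comp (res π h))
    · obtain ⟨h, hh⟩ := hx
      have h1 : comp (x * res π h⁻¹) = P0 := by
        simp only at hh
        rw [comp_mul, ← hh, ← comp_mul, ← map_mul, mul_inv_cancel, map_one]
      have h2 := hqz _ h1 (by rw [hf, hxf, zero_mul])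
      rw [(mem_inv_iff π).mp hqinv] at h2
      rw [h2, zero_mul]
    · rw [(he x).2 hx, mul_zero]
  have hrad : q * e ∈ Ideal.radical (Ideal.span {f}) := by
    by_contra hnr
    obtain ⟨w, hw⟩ := exists_point_ne_zero (k := k)
      (a := Ideal.Quotient.mkₐ k (Ideal.span {f}) (q * e)) (fun ⟨n, hn⟩ => hnr ⟨n,
        Ideal.Quotient.eq_zero_iff_mem.mp (by rw [map_pow]; exact hn)⟩)
    refine hw (hqv (toConv (w.comp (Ideal.Quotient.mkₐ k _))) ?_)
    show w (Ideal.Quotient.mk _ f) = 0
    rw [Ideal.Quotient.eq_zero_iff_mem.mpr (Ideal.mem_span_singleton_self f), map_zero]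
  obtain ⟨n, hn⟩ := hrad
  obtain ⟨a, ha⟩ := Ideal.mem_span_singleton'.mp hn
  have hval : ∀ x : WithConv (A →ₐ[k] k), x.ofConv a * x.ofConv f = x.ofConv (q * e) ^ n := fun x => by
    rw [← map_mul, ha, map_pow]
  have hqe : q * e ∈ inv π := mul_mem hqinv heinv
  have hWt : q * e * a ∈ Wt π ψ := by
    rw [mem_Wt_iff]
    intro x h
    rw [map_mul _ (q * e) a, map_mul _ (q * e) a, (mem_inv_iff π).mp hqe x h]
    by_cases hx : x.ofConv f = 0
    · rw [hqv x hx, zero_mul, zero_mul, zero_mul]
    · refine mul_right_cancel₀ (hone x hx h) ?_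
      rw [mul_assoc, hval, (mem_inv_iff π).mp hqe x h, hf, ← hval x]
      linear_combination (-(x.ofConv (q * e) * x.ofConv a * x.ofConv f)) * hchi h
  have hqe0 : x0.ofConv (q * e) ≠ 0 := by
    rw [map_mul, (he x0).1 ⟨1, by simp [hx0c, P0]⟩, mul_one]
    exact hx0
  refine ⟨translatePt x0.ofConv (q * e * a), translatePt_mem_Wt π hWt x0, ?_⟩
  rw [← one_apply, ← mul_apply_translatePt, mul_one, map_mul]
  exact mul_ne_zero hqe0 fun h => pow_ne_zero n hqe0 (by rw [← hval, h, zero_mul])


end Groth.Agent.AGF27.Obs
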