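import Groth.Agent.AGF27.ObsAlg

/-!
# Observability passes up from open subgroups and down through subgroups

`π : A → B` and `σ : A → C` are Hopf algebra surjections; subgroups are compared through their points.
-/

universe u

open TensorProduct WithConv

namespace Groth.Agent.AGF27.Obs

open Groth.Agent.ComodLib

variable {k : Type u} [Field k] [IsAlgClosed k]
variable {A B C : Type u} [CommRing A] [HopfAlgebra k A] [CommRing B] [HopfAlgebra k B] [CommRing C] [HopfAlgebra k C]
variable [Algebra.FiniteType k A] [_root_.IsReduced A] [Algebra.FiniteType k B] [_root_.IsReduced B]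
  [Algebra.FiniteType k C] [_root_.IsReduced C]

/-- An indicator function of the subgroup. -/
def HasIndicator (π : A →ₐc[k] B) : Prop :=
  ∃ e : A, ∀ x : WithConv (A →ₐ[k] k),
    (x ∈ Set.range (res π) → x.ofConv e = 1) ∧ (x ∉ Set.range (res π) → x.ofConv e = 0)

omit [IsAlgClosed k] [Algebra.FiniteType k A] [_root_.IsReduced A] [Algebra.FiniteType k B] [_root_.IsReduced B]
  [Algebra.FiniteType k C] [_root_.IsReduced C] in
theorem res_mul_mem_iff (π : A →ₐc[k] B) (h : WithConv (B →ₐ[k] k)) (x : WithConv (A →ₐ[k] k)) :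
    x * res π h ∈ Set.range (res π) ↔ x ∈ Set.range (res π) := by
  rw [← MonoidHom.coe_range, SetLike.mem_coe, SetLike.mem_coe]
  exact Subgroup.mul_mem_cancel_right _ ⟨h, rfl⟩

omit [Algebra.FiniteType k C] [_root_.IsReduced C] in
/-- An open subgroup is observable. -/
theorem HasIndicator.isObs {π : A →ₐc[k] B} (h : HasIndicator π) : IsObs π := by
  obtain ⟨e, he⟩ := h
  intro x hx
  have hmem : e ∈ inv π := by
    rw [mem_inv_iff]
    intro y h
    by_cases hy : y ∈ Set.range (res π)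
    · rw [(he _).1 ((res_mul_mem_iff π h y).2 hy), (he _).1 hy]
    · rw [(he _).2 (fun h' => hy ((res_mul_mem_iff π h y).1 h')), (he _).2 hy]
  by_contra hne
  have h1 := hx e hmem
  rw [(he x).2 hne, ← one_apply, (he 1).1 ⟨1, map_one _⟩] at h1
  exact zero_ne_one h1

omit [_root_.IsReduced A] [Algebra.FiniteType k B] [_root_.IsReduced B] [Algebra.FiniteType k C] [_root_.IsReduced C] in
/-- An open subgroup has finitely many cosets. -/
theorem HasIndicator.exists_finset {π : A →ₐc[k] B} (h : HasIndicator π) :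
    ∃ s : Finset (WithConv (A →ₐ[k] k)), ∀ y, ∃ g ∈ s, g⁻¹ * y ∈ Set.range (res π) := by
  classical
  obtain ⟨e, he⟩ := h
  have htop : Ideal.span (Set.range fun g : WithConv (A →ₐ[k] k) => rtr g e) = ⊤ := by
    by_contra hne
    obtain ⟨w, hw⟩ := exists_point (k := k) _ hne
    have h0 : (toConv w).ofConv (rtr (toConv w)⁻¹ e) = 0 := hw (Ideal.subset_span ⟨_, rfl⟩)
    rw [← mul_apply_rtr, mul_inv_cancel, (he 1).1 ⟨1, map_one _⟩] at h0
    exact one_ne_zero h0
  obtain ⟨t, hts, ht⟩ := Submodule.mem_span_finite_of_mem_span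
    (show (1 : A) ∈ Ideal.span (Set.range fun g : WithConv (A →ₐ[k] k) => rtr g e) by rw [htop]; trivial)
  obtain ⟨s, -, rfl⟩ := Finset.subset_set_image_iff.1 (by rw [Set.image_univ]; exact hts :
    (↑t : Set A) ⊆ (fun g : WithConv (A →ₐ[k] k) => rtr g e) '' Set.univ)
  refine ⟨s, fun y => by_contra fun hcon => ?_⟩
  simp only [not_exists, not_and] at hcon
  have hk : Ideal.span (↑(s.image fun g : WithConv (A →ₐ[k] k) => rtr g e) : Set A) ≤
      RingHom.ker (y⁻¹).ofConv.toRingHom := by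
    refine Ideal.span_le.2 fun z hz => ?_
    obtain ⟨g, hg, rfl⟩ := Finset.mem_image.1 hz
    show (y⁻¹).ofConv (rtr g e) = 0
    rw [← mul_apply_rtr]
    refine (he _).2 fun hmem => hcon g hg ?_
    obtain ⟨z, hz⟩ := hmem
    exact ⟨z⁻¹, by rw [map_inv, hz, mul_inv_rev, inv_inv]⟩
  have h1 : (y⁻¹).ofConv 1 = 0 := hk ht
  rw [map_one] at h1
  exact one_ne_zero h1

/-- Observability passes up from a subgroup of finite index. -/
theorem IsObs.of_finite_index {π : A →ₐc[k] B} {σ : A →ₐc[k] C} (hσ : IsObs σ)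
    (hle : Set.range (res σ) ⊆ Set.range (res π))
    (s : Finset (WithConv (A →ₐ[k] k))) (hs : ∀ g ∈ s, g ∈ Set.range (res π))
    (hcov : ∀ y ∈ Set.range (res π), ∃ g ∈ s, g⁻¹ * y ∈ Set.range (res σ)) : IsObs π := by
  classical
  intro x hx
  by_contra hne
  let P : Subgroup (WithConv (A →ₐ[k] k)) := (res π).range
  let Q : Subgroup P := (res σ).range.subgroupOf P
  haveI : Finite (P ⧸ Q) := Finite.of_surjective (fun g : s => (QuotientGroup.mk ⟨g.1, hs g.1 g.2⟩ : P ⧸ Q))
    fun q => by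
      obtain ⟨y, rfl⟩ := QuotientGroup.mk_surjective q
      obtain ⟨g, hg, hy⟩ := hcov y.1 y.2
      exact ⟨⟨g, hg⟩, QuotientGroup.eq.2 hy⟩
  haveI : Fintype (P ⧸ Q) := Fintype.ofFinite _
  -- separate the cosets in the subgroup from their translates by `x`
  have hsep : ∀ a b : P ⧸ Q, ∃ f ∈ inv σ, (a.out : WithConv (A →ₐ[k] k)).ofConv f = 1 ∧
      (x * (b.out : WithConv (A →ₐ[k] k))).ofConv f = 0 := by
    intro a b
    let a' : WithConv (A →ₐ[k] k) := (a.out : P)
    let b' : WithConv (A →ₐ[k] k) := x * ((b.out : P) : WithConv (A →ₐ[k] k))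
    obtain ⟨f, hf, hne'⟩ : ∃ f ∈ inv σ, a'.ofConv f ≠ b'.ofConv f := by
      by_contra hcon
      simp only [not_exists, not_and, not_not] at hcon
      obtain ⟨h, hh⟩ := hσ.exists_of_eq σ hcon
      refine hne ?_
      have hx' : x = a' * res σ h * ((b.out : P) : WithConv (A →ₐ[k] k))⁻¹ := eq_mul_inv_of_mul_eq hh
      rw [hx']
      exact P.mul_mem (P.mul_mem (a.out).2 (hle ⟨h, rfl⟩)) (P.inv_mem (b.out).2)
    let c : k := a'.ofConv f - b'.ofConv f
    have hc : c ≠ 0 := sub_ne_zero.2 hne'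
    refine ⟨c⁻¹ • (f - algebraMap k A (b'.ofConv f)), Subalgebra.smul_mem _ (sub_mem hf (Subalgebra.algebraMap_mem _ _)) _,
      ?_, ?_⟩
    · show a'.ofConv _ = 1
      rw [map_smul, map_sub, AlgHom.commutes, Algebra.algebraMap_self_apply, smul_eq_mul, inv_mul_cancel₀ hc]
    · show b'.ofConv _ = 0
      rw [map_smul, map_sub, AlgHom.commutes, Algebra.algebraMap_self_apply, sub_self, smul_zero]
  choose f hfinv hfa hfb using hsep
  let p : P ⧸ Q → A := fun a => ∏ b, f a b
  let F₀ : A := 1 - ∏ a, (1 - p a)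
  have hp : ∀ a, p a ∈ inv σ := fun a => prod_mem fun b _ => hfinv a b
  have hF₀ : F₀ ∈ inv σ := sub_mem (one_mem _) (prod_mem fun a _ => sub_mem (one_mem _) (hp a))
  have hF1 : ∀ a : P ⧸ Q, (a.out : WithConv (A →ₐ[k] k)).ofConv F₀ = 1 := by
    intro a
    simp only [F₀, map_sub, map_one, map_prod]
    rw [Finset.prod_eq_zero (Finset.mem_univ a), sub_zero]
    simp [p, map_prod, hfa]
  have hF0 : ∀ b : P ⧸ Q, (x * (b.out : WithConv (A →ₐ[k] k))).ofConv F₀ = 0 := by
    intro b
    simp only [F₀, map_sub, map_one, map_prod]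
    rw [Finset.prod_eq_one, sub_self]
    intro a _
    rw [sub_eq_self]
    simp only [p, map_prod]
    exact Finset.prod_eq_zero (Finset.mem_univ b) (hfb a b)
  -- the product of the translates
  let F : A := ∏ q : P ⧸ Q, rtr (q.out : WithConv (A →ₐ[k] k)) F₀
  have hwell : ∀ (y : WithConv (A →ₐ[k] k)) (a b : P), QuotientGroup.leftRel Q a b →
      (y * (a : WithConv (A →ₐ[k] k))).ofConv F₀ = (y * (b : WithConv (A →ₐ[k] k))).ofConv F₀ := by
    intro y a b hab
    have hab' : a⁻¹ * b ∈ Q := QuotientGroup.leftRel_apply.1 hab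
    obtain ⟨h, hh⟩ := hab'
    rw [show y * (b : WithConv (A →ₐ[k] k)) = y * (a : WithConv (A →ₐ[k] k)) * res σ h by
      rw [hh, Subgroup.subtype_apply, Subgroup.coe_mul, Subgroup.coe_inv]; group, (mem_inv_iff σ).1 hF₀]
  have hval : ∀ y : WithConv (A →ₐ[k] k), y.ofConv F =
      ∏ q : P ⧸ Q, Quotient.liftOn' q (fun a : P => (y * (a : WithConv (A →ₐ[k] k))).ofConv F₀) (hwell y) := by
    intro y
    rw [map_prod]
    refine Finset.prod_congr rfl fun q _ => ?_
    rw [← mul_apply_rtr]
    conv_rhs => rw [← QuotientGroup.out_eq' q]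
    rfl
  have hFinv : F ∈ inv π := by
    rw [mem_inv_iff]
    intro y h
    rw [hval, hval]
    let hP : P := ⟨res π h, ⟨h, rfl⟩⟩
    rw [← Equiv.prod_comp (MulAction.toPerm hP : Equiv.Perm (P ⧸ Q))
      (fun q => Quotient.liftOn' q (fun a : P => (y * (a : WithConv (A →ₐ[k] k))).ofConv F₀) (hwell y))]
    refine Finset.prod_congr rfl fun q _ => ?_
    induction q using Quotient.inductionOn' with
    | h a =>
      show (y * res π h * (a : WithConv (A →ₐ[k] k))).ofConv F₀ = (y * ((hP * a : P) : WithConv (A →ₐ[k] k))).ofConv F₀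
      rw [mul_assoc]
      rfl
  have h1 := hx F hFinv
  rw [← one_apply, map_prod, map_prod] at h1
  simp only [← mul_apply_rtr, one_mul, hF1, hF0, Finset.prod_const_one] at h1
  rw [Finset.prod_const, zero_pow (by simp [Finset.card_univ])] at h1
  exact zero_ne_one h1

omit [Algebra.FiniteType k C] [_root_.IsReduced C] in
/-- Observability passes down to an intermediate subgroup. -/
theorem IsObs.of_comp {A₀ : Type u} [CommRing A₀] [HopfAlgebra k A₀] {ρ : A →ₐc[k] A₀} {π : A₀ →ₐc[k] B}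
    [Algebra.FiniteType k A₀] [_root_.IsReduced A₀]
    (hρ : Function.Surjective ρ) (h : IsObs (π.comp ρ)) : IsObs π := by
  intro x hx
  have hres : ∀ h : WithConv (B →ₐ[k] k), res (π.comp ρ) h = res ρ (res π h) := fun h =>
    WithConv.ofConv_injective (AlgHom.ext fun _ => rfl)
  obtain ⟨y, hy⟩ := h (res ρ x) fun f hf => by
    have hmem : ρ f ∈ inv π := by
      rw [mem_inv_iff]
      intro z w
      have h2 := (mem_inv_iff (π.comp ρ)).1 hf (res ρ z) w
      rw [hres, ← map_mul] at h2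
      exact h2
    rw [res_apply, hx _ hmem, ← one_apply, ← res_apply ρ, map_one, one_apply]
  refine ⟨y, WithConv.ofConv_injective (AlgHom.ext fun a => ?_)⟩
  obtain ⟨a, rfl⟩ := hρ a
  rw [hres] at hy
  exact congrArg (fun z : WithConv (A →ₐ[k] k) => z.ofConv a) hy

end Groth.Agent.AGF27.Obs
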