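import Groth.Agent.AGF27.ObsIndex
import Groth.Agent.AGF27.ExtendG
import Groth.Agent.S0352

/-! Observable subgroups: open subgroups, transitivity. -/

universe u

open CategoryTheory AlgebraicGeometry MonoidalCategory CartesianMonoidalCategory MonObj GrpObj TensorProduct WithConv
open Groth.Agent.GrpSchLib.Kunneth
open scoped Groth.Agent.AGF27

namespace Groth.Agent.AGF27

variable {k : Type u} [Field k] {G H : Over (Spec (CommRingCat.of k))} [GrpObj G] [GrpObj H]

/-- An open subgroup is closed. -/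
theorem isClosedImmersion_of_isOpenImmersion (j : H ⟶ G) [IsMonHom j] [IsOpenImmersion j.left] :
    IsClosedImmersion j.left := by
  refine (IsClosedImmersion.iff_isPreimmersion).2 ⟨inferInstance, ?_⟩
  exact S0352.result k H G j j.left.isOpenEmbedding.isOpen_range

theorem smooth_of_isOpenImmersion [Smooth G.hom] (j : H ⟶ G) [IsOpenImmersion j.left] : Smooth H.hom := by
  rw [← Over.w j]
  infer_instance

variable [IsAffine G.left] [IsAffine H.left] [IsAlgClosed k] [Smooth G.hom] [Smooth H.hom]

/-- An open subgroup has an indicator function. -/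
theorem hasIndicator_of_isOpenImmersion (j : H ⟶ G) [IsMonHom j] [IsOpenImmersion j.left] [IsClosedImmersion j.left] :
    Obs.HasIndicator (evBialg j) := by
  haveI := isReduced_fn (G := G)
  have hflat : (ev j).toRingHom.Flat := HasRingHomProperty.appTop @Flat j.left inferInstance
  let I : Ideal (Fn G) := RingHom.ker (ev j)
  letI : Algebra (Fn G) (Fn H) := (ev j).toRingHom.toAlgebra
  haveI : Module.Flat (Fn G) (Fn H) := hflat
  haveI : I.Pure := Module.Flat.of_linearEquiv
    (Ideal.quotientKerAlgEquivOfSurjective (f := Algebra.ofId (Fn G) (Fn H)) (ev_surjective j)).toLinearEquiv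
  haveI : IsNoetherianRing (Fn G) := Algebra.FiniteType.isNoetherianRing k _
  obtain ⟨e, he, hI⟩ := (I.isIdempotentElem_iff_of_fg (IsNoetherian.noetherian I)).1 (Ideal.isIdempotentElem_of_pure I)
  refine ⟨1 - e, fun x => ?_⟩
  have hmem : x ∈ Set.range (Obs.res (evBialg j)) ↔ x.ofConv e = 0 := by
    refine ⟨?_, fun h => ?_⟩
    · rintro ⟨y, rfl⟩
      have h0 : ev j e = 0 := RingHom.mem_ker.1 (show e ∈ I by rw [hI]; exact Ideal.mem_span_singleton_self e)
      rw [Obs.res_apply, evBialg_apply, h0, map_zero]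
    · have hle : RingHom.ker (ev j).toRingHom ≤ RingHom.ker x.ofConv.toRingHom := by
        show I ≤ _
        rw [hI, Ideal.submodule_span_eq, Ideal.span_le, Set.singleton_subset_iff]
        exact h
      obtain ⟨y, hy⟩ : ∃ y : Fn H →ₐ[k] k, y.comp (ev j) = x.ofConv :=
        ⟨AlgHom.liftOfSurjective (ev j) (ev_surjective j) x.ofConv hle, AlgHom.liftOfSurjective_comp _ _ _ _⟩
      exact ⟨toConv y, WithConv.ofConv_injective hy⟩
  rw [map_sub, map_one]
  refine ⟨fun hx => by rw [hmem.1 hx, sub_zero], fun hx => ?_⟩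
  have h2 : x.ofConv e * x.ofConv e = x.ofConv e := by rw [← map_mul, he.eq]
  rw [mul_right_eq_self₀.1 h2 |>.resolve_right fun h0 => hx (hmem.2 h0), sub_self]

/-- An open subgroup is observable. -/
theorem isObservableIn_of_isOpenImmersion (j : H ⟶ G) [IsMonHom j] [IsOpenImmersion j.left] [IsClosedImmersion j.left] :
    AGF.IsObservableIn k j := by
  haveI := isReduced_fn (G := G)
  haveI := isReduced_fn (G := H)
  exact (isObservableIn_iff_isObs j).2 (hasIndicator_of_isOpenImmersion j).isObs

variable {L : Over (Spec (CommRingCat.of k))} [GrpObj L] [IsAffine L.left] [Smooth L.hom]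

theorem isRTransInv_comp (i : L ⟶ H) (j : H ⟶ G) {f : Fn G} (hf : AGF.IsRTransInv j f) :
    AGF.IsRTransInv (i ≫ j) f := by
  rw [isRTransInv_iff_forall] at hf ⊢
  intro B _ _ x h
  rw [← Category.assoc]
  exact hf B x (h ≫ i)

/-- Observability is transitive. -/
theorem isObservableIn_comp (j : H ⟶ G) [IsMonHom j] [IsClosedImmersion j.left]
    (i : L ⟶ H) [IsMonHom i] [IsClosedImmersion i.left]
    (hi : AGF.IsObservableIn k i) (hj : AGF.IsObservableIn k j) : AGF.IsObservableIn k (i ≫ j) := by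
  obtain ⟨V, i1, i2, i3, σ, v, hv⟩ := (isObservableIn_iff_stab i).1 hi
  obtain ⟨W, j1, j2, j3, ρ, φ, hφ, hφeq⟩ := extendsAlong_of_isObservableIn j hj σ
  have hfix : v ∈ σ.fixedUnder i := mem_fixedUnder_of_forall_pt i σ fun p => (hv _).2 ⟨p, rfl⟩
  have hfix' : φ v ∈ ρ.fixedUnder (i ≫ j) := fun B _ _ h => by
    have h1 := hφeq B (h ≫ i) ((1 : B) ⊗ₜ[k] v)
    rw [hfix B h, LinearMap.baseChange_tmul] at h1
    rw [← Category.assoc]
    exact h1.symm
  intro g hg
  obtain ⟨y, rfl⟩ := hj g fun f hf => hg f (isRTransInv_comp i j hf)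
  haveI : IsClosedImmersion (i ≫ j).left := inferInstanceAs (IsClosedImmersion (i.left ≫ j.left))
  have h2 := (ρ_fix_iff_rAct ρ (y ≫ j) (φ v)).2 (rAct_eq_of_forall_isRTransInv (i ≫ j) (y ≫ j) hg ρ hfix')
  have h3 := hφeq k y ((1 : k) ⊗ₜ[k] v)
  rw [LinearMap.baseChange_tmul, h2, ← LinearMap.baseChange_tmul] at h3
  obtain ⟨h, hh⟩ := (hv y).1 (Module.Flat.lTensor_preserves_injective_linearMap (M := k) φ hφ h3)
  exact ⟨h, by rw [← hh, Category.assoc]⟩

section Square

variable {G₀ H₀ : Over (Spec (CommRingCat.of k))} [GrpObj G₀] [GrpObj H₀]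

/-- Observability does not change on passing to open subgroups. -/
theorem isObservableIn_iff_of_open (i : H ⟶ G) [IsMonHom i] [IsClosedImmersion i.left]
    (jG : G₀ ⟶ G) [IsMonHom jG] [IsOpenImmersion jG.left] (jH : H₀ ⟶ H) [IsMonHom jH] [IsOpenImmersion jH.left]
    (i₀ : H₀ ⟶ G₀) [IsMonHom i₀] (hc : i₀ ≫ jG = jH ≫ i) :
    AGF.IsObservableIn k i ↔ AGF.IsObservableIn k i₀ := by
  haveI := isClosedImmersion_of_isOpenImmersion jG
  haveI := isClosedImmersion_of_isOpenImmersion jH
  haveI : IsAffine G₀.left := isAffine_of_isAffineHom jG.left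
  haveI : IsAffine H₀.left := isAffine_of_isAffineHom jH.left
  haveI := smooth_of_isOpenImmersion jG
  haveI := smooth_of_isOpenImmersion jH
  haveI : IsClosedImmersion (i₀.left ≫ jG.left) := by
    rw [← Over.comp_left, hc, Over.comp_left]
    infer_instance
  haveI : IsClosedImmersion i₀.left := IsClosedImmersion.of_comp i₀.left jG.left
  haveI : IsClosedImmersion (jH ≫ i).left := inferInstanceAs (IsClosedImmersion (jH.left ≫ i.left))
  refine ⟨fun h => ?_, fun h => ?_⟩
  · have h' := isObservableIn_comp i jH (isObservableIn_of_isOpenImmersion jH) h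
    rw [← hc] at h'
    haveI := isReduced_fn (G := G)
    haveI := isReduced_fn (G := G₀)
    haveI := isReduced_fn (G := H₀)
    haveI : IsClosedImmersion (i₀ ≫ jG).left := inferInstanceAs (IsClosedImmersion (i₀.left ≫ jG.left))
    refine (isObservableIn_iff_isObs i₀).2 (Obs.IsObs.of_comp (ρ := evBialg jG) (ev_surjective jG) ?_)
    convert (isObservableIn_iff_isObs (i₀ ≫ jG)).1 h' using 2
    exact BialgHom.coe_algHom_injective (AlgHom.ext fun f => by
      exact ev_ev i₀ jG f)
  · have h' := isObservableIn_comp jG i₀ h (isObservableIn_of_isOpenImmersion jG)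
    rw [hc] at h'
    haveI := isReduced_fn (G := G)
    haveI := isReduced_fn (G := H)
    haveI := isReduced_fn (G := H₀)
    classical
    obtain ⟨s, hs⟩ := (hasIndicator_of_isOpenImmersion jH).exists_finset
    have hres : ∀ y, Obs.res (evBialg (jH ≫ i)) y = Obs.res (evBialg i) (Obs.res (evBialg jH) y) := fun y =>
      WithConv.ofConv_injective (AlgHom.ext fun f => by
        exact congrArg y.ofConv (ev_ev jH i f).symm)
    refine (isObservableIn_iff_isObs i).2 (Obs.IsObs.of_finite_index ((isObservableIn_iff_isObs (jH ≫ i)).1 h')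
      ?_ (s.image (Obs.res (evBialg i))) ?_ ?_)
    · rintro _ ⟨y, rfl⟩
      exact ⟨_, (hres y).symm⟩
    · intro g hg
      obtain ⟨g, -, rfl⟩ := Finset.mem_image.1 hg
      exact ⟨g, rfl⟩
    · rintro _ ⟨y, rfl⟩
      obtain ⟨g, hg, z, hz⟩ := hs y
      exact ⟨_, Finset.mem_image_of_mem _ hg, z, by rw [hres, hz, map_mul, map_inv]⟩

end Square

end Groth.Agent.AGF27
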