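import Groth.Agent.AGF27.ObsAlg
import Groth.Agent.ComodLib.Chevalley
import Mathlib.RingTheory.HopfAlgebra.GroupLike

/-! Observable subgroups are the stabilisers of vectors; the condition on characters. -/

universe u

open TensorProduct WithConv

namespace Groth.Agent.AGF27.Obs

open Groth.Agent.ComodLib

variable {k : Type u} [Field k] {A B : Type u} [CommRing A] [HopfAlgebra k A] [CommRing B] [HopfAlgebra k B]
  (π : A →ₐc[k] B)

/-- `χ` is the weight of a nonzero semi-invariant vector of some finite-dimensional comodule of `A`. -/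
def Occurs (χ : B) : Prop :=
  ∃ (V : Type u) (_ : AddCommGroup V) (_ : Module k V) (_ : HopfRep.Comod k A V) (_ : Module.Finite k V) (v : V),
    v ≠ 0 ∧ LinearMap.lTensor V π.toLinearMap (HopfRep.Comod.coact (k := k) (A := A) v) = v ⊗ₜ[k] χ

section

variable {V : Type u} [AddCommGroup V] [Module k V] [HopfRep.Comod k A V]

/-- A matrix coefficient of a semi-invariant vector is semi-invariant. -/
theorem coefFun_mem_Wt (φ : V →ₗ[k] k) {v : V} {χ : B}
    (hv : π.toLinearMap.lTensor V (HopfRep.Comod.coact (k := k) (A := A) v) = v ⊗ₜ[k] χ) :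
    coefFun (C := A) φ v ∈ Wt π χ := by
  show (π : A →ₐ[k] B).toLinearMap.lTensor A (Coalgebra.comul (R := k) (coefFun (C := A) φ v)) = _
  have h := LinearMap.congr_fun (isComodHom_coefFun (C := A) (V := V) φ) v
  simp only [LinearMap.comp_apply] at h
  rw [show Coalgebra.comul (R := k) (coefFun (C := A) φ v) =
    (coefFun (C := A) φ).rTensor A (HopfRep.Comod.coact (k := k) (A := A) v) from h,
    ← LinearMap.comp_apply, LinearMap.lTensor_comp_rTensor, ← LinearMap.rTensor_comp_lTensor, LinearMap.comp_apply]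
  rw [show (π : A →ₐ[k] B).toLinearMap = π.toLinearMap from rfl, hv, LinearMap.rTensor_tmul]

theorem exists_dual_eq_one {v : V} (hv : v ≠ 0) : ∃ φ : V →ₗ[k] k, φ v = 1 := by
  obtain ⟨φ, hφ⟩ : ∃ φ : V →ₗ[k] k, φ v ≠ 0 := by
    by_contra h
    push_neg at h
    exact hv ((Module.forall_dual_apply_eq_zero_iff (R := k) v).mp h)
  exact ⟨(φ v)⁻¹ • φ, by simp [hφ]⟩

theorem apply_coefFun (g : A →ₐ[k] k) (φ : V →ₗ[k] k) (v : V) :
    g (coefFun (C := A) φ v) = φ (HopfRep.Comod.act k A V g v) := by
  simp only [coefFun, HopfRep.Comod.act, LinearMap.comp_apply, LinearEquiv.coe_coe]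
  induction HopfRep.Comod.coact (k := k) (A := A) v using TensorProduct.induction_on with
  | zero => simp
  | add p q hp hq => simp only [map_add, hp, hq]
  | tmul a b => simp [mul_comm]

end

/-- The subgroup is the stabiliser, on points, of a vector it fixes. -/
def IsStabVec : Prop :=
  ∃ (V : Type u) (_ : AddCommGroup V) (_ : Module k V) (_ : HopfRep.Comod k A V) (_ : Module.Finite k V) (v : V),
    LinearMap.lTensor V π.toLinearMap (HopfRep.Comod.coact (k := k) (A := A) v) = v ⊗ₜ[k] (1 : B) ∧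
      ∀ g : A →ₐ[k] k, HopfRep.Comod.act k A V g v = v → toConv g ∈ Set.range (res π)

theorem exists_weight_fn_of_occurs {χ : B} (h : Occurs π χ) :
    ∃ f ∈ Wt π χ, Coalgebra.counit (R := k) f ≠ 0 := by
  obtain ⟨V, i1, i2, i3, i4, v, hv, hvχ⟩ := h
  obtain ⟨φ, hφ⟩ := exists_dual_eq_one (k := k) hv
  exact ⟨_, coefFun_mem_Wt π φ hvχ, by rw [counit_coefFun, hφ]; exact one_ne_zero⟩

theorem occurs_of_weight_fn {χ : B} {f : A} (hf : f ∈ Wt π χ) (hne : f ≠ 0) : Occurs π χ := by
  obtain ⟨U, hUf, hfU, hU⟩ := exists_finite_subcomod_mem (k := k) (C := A) (V := A) f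
  let cU : HopfRep.Comod k A U := ComodSub.Comod.restr (HopfRep.Comod.regular k A) U hU
  refine ⟨U, inferInstance, inferInstance, cU, hUf, ⟨f, hfU⟩, fun h => hne (congrArg Subtype.val h), ?_⟩
  have hinj : Function.Injective (U.subtype.rTensor B) :=
    Module.Flat.rTensor_preserves_injective_linearMap _ U.injective_subtype
  apply hinj
  rw [← LinearMap.comp_apply, LinearMap.rTensor_comp_lTensor, ← LinearMap.lTensor_comp_rTensor, LinearMap.comp_apply,
    ComodSub.restr_coact_coe, LinearMap.rTensor_tmul]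
  exact hf

/-- A stabiliser of a vector is observable. -/
theorem IsStabVec.isObs (h : IsStabVec π) : IsObs π := by
  obtain ⟨V, i1, i2, i3, i4, v, hv, hstab⟩ := h
  intro g hg
  refine hstab g.ofConv (sub_eq_zero.mp ((Module.forall_dual_apply_eq_zero_iff (R := k) _).mp fun φ => ?_))
  have h1 := hg _ ((mem_inv_iff_mem_Wt π).mpr (coefFun_mem_Wt π φ hv))
  rw [apply_coefFun, counit_coefFun] at h1
  rw [map_sub, h1, sub_self]

/-- **Chevalley**: if weights of semi-invariant vectors have inverses of some power among such weights,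
the subgroup is the stabiliser of a vector. -/
theorem isStabVec_of_occurs [Algebra.FiniteType k A] (hπ : Function.Surjective π)
    (hocc : ∀ χ : B, IsGroupLikeElem k χ → Occurs π χ →
      ∃ m : ℕ, 0 < m ∧ ∃ ψ : B, IsGroupLikeElem k ψ ∧ ψ * χ ^ m = 1 ∧ Occurs π ψ) : IsStabVec π := by
  obtain ⟨V, i1, i2, i3, i4, v, hv, hrep, hv1⟩ := exists_line_stabilizer π hπ hocc
  refine ⟨V, i1, i2, i3, i4, v, hv1, fun g hg => ?_⟩
  have hJ : ∀ a ∈ RingHom.ker (π : A →+* B), g a = 0 := (hrep k g).mpr ⟨1, by
    apply (TensorProduct.rid k V).injective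
    simpa [HopfRep.Comod.act] using hg⟩
  let hbar : B →ₐ[k] k := AlgHom.liftOfSurjective (π : A →ₐ[k] B) hπ g (fun a ha => hJ a ha)
  exact ⟨toConv hbar, by
    apply WithConv.ofConv_injective
    ext a
    exact AlgHom.liftOfSurjective_apply (π : A →ₐ[k] B) hπ g (fun a ha => hJ a ha) a⟩

variable [IsAlgClosed k] [Algebra.FiniteType k A] [_root_.IsReduced A] [Algebra.FiniteType k B] [_root_.IsReduced B]

/-- For an observable subgroup the weights of semi-invariant vectors are closed under inverse. -/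
theorem IsObs.occurs_antipode (hobs : IsObs π) {χ : B} (hχ : IsGroupLikeElem k χ) (h : Occurs π χ) :
    Occurs π (HopfAlgebraStruct.antipode (R := k) χ) := by
  obtain ⟨f, hf, hf1⟩ := exists_weight_fn_of_occurs π h
  obtain ⟨a, ha, ha1⟩ := hobs.exists_inverse_weight π hχ.antipode_mul_cancel hf hf1
  exact occurs_of_weight_fn π ha fun h0 => ha1 (by rw [h0, map_zero])

/-- Observable subgroups are exactly those whose semi-invariant weights are closed under inverse. -/
theorem isObs_iff_occurs (hπ : Function.Surjective π) :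
    IsObs π ↔ ∀ χ : B, IsGroupLikeElem k χ → Occurs π χ → Occurs π (HopfAlgebraStruct.antipode (R := k) χ) := by
  refine ⟨fun h χ hχ ho => h.occurs_antipode π hχ ho, fun h => ?_⟩
  refine (isStabVec_of_occurs π hπ fun χ hχ ho => ⟨1, one_pos, _, hχ.antipode, ?_, h χ hχ ho⟩).isObs π
  rw [pow_one, hχ.antipode_mul_cancel]

/-- Observable subgroups are exactly the stabilisers of vectors. -/
theorem isObs_iff_isStabVec (hπ : Function.Surjective π) : IsObs π ↔ IsStabVec π := by
  refine ⟨fun h => isStabVec_of_occurs π hπ fun χ hχ ho => ⟨1, one_pos, _, hχ.antipode, ?_,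
    h.occurs_antipode π hχ ho⟩, fun h => h.isObs π⟩
  rw [pow_one, hχ.antipode_mul_cancel]

end Groth.Agent.AGF27.Obs
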