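import Mathlib.RingTheory.HopfAlgebra.Quotient
import Mathlib.RingTheory.FiniteType
import Mathlib.RingTheory.Bialgebra.Equiv

/-!
# A finitely generated commutative Hopf algebra has a copy in the universe of the ground ring
-/

universe u v

open TensorProduct

namespace Groth.Agent.AGF27.SmallHopf

variable {k : Type u} [CommRing k] {A : Type v} [CommRing A] [HopfAlgebra k A]
variable {A' : Type u} [CommRing A'] [Algebra k A']

/-- The comultiplication carried along an algebra isomorphism. -/
noncomputable def comul' (e : A' ≃ₐ[k] A) : A' →ₐ[k] A' ⊗[k] A' :=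
  ((Algebra.TensorProduct.map e.symm.toAlgHom e.symm.toAlgHom).comp (Bialgebra.comulAlgHom k A)).comp e.toAlgHom

theorem comul'_apply (e : A' ≃ₐ[k] A) (x : A') : comul' e x =
    Algebra.TensorProduct.map e.symm.toAlgHom e.symm.toAlgHom (Coalgebra.comul (R := k) (e x)) := rfl

theorem map_comul'_left (e : A' ≃ₐ[k] A) (z : A ⊗[k] A) :
    (Algebra.TensorProduct.assoc k k k A' A' A').toAlgHom
      ((Algebra.TensorProduct.map (comul' e) (AlgHom.id k A'))
        (Algebra.TensorProduct.map e.symm.toAlgHom e.symm.toAlgHom z)) =
      TensorProduct.map e.symm.toLinearMap (TensorProduct.map e.symm.toLinearMap e.symm.toLinearMap)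
        ((TensorProduct.assoc k A A A) ((Coalgebra.comul (R := k)).rTensor A z)) := by
  induction z using TensorProduct.induction_on with
  | zero => simp
  | add p q hp hq => simp only [map_add, hp, hq]
  | tmul a b =>
    simp only [Algebra.TensorProduct.map_tmul, LinearMap.rTensor_tmul, AlgHom.id_apply, comul'_apply]
    rw [show e (e.symm.toAlgHom a) = a from e.apply_symm_apply a]
    induction Coalgebra.comul (R := k) a using TensorProduct.induction_on with
    | zero => simp
    | tmul c d => rfl
    | add c d hc hd => simp only [map_add, TensorProduct.add_tmul, hc, hd]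

theorem map_comul'_right (e : A' ≃ₐ[k] A) (z : A ⊗[k] A) :
    (Algebra.TensorProduct.map (AlgHom.id k A') (comul' e))
        (Algebra.TensorProduct.map e.symm.toAlgHom e.symm.toAlgHom z) =
      TensorProduct.map e.symm.toLinearMap (TensorProduct.map e.symm.toLinearMap e.symm.toLinearMap)
        ((Coalgebra.comul (R := k)).lTensor A z) := by
  induction z using TensorProduct.induction_on with
  | zero => simp
  | add p q hp hq => simp only [map_add, hp, hq]
  | tmul a b =>
    simp only [Algebra.TensorProduct.map_tmul, LinearMap.lTensor_tmul, AlgHom.id_apply, comul'_apply,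
      TensorProduct.map_tmul]
    rw [show e (e.symm.toAlgHom b) = b from e.apply_symm_apply b]
    rfl

/-- The bialgebra structure carried along an algebra isomorphism. -/
@[reducible] noncomputable def bialgebra (e : A' ≃ₐ[k] A) : Bialgebra k A' :=
  Bialgebra.ofAlgHom (comul' e) ((Bialgebra.counitAlgHom k A).comp e.toAlgHom)
    (AlgHom.ext fun x => by
      show (Algebra.TensorProduct.assoc k k k A' A' A').toAlgHom
        ((Algebra.TensorProduct.map (comul' e) (AlgHom.id k A')) (comul' e x)) =
        (Algebra.TensorProduct.map (AlgHom.id k A') (comul' e)) (comul' e x)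
      rw [comul'_apply, map_comul'_left, map_comul'_right, Coalgebra.coassoc_apply])
    (AlgHom.ext fun x => by
      have h : ∀ z : A ⊗[k] A,
          Algebra.TensorProduct.map ((Bialgebra.counitAlgHom k A).comp e.toAlgHom) (AlgHom.id k A')
            (Algebra.TensorProduct.map e.symm.toAlgHom e.symm.toAlgHom z) =
          e.symm.toLinearMap.lTensor k ((Coalgebra.counit (R := k)).rTensor A z) := fun z => by
        induction z using TensorProduct.induction_on with
        | zero => simp
        | add p q hp hq => simp only [map_add, hp, hq]
        | tmul a b => simp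
      show Algebra.TensorProduct.map _ _ (comul' e x) = _
      rw [comul'_apply, h, Coalgebra.rTensor_counit_comul, LinearMap.lTensor_tmul]
      simp)
    (AlgHom.ext fun x => by
      have h : ∀ z : A ⊗[k] A,
          Algebra.TensorProduct.map (AlgHom.id k A') ((Bialgebra.counitAlgHom k A).comp e.toAlgHom)
            (Algebra.TensorProduct.map e.symm.toAlgHom e.symm.toAlgHom z) =
          e.symm.toLinearMap.rTensor k ((Coalgebra.counit (R := k)).lTensor A z) := fun z => by
        induction z using TensorProduct.induction_on with
        | zero => simp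
        | add p q hp hq => simp only [map_add, hp, hq]
        | tmul a b => simp
      show Algebra.TensorProduct.map _ _ (comul' e x) = _
      rw [comul'_apply, h, Coalgebra.lTensor_counit_comul, LinearMap.rTensor_tmul]
      simp)

/-- A finitely generated Hopf algebra has a copy in the universe of the ground ring. -/
theorem exists_small [Algebra.FiniteType k A] :
    ∃ (B : Type u) (_ : CommRing B) (_ : HopfAlgebra k B) (_ : Algebra.FiniteType k B), Nonempty (A ≃ₐc[k] B) := by
  obtain ⟨n, f, hf⟩ := Algebra.FiniteType.iff_quotient_mvPolynomial''.mp (inferInstance : Algebra.FiniteType k A)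
  let B := MvPolynomial (Fin n) k ⧸ RingHom.ker f
  let e : B ≃ₐ[k] A := Ideal.quotientKerAlgEquivOfSurjective hf
  letI : Bialgebra k B := bialgebra e
  letI : HopfAlgebraStruct k B :=
    { antipode := (e.symm.toLinearMap.comp (HopfAlgebraStruct.antipode (R := k))).comp e.toLinearMap }
  let π : A →ₐc[k] B := BialgHom.ofAlgHom e.symm.toAlgHom
    (AlgHom.ext fun a => by
      show Coalgebra.counit (R := k) (e (e.symm a)) = Coalgebra.counit (R := k) a
      rw [e.apply_symm_apply])
    (AlgHom.ext fun a => by
      show Algebra.TensorProduct.map e.symm.toAlgHom e.symm.toAlgHom (Coalgebra.comul (R := k) a) =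
        comul' e (e.symm a)
      rw [comul'_apply, e.apply_symm_apply])
  letI : HopfAlgebra k B := HopfAlgebra.ofSurjective π e.symm.surjective (LinearMap.ext fun a => by
    show e.symm (HopfAlgebraStruct.antipode (R := k) (e (e.symm a))) = e.symm (HopfAlgebraStruct.antipode (R := k) a)
    rw [e.apply_symm_apply])
  exact ⟨B, inferInstance, inferInstance, .of_surjective e.symm.toAlgHom e.symm.surjective,
    ⟨BialgEquiv.ofBijective π e.symm.bijective⟩⟩

end Groth.Agent.AGF27.SmallHopf
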