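import Groth.Agent.AGFHopf.PParab
import Groth.Agent.AGF27.SmallHopf
import Groth.Agent.ComodLib.Rosenlicht
import Groth.Agent.ComodLib.Push
import Groth.Agent.AGFHopf.LieKolchin

/-!
# Connected groups all of whose points are semisimple are tori
-/

set_option linter.style.haveILetI false

universe u v

open TensorProduct WithConv

namespace Groth.Agent.AGF27.SSTorus

open Groth.Agent.AGFHopf Groth.Agent.ComodLib

section Diag

variable {k : Type u} [Field k] [IsAlgClosed k] {A : Type v} [CommRing A] [HopfAlgebra k A] [Algebra.FiniteType k A]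
  [_root_.IsReduced A]

local notation "Γk" => WithConv (A →ₐ[k] k)

/-- A commutative group of semisimple points is diagonalizable. -/
theorem isDiagonalizable_of_commute (hc : ∀ g h : Γk, Commute g h) (hss : ∀ g : Γk, IsSSPt g) :
    HopfRep.IsDiagonalizable k A := by
  classical
  rw [HopfRep.IsDiagonalizable, eq_top_iff]
  intro a _
  obtain ⟨U, hUf, haU, hU⟩ := exists_finite_subcomod_mem (k := k) (C := A) (V := A) a
  letI cU : HopfRep.Comod k A U := ComodSub.Comod.restr (HopfRep.Comod.regular k A) U hU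
  haveI := hUf
  let E : Set U := {w | w ≠ 0 ∧ ∀ x : Γk, ∃ c : k, ptAct U x w = c • w}
  have hspan : Submodule.span k E = ⊤ := by
    have h := Module.End.iSup_iInf_maxGenEigenspace_eq_top_of_iSup_maxGenEigenspace_eq_top_of_commute
      (fun x : Γk => ptAct U x) (fun a b _ => (hc a b).map (ptAct U)) fun x => Module.End.iSup_maxGenEigenspace_eq_top _
    refine top_le_iff.mp (h.ge.trans (iSup_le fun c w hw => ?_))
    by_cases hw0 : w = 0
    · rw [hw0]; exact zero_mem _
    refine Submodule.subset_span ⟨hw0, fun x => ⟨c x, Module.End.mem_eigenspace_iff.mp ?_⟩⟩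
    rw [← (hss x U inferInstance).isFinitelySemisimple.maxGenEigenspace_eq_eigenspace]
    exact (Submodule.mem_iInf _).mp hw x
  have key : ∀ w ∈ E, (w : A) ∈ Submodule.span k {a : A | IsGroupLikeElem k a} := by
    rintro w ⟨hw0, hw⟩
    choose c hcw using hw
    have hA : ∀ x : Γk, ptAct A x (w : A) = c x • (w : A) := fun x => by
      rw [show ptAct A x (w : A) = ((ptAct U x w : U) : A) from
        (ptAct_comm (ComodSub.isComodHom_subtype _ U hU) x w).symm, hcw, Submodule.coe_smul]
    have hval : ∀ x : Γk, x.ofConv (w : A) = c x * Coalgebra.counit (R := k) (w : A) := fun x => by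
      rw [← counit_ptAct, hA, map_smul, smul_eq_mul]
    have hε : Coalgebra.counit (R := k) (w : A) ≠ 0 := fun h => hw0 <| by
      refine Subtype.ext (Groth.Agent.AGFHopf.eq_zero_of_vanish (k := k) fun g => ?_)
      rw [show g (w : A) = (toConv g).ofConv (w : A) from rfl, hval, h, mul_zero]
    let x : A := (Coalgebra.counit (R := k) (w : A))⁻¹ • (w : A)
    have hx : IsGroupLikeElem k x := by
      refine ⟨by simp [x, hε], ?_⟩
      refine sub_eq_zero.mp (ComodLib.eq_zero_of_forall_pt fun g => ?_)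
      rw [map_sub, slice_tmul, sub_eq_zero]
      show ptAct A (toConv g) x = g x • x
      simp only [x, map_smul, hA, smul_smul, smul_eq_mul]
      congr 1
      rw [show g (w : A) = (toConv g).ofConv (w : A) from rfl, hval]
      field_simp
    have e : (w : A) = Coalgebra.counit (R := k) (w : A) • x := by simp [x, smul_smul, hε]
    rw [e]
    exact Submodule.smul_mem _ _ (Submodule.subset_span hx)
  have hle : Submodule.span k E ≤ (Submodule.span k {a : A | IsGroupLikeElem k a}).comap U.subtype :=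
    Submodule.span_le.mpr key
  exact hle (hspan.ge (Submodule.mem_top (x := (⟨a, haU⟩ : U))))

end Diag

section Comm

variable {k : Type u} [Field k] [IsAlgClosed k] {A : Type u} [CommRing A] [HopfAlgebra k A] [Algebra.FiniteType k A]

local notation "Γk" => WithConv (A →ₐ[k] k)

/-- A regular function invariant under right translation by a Borel subgroup is constant. -/
theorem eq_of_right_inv (hA : IsCC (⊤ : Subgroup Γk)) (hsep : ∀ a : A, (∀ g : Γk, g.ofConv a = 0) → a = 0)
    {B : Subgroup Γk} (hB : IsBor ⊤ B) {F : Γk → k} (hF : F ∈ ptR k A) (hinv : ∀ g, ∀ b ∈ B, F (g * b) = F g)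
    (g : Γk) : F g = F 1 := by
  classical
  obtain ⟨a, ha⟩ := mem_ptR.mp hF
  obtain ⟨U, hUf, haU, hU⟩ := ComodLib.exists_finite_subcomod_mem (k := k) (C := A) (V := A) a
  letI := ComodSub.Comod.restr (HopfRep.Comod.regular k A) U hU
  haveI := hUf
  have hs : Hoch.IsComodHom A U.subtype := ComodSub.isComodHom_subtype _ U hU
  let ρ : (⊤ : Subgroup Γk) →* Module.End k (U × k) :=
    { toFun := fun h => (ptAct U (h : Γk)).prodMap LinearMap.id
      map_one' := by rw [OneMemClass.coe_one, map_one]; exact LinearMap.prodMap_id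
      map_mul' := fun x y => by
        rw [Subgroup.coe_mul, map_mul]
        exact LinearMap.ext fun v => rfl }
  have hρ : IsRegRep ρ := fun f v => by
    obtain ⟨c, hc⟩ := isRegRep_ptAct (V := U) (⊤ : Subgroup Γk) (f.comp (LinearMap.inl k U k)) v.1
    refine ⟨c + algebraMap k A (f (0, v.2)), fun h => ?_⟩
    rw [map_add, AlgHom.commutes, ← hc h, Algebra.algebraMap_self, RingHom.id_apply]
    show f (ptAct U (h : Γk) v.1, v.2) = f (ptAct U (h : Γk) v.1, (0 : k)) + f (0, v.2)
    rw [← map_add, Prod.mk_add_mk, add_zero, zero_add]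
  let ua : U × k := (⟨a, haU⟩, 1)
  have hfix : ∀ b ∈ B, ptAct U b ⟨a, haU⟩ = ⟨a, haU⟩ := fun b hb => Subtype.ext <| by
    show U.subtype (ptAct U b ⟨a, haU⟩) = a
    rw [ptAct_comm hs]
    refine sub_eq_zero.mp (hsep _ fun h => ?_)
    rw [map_sub, apply_ptAct, sub_eq_zero]
    exact (ha _).trans ((hinv h b hb).trans (ha h).symm)
  have hCl : ZPts.IsCl (polyR k (U × k)) (sweep ρ (Submodule.span k {ua} : Set (U × k))) := by
    refine isCl_sweep hA hρ hB (isCl_span _) (fun t x hx => Submodule.smul_mem _ t hx) fun b y hy => ?_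
    obtain ⟨c, rfl⟩ := Submodule.mem_span_singleton.mp hy
    rw [map_smul, show ρ (Subgroup.inclusion hB.1 b) ua = ua from Prod.ext (hfix b b.2) rfl]
    exact Submodule.smul_mem _ c (Submodule.mem_span_singleton_self ua)
  set C := sweep ρ (Submodule.span k {ua} : Set (U × k))
  have hC : IsCone k C := by
    rintro t _ ⟨h, y, hy, rfl⟩
    exact ⟨h, t • y, Submodule.smul_mem _ t hy, (map_smul (ρ h) t y).symm⟩
  have hfin := finite_of_inter_eq_zero hCl hC (LinearMap.snd k U k) fun x hx hx0 => by
    obtain ⟨h, y, hy, rfl⟩ := hx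
    obtain ⟨c, rfl⟩ := Submodule.mem_span_singleton.mp hy
    have hc : c = 0 := by simpa [ρ, ua] using hx0
    rw [hc, zero_smul, map_zero]
  refine hA.2.eq_of_finite ⟨F, hF⟩ ((hfin.image fun x => (1 : Γk).ofConv ((x.1 : U) : A)).subset ?_)
    (Subgroup.mem_top g) (Subgroup.mem_top 1)
  rintro _ ⟨h, -, rfl⟩
  refine ⟨ρ ⟨h, trivial⟩ ua, ⟨⟨_, ua, Submodule.mem_span_singleton_self ua, rfl⟩, rfl⟩, ?_⟩
  show (1 : Γk).ofConv (U.subtype (ptAct U h ⟨a, haU⟩)) = F h
  rw [ptAct_comm hs, apply_ptAct, one_mul]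
  exact ha h

/-- A Borel subgroup with central torus and unipotent rest is the whole group. -/
theorem bor_eq_top_of_central (hA : IsCC (⊤ : Subgroup Γk))
    (hsep : ∀ a : A, (∀ g : Γk, g.ofConv a = 0) → a = 0) {B : Subgroup Γk} (hB : IsBor ⊤ B) {T : Subgroup Γk}
    (hTB : T ≤ B) (hc : ∀ t ∈ T, ∀ g, Commute t g) (hTU : ∀ b ∈ B, ∃ t ∈ T, IsUnPt (t⁻¹ * b)) : B = ⊤ := by
  classical
  obtain ⟨W, _, _, _, _, w, hw0, hstab⟩ := exists_line_stab hB.2.1.1
  have hT : ∀ t : T, ∃ c : k, c • w = ptAct W (t : Γk) w := fun t =>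
    Submodule.mem_span_singleton.mp ((hstab t).mp (hTB t.2))
  choose χ hχ using hT
  let P : Submodule k W := ⨅ t : T, LinearMap.ker (ptAct W (t : Γk) - χ t • 1)
  have hmemP : ∀ x, x ∈ P ↔ ∀ t : T, ptAct W (t : Γk) x = χ t • x := fun x => by
    simp [P, Submodule.mem_iInf, sub_eq_zero]
  have hwP : w ∈ P := (hmemP w).mpr fun t => (hχ t).symm
  have hP : ∀ (g : Γk), ∀ x ∈ P, ptAct W g x ∈ P := fun g x hx => (hmemP _).mpr fun t => by
    rw [← Module.End.mul_apply, ← map_mul, (hc t t.2 g).eq, map_mul, Module.End.mul_apply, (hmemP x).mp hx t,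
      map_smul]
  let r : Γk →* Module.End k P :=
    { toFun := fun g => (ptAct W g).restrict (hP g)
      map_one' := LinearMap.ext fun x => Subtype.ext (by simp)
      map_mul' := fun a b => LinearMap.ext fun x => Subtype.ext (by simp) }
  let n := Module.finrank k P
  haveI : Nontrivial P := ⟨⟨⟨w, hwP⟩, 0, fun h => hw0 (congrArg Subtype.val h)⟩⟩
  have hn : n ≠ 0 := Module.finrank_pos.ne'
  have key : ∀ b ∈ B, ∃ c : k, c ≠ 0 ∧ ptAct W b w = c • w ∧ LinearMap.det (r b) = c ^ n := fun b hb => by
    obtain ⟨t, ht, hu⟩ := hTU b hb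
    set u := t⁻¹ * b with hudef
    have hbu : b = t * u := (mul_inv_cancel_left t b).symm
    obtain ⟨d, hd⟩ := Submodule.mem_span_singleton.mp ((hstab u).mp (mul_mem (inv_mem (hTB ht)) hb))
    have hnil : IsNilpotent (r u - 1) := by
      obtain ⟨N, hN⟩ := hu W inferInstance
      refine ⟨N, LinearMap.ext fun x => Subtype.ext ?_⟩
      have hpow : ∀ m : ℕ, ∀ x : P, (((r u - 1) ^ m) x : W) = ((ptAct W u - 1) ^ m) (x : W) := by
        intro m
        induction m with
        | zero => intro x; rfl
        | succ m ih =>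
          intro x
          rw [pow_succ', pow_succ', Module.End.mul_apply, Module.End.mul_apply, LinearMap.sub_apply,
            LinearMap.sub_apply, Module.End.one_apply, Module.End.one_apply, AddSubgroupClass.coe_sub, ← ih x]
          rfl
      rw [hpow, hN]; rfl
    have hd1 : d = 1 := by
      obtain ⟨N, hN⟩ := hu W inferInstance
      have hpow : ∀ m : ℕ, ((ptAct W u - 1) ^ m) w = (d - 1) ^ m • w := by
        intro m
        induction m with
        | zero => simp
        | succ m ih =>
          rw [pow_succ', Module.End.mul_apply, ih, map_smul, LinearMap.sub_apply, Module.End.one_apply, ← hd,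
            pow_succ, mul_smul, sub_smul, one_smul]
      have h0 := hpow N
      rw [hN, LinearMap.zero_apply, eq_comm, smul_eq_zero, or_iff_left hw0] at h0
      exact sub_eq_zero.mp (pow_eq_zero_iff'.mp h0).1
    have hχ0 : χ ⟨t, ht⟩ ≠ 0 := fun h => hw0 <| by
      have h1 := congrArg (ptAct W t⁻¹) (hχ ⟨t, ht⟩)
      rw [h, zero_smul, map_zero, ← Module.End.mul_apply, ← map_mul, inv_mul_cancel, map_one] at h1
      exact h1.symm
    refine ⟨χ ⟨t, ht⟩, hχ0, ?_, ?_⟩
    · rw [hbu, map_mul, Module.End.mul_apply, ← hd, hd1, one_smul]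
      exact (hχ ⟨t, ht⟩).symm
    · have hru : LinearMap.det (r u) = 1 := by
        have hnil' : IsNilpotent (1 - r u) := by rw [← neg_sub]; exact hnil.neg
        have h1 := LinearMap.eval_charpoly (1 - r u) 1
        rw [_root_.IsNilpotent.charpoly_eq_X_pow_finrank hnil', Polynomial.eval_pow, Polynomial.eval_X, one_pow,
          map_one, sub_sub_cancel] at h1
        exact h1.symm
      have hrt : r t = χ ⟨t, ht⟩ • 1 := LinearMap.ext fun x => Subtype.ext ((hmemP x).mp x.2 ⟨t, ht⟩)
      rw [hbu, map_mul, map_mul, hru, mul_one, hrt, LinearMap.det_smul, map_one, mul_one]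
  refine top_unique fun g _ => (hstab g).mpr ?_
  by_contra hg
  obtain ⟨f, hf, hfg⟩ := Submodule.exists_dual_map_eq_bot_of_notMem hg inferInstance
  let F : Γk → k := fun x => f (ptAct W x w) ^ n * LinearMap.det (r x⁻¹)
  have hF : F ∈ ptR k A := by
    refine mul_mem (pow_mem ?_ n) ?_
    · obtain ⟨c, hc'⟩ := isRegRep_ptAct (V := W) (⊤ : Subgroup Γk) f w
      exact mem_ptR.mpr ⟨c, fun x => (hc' ⟨x, trivial⟩).symm⟩
    · let bP := Module.finBasis k P
      refine mem_ptR_inv (F := fun x => LinearMap.det (r x)) ?_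
      have hent : ∀ i j, (fun x => LinearMap.toMatrix bP bP (r x) i j) ∈ ptR k A := fun i j => by
        obtain ⟨fe, hfe⟩ := LinearMap.exists_extend (bP.coord i)
        obtain ⟨c, hc'⟩ := isRegRep_ptAct (V := W) (⊤ : Subgroup Γk) fe (bP j : W)
        refine mem_ptR.mpr ⟨c, fun x => (hc' ⟨x, trivial⟩).symm.trans ?_⟩
        rw [LinearMap.toMatrix_apply]
        exact LinearMap.congr_fun hfe (r x (bP j))
      let Mx : Matrix _ _ (ptR k A) := fun i j => ⟨_, hent i j⟩
      have e : (fun x => LinearMap.det (r x)) = ((Mx.det : ptR k A) : Γk → k) := funext fun x => by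
        rw [← LinearMap.det_toMatrix bP]
        exact (((Pi.evalAlgHom k (fun _ : Γk => k) x).comp (ptR k A).val).map_det Mx).symm
      rw [e]; exact SetLike.coe_mem _
  have hinv : ∀ x, ∀ b ∈ B, F (x * b) = F x := fun x b hb => by
    obtain ⟨c, hc0, hcw, hdet⟩ := key b hb
    have hd : LinearMap.det (r b⁻¹) * c ^ n = 1 := by rw [← hdet, ← map_mul, ← map_mul, inv_mul_cancel, map_one, map_one]
    simp only [F]
    rw [mul_inv_rev, map_mul r, map_mul LinearMap.det, map_mul (ptAct W), Module.End.mul_apply, hcw, map_smul, map_smul,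
      smul_eq_mul, mul_pow]
    linear_combination (f (ptAct W x w) ^ n * LinearMap.det (r x⁻¹)) * hd
  have h1 := eq_of_right_inv hA hsep hB hF hinv g
  have hfw : f w = 0 := by
    have := Submodule.mem_map_of_mem (f := f) (Submodule.mem_span_singleton_self (R := k) w)
    rwa [hfg, Submodule.mem_bot] at this
  have hd0 : LinearMap.det (r g⁻¹) ≠ 0 := fun h => by
    have h2 : LinearMap.det (r g) * LinearMap.det (r g⁻¹) = 1 := by rw [← map_mul, ← map_mul, mul_inv_cancel, map_one, map_one]
    rw [h, mul_zero] at h2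
    exact zero_ne_one h2
  simp only [F, map_one, Module.End.one_apply, hfw, zero_pow hn, zero_mul, mul_eq_zero, hd0, or_false] at h1
  exact hf (pow_eq_zero_iff'.mp h1).1

/-- A connected group with semisimple points only is commutative. -/
theorem commute_of_ss [IsDomain A] (hss : ∀ g : Γk, IsSSPt g) (g h : Γk) : Commute g h := by
  have hsep : ∀ a : A, (∀ g : Γk, g.ofConv a = 0) → a = 0 := fun a ha =>
    Groth.Agent.AGFHopf.eq_zero_of_vanish (k := k) fun g => ha (toConv g)
  have hA : IsCC (⊤ : Subgroup Γk) := by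
    refine ⟨by rw [Subgroup.coe_top]; exact ZPts.isCl_univ, ⟨1, trivial⟩, ?_⟩
    rintro ⟨_, a, rfl⟩ ⟨_, b, rfl⟩ hab
    have h0 : a * b = 0 := hsep _ fun g => by rw [map_mul]; exact hab g trivial
    rcases mul_eq_zero.mp h0 with e | e
    · exact Or.inl fun x _ => by show x.ofConv a = 0; rw [e, map_zero]
    · exact Or.inr fun x _ => by show x.ofConv b = 0; rw [e, map_zero]
  obtain ⟨B, hB⟩ := exists_bor (k := k) (A := A)
  obtain ⟨T, hTB, hT, -, hTU⟩ := exists_tori hB.2.1 hB.2.2.1
  have hBT : B ≤ T := fun b hb => by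
    obtain ⟨t, ht, hu⟩ := hTU b hb
    have := eq_one_of_ss_un (hss (t⁻¹ * b)) hu
    rwa [← inv_mul_eq_one.mp this]
  have hcomm : ∀ a ∈ B, ∀ b ∈ B, Commute a b := fun a ha b hb => hT.2.1 a (hBT ha) b (hBT hb)
  have hcen : ∀ b ∈ B, ∀ g : Γk, Commute b g := fun b hb g => by
    have e : g * b * g⁻¹ = b := AGFHopf.pt_ext fun F => by
      have h1 := eq_of_right_inv hA hsep hB (F := fun x => (F : Γk → k) (x * b * x⁻¹))
        (by simpa using mem_ptR_inv (mem_ptR_conj F.2 b)) (fun x b' hb' => by
          show (F : Γk → k) (x * b' * b * (x * b')⁻¹) = _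
          rw [mul_assoc x b' b, (hcomm b' hb' b hb).eq]
          group) g
      simpa using h1
    exact (mul_inv_eq_iff_eq_mul.mp e).symm
  have htop := bor_eq_top_of_central hA hsep hB hTB (fun t ht => hcen t (hTB ht)) hTU
  exact hcen g (htop ▸ trivial) h

end Comm

/-- A connected group all of whose points are semisimple is diagonalizable. -/
theorem isDiagonalizable_of_ss {k : Type u} [Field k] [IsAlgClosed k] {A : Type v} [CommRing A] [HopfAlgebra k A]
    [Algebra.FiniteType k A] [_root_.IsReduced A] (hconn : ∀ e : A, IsIdempotentElem e → e = 0 ∨ e = 1)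
    (hss : ∀ (g : A →ₐ[k] k) (V : Type v) [AddCommGroup V] [Module k V] [HopfRep.Comod k A V],
      Module.Finite k V → Module.End.IsSemisimple (HopfRep.Comod.act k A V g)) :
    HopfRep.IsDiagonalizable k A := by
  haveI := ComodLib.isDomain_of_connected k hconn
  obtain ⟨B, _, _, _, ⟨e⟩⟩ := SmallHopf.exists_small (k := k) (A := A)
  have hssA : ∀ g : WithConv (A →ₐ[k] k), IsSSPt g := fun g V _ _ _ hV => hss g.ofConv V hV
  refine isDiagonalizable_of_commute (fun g h => ?_) hssA
  haveI : IsDomain B := e.symm.toAlgEquiv.injective.isDomain e.symm.toAlgEquiv.toRingHom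
  have hssB : ∀ g : WithConv (B →ₐ[k] k), IsSSPt g := by
    obtain ⟨U, hU, hUf, hgen⟩ := exists_faithful (k := k) (A := A)
    letI cU : HopfRep.Comod k A U := ComodSub.Comod.restr (HopfRep.Comod.regular k A) U hU
    haveI := hUf
    haveI : _root_.IsReduced B := isReduced_of_injective e.symm.toAlgEquiv.toRingHom e.symm.toAlgEquiv.injective
    let L : A →ₗ[k] B := e.toAlgEquiv.toLinearMap
    let U' : Submodule k B := U.map L
    have key : ∀ (g : WithConv (B →ₐ[k] k)) (a : A),
        ptAct B g (L a) = L (ptAct A (toConv (g.ofConv.comp e.toAlgEquiv.toAlgHom)) a) := fun g a => by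
      show slice g.ofConv.toLinearMap (Coalgebra.comul (R := k) ((e : A →ₐc[k] B) a)) =
        L (slice (g.ofConv.comp e.toAlgEquiv.toAlgHom).toLinearMap (Coalgebra.comul (R := k) a))
      rw [← CoalgHomClass.map_comp_comul_apply (e : A →ₐc[k] B) a]
      induction Coalgebra.comul (R := k) a using TensorProduct.induction_on with
      | zero => simp
      | tmul p q => simp [L]
      | add p q hp hq => simp only [map_add, hp, hq]
    have hU' : HopfRep.IsSubcomod (k := k) (A := B) U' := isSubcomod_of_forall_act fun g x hx => by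
      obtain ⟨a, ha, rfl⟩ := hx
      show ptAct B (toConv g) (L a) ∈ U'
      rw [key]
      exact ⟨_, ptAct_mem hU _ ha, rfl⟩
    letI cU' : HopfRep.Comod k B U' := ComodSub.Comod.restr (HopfRep.Comod.regular k B) U' hU'
    haveI : Module.Finite k U' := Module.Finite.map U L
    have hgen' : Algebra.adjoin k (U' : Set B) = ⊤ := by
      have h := AlgHom.map_adjoin e.toAlgEquiv.toAlgHom (U : Set A)
      rw [hgen, Algebra.map_top, (AlgHom.range_eq_top _).mpr e.toAlgEquiv.surjective] at h
      exact h.symm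
    intro g
    refine isSSPt_of_faithful U' (ptAct_injective_of_generators hU' hgen') ?_
    let eU : U ≃ₗ[k] U' := Submodule.equivMapOfInjective L e.toAlgEquiv.injective U
    refine (LinearEquiv.isSemisimple_iff (ptAct U (toConv (g.ofConv.comp e.toAlgEquiv.toAlgHom))) _ eU ?_).mp
      (hssA _ U inferInstance)
    refine LinearMap.ext fun w => Subtype.ext ?_
    show L (U.subtype (ptAct U _ w)) = U'.subtype (ptAct U' g (eU w))
    rw [ptAct_comm (ComodSub.isComodHom_subtype _ U hU), ptAct_comm (ComodSub.isComodHom_subtype _ U' hU')]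
    exact (key g (w : A)).symm
  have := commute_of_ss hssB (toConv (g.ofConv.comp ((e.symm : B →ₐc[k] A) : B →ₐ[k] A)))
    (toConv (h.ofConv.comp ((e.symm : B →ₐc[k] A) : B →ₐ[k] A)))
  refine WithConv.ofConv_injective (AlgHom.ext fun a => ?_)
  obtain ⟨b, rfl⟩ := e.symm.surjective a
  have h' := AlgHom.congr_fun (congrArg WithConv.ofConv this.eq) b
  rw [← AlgHom.convMul_comp_bialgHom_distrib, ← AlgHom.convMul_comp_bialgHom_distrib] at h'
  exact h'

end Groth.Agent.AGF27.SSTorus
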