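import Groth.Agent.AGF27.Unip.Scheme
import Groth.Agent.AGF27.MultAct
import Groth.Agent.ComodLib.Basic
import Groth.Prelude.Def_ComodSub

/-! Fixed vectors of unipotent groups in stable subspaces. -/

universe u

open CategoryTheory AlgebraicGeometry MonoidalCategory CartesianMonoidalCategory MonObj GrpObj TensorProduct
open Groth.Agent.GrpSchLib.Kunneth
open scoped Groth.Agent.AGF27

namespace Groth.Agent.AGF27

variable {k : Type u} [Field k] {H : Over (Spec (CommRingCat.of k))} [GrpObj H] [IsAffine H.left]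
variable {M : Type u} [AddCommGroup M] [Module k M] (m : VecGrp.GMod H M)

theorem mem_fixedUnder_id_iff (x : M) : x ∈ m.fixedUnder (𝟙 H) ↔ coactOf m x = x ⊗ₜ[k] (1 : Fn H) := by
  rw [mem_fixedUnder_iff, show (ev (𝟙 H)).toLinearMap = LinearMap.id from LinearMap.ext fun f => ev_id f,
    LinearMap.lTensor_id, LinearMap.id_apply]

/-- A unipotent group fixes a nonzero vector in every nonzero stable subspace. -/
theorem exists_fixed_mem_of_isSubcomod (hH : HopfRep.IsUnipotent k (Fn H)) {W : Submodule k M}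
    (hW : letI := comodOf m; HopfRep.IsSubcomod (k := k) (A := Fn H) W) {x : M} (hx : x ∈ W) (hx0 : x ≠ 0) :
    ∃ y ∈ W, y ≠ 0 ∧ y ∈ m.fixedUnder (𝟙 H) := by
  letI cM : HopfRep.Comod k (Fn H) M := comodOf m
  letI cW : HopfRep.Comod k (Fn H) W := ComodSub.Comod.restr cM W hW
  obtain ⟨U, hUf, hxU, hU⟩ := ComodLib.exists_finite_subcomod_mem (k := k) (C := Fn H) (⟨x, hx⟩ : W)
  letI cU : HopfRep.Comod k (Fn H) U := ComodSub.Comod.restr cW U hU
  haveI : Nontrivial U := ⟨⟨⟨⟨x, hx⟩, hxU⟩, 0, fun h => hx0 (congrArg (fun u : U => ((u : W) : M)) h)⟩⟩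
  obtain ⟨u, hu, hu0⟩ := Submodule.exists_mem_ne_zero_of_ne_bot (hH U hUf inferInstance)
  refine ⟨((u : W) : M), (u : W).2, fun h => hu0 (Subtype.ext (Subtype.ext h)), (mem_fixedUnder_id_iff m _).2 ?_⟩
  have h1 : U.subtype.rTensor (Fn H) (HopfRep.Comod.coact (k := k) (A := Fn H) u) =
      HopfRep.Comod.coact (k := k) (A := Fn H) (u : W) := ComodSub.restr_coact_coe cW U hU u
  have h2 : W.subtype.rTensor (Fn H) (HopfRep.Comod.coact (k := k) (A := Fn H) (u : W)) = coactOf m ((u : W) : M) :=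
    ComodSub.restr_coact_coe cM W hW (u : W)
  rw [← h2, ← h1, show HopfRep.Comod.coact (k := k) (A := Fn H) u = u ⊗ₜ[k] (1 : Fn H) from hu]
  simp

/-- The coaction on an algebra with multiplicative action, as a ring map. -/
theorem rho_univ_mul {A : Type u} [CommRing A] [Algebra k A] (ρ : VecGrp.GMod H A) (hρ : ρ.IsMult) (x y : A) :
    ρ.ρ (Fn H) (univPt H) ((1 : Fn H) ⊗ₜ[k] (x * y)) =
      ρ.ρ (Fn H) (univPt H) ((1 : Fn H) ⊗ₜ[k] x) * ρ.ρ (Fn H) (univPt H) ((1 : Fn H) ⊗ₜ[k] y) := by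
  rw [← (hρ (Fn H) (univPt H)).1, Algebra.TensorProduct.tmul_mul_tmul, _root_.one_mul]

theorem coactOf_eq_comm (x : M) :
    coactOf m x = TensorProduct.comm k (Fn H) M (m.ρ (Fn H) (univPt H) ((1 : Fn H) ⊗ₜ[k] x)) := rfl

/-- A subspace stable under the rational points of a smooth group is a subcomodule. -/
theorem isSubcomod_of_forall_rAct [IsAlgClosed k] [Smooth H.hom] {W : Submodule k M}
    (h : ∀ (g : VecGrp.pt k k ⟶ H), ∀ x ∈ W, rAct m g x ∈ W) :
    letI := comodOf m; HopfRep.IsSubcomod (k := k) (A := Fn H) W := by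
  haveI := isReduced_fn (G := H)
  haveI : LocallyOfFiniteType H.hom := inferInstance
  intro x hx
  have hex : Function.Exact W.subtype W.mkQ := LinearMap.exact_subtype_mkQ W
  refine (Module.Flat.rTensor_exact (Fn H) hex _).mp (ComodLib.eq_zero_of_forall_pt fun p => ?_)
  rw [ComodLib.slice_rTensor, Submodule.mkQ_apply, Submodule.Quotient.mk_eq_zero, ← pullFn_toPt (X := H) p]
  exact h (toPt p) x hx

omit [IsAffine H.left] in
/-- The rational module restricted along a homomorphism. -/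
noncomputable def gmodRes {G : Over (Spec (CommRingCat.of k))} [GrpObj G] (m : VecGrp.GMod G M) (i : H ⟶ G) [IsMonHom i] :
    VecGrp.GMod H M where
  ρ B _ _ := (m.ρ B).comp
    { toFun := fun h => h ≫ i
      map_one' := MonObj.one_comp i
      map_mul' := fun a b => MonObj.mul_comp a b i }
  naturality φ g x := (m.naturality φ (g ≫ i) x).trans (by rw [← Category.assoc]; rfl)

theorem mem_fixedUnder_gmodRes {G : Over (Spec (CommRingCat.of k))} [GrpObj G] (m : VecGrp.GMod G M) (i : H ⟶ G)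
    [IsMonHom i] {x : M} (hx : x ∈ (gmodRes m i).fixedUnder (𝟙 H)) : x ∈ m.fixedUnder i := fun B _ _ h => by
  have := hx B h
  rwa [Category.comp_id] at this

/-- A unipotent subgroup fixes a nonzero vector in every nonzero subspace stable under the rational points. -/
theorem exists_fixed_mem [IsAlgClosed k] [Smooth H.hom] (hH : HopfRep.IsUnipotent k (Fn H))
    {G : Over (Spec (CommRingCat.of k))} [GrpObj G] [IsAffine G.left] (m : VecGrp.GMod G M) (i : H ⟶ G) [IsMonHom i]
    {W : Submodule k M} (h : ∀ (g : VecGrp.pt k k ⟶ G), ∀ x ∈ W, rAct m g x ∈ W) {x : M} (hx : x ∈ W) (hx0 : x ≠ 0) :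
    ∃ y ∈ W, y ≠ 0 ∧ y ∈ m.fixedUnder i := by
  have h' : ∀ (g : VecGrp.pt k k ⟶ H), ∀ x ∈ W, rAct (gmodRes m i) g x ∈ W := fun g x hx => by
    have e : rAct (gmodRes m i) g x = rAct m (g ≫ i) x := by
      apply one_tmul_injective (k := k)
      show (1 : k) ⊗ₜ[k] rAct (gmodRes m i) g x = (1 : k) ⊗ₜ[k] rAct m (g ≫ i) x
      rw [← ρ_k_one_tmul, ← ρ_k_one_tmul]
      rfl
    rw [e]
    exact h _ x hx
  obtain ⟨y, hy, hy0, hyf⟩ := exists_fixed_mem_of_isSubcomod _ hH (isSubcomod_of_forall_rAct _ h') hx hx0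
  exact ⟨y, hy, hy0, mem_fixedUnder_gmodRes m i hyf⟩

end Groth.Agent.AGF27
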