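import Groth.Agent.AGF27.Solvable
import Groth.Agent.AGF27.UnipFix
import Groth.Agent.ComodLib.Trig

/-! Eigenvectors of solvable groups; unipotent groups have no characters. -/

universe u

open CategoryTheory AlgebraicGeometry MonoidalCategory CartesianMonoidalCategory MonObj GrpObj TensorProduct WithConv
open Groth.Agent.GrpSchLib.Kunneth
open scoped Groth.Agent.AGF27

namespace Groth.Agent.AGF27

variable {k : Type u} [Field k]

/-- A unipotent Hopf algebra has only the trivial group-like element. -/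
theorem eq_one_of_isGroupLikeElem_of_isUnipotent {A : Type u} [CommRing A] [Bialgebra k A]
    (hU : HopfRep.IsUnipotent k A) {c : A} (hc : IsGroupLikeElem k c) : c = 1 := by
  let L : Submodule k A := Submodule.span k {c}
  have hL : @HopfRep.IsSubcomod k A _ _ _ _ A _ _ (HopfRep.Comod.regular k A) L := by
    intro x hx
    obtain ⟨r, rfl⟩ := Submodule.mem_span_singleton.mp hx
    refine ⟨(r • ⟨c, Submodule.mem_span_singleton_self c⟩ : L) ⊗ₜ[k] c, ?_⟩
    show ((r • c : A) ⊗ₜ[k] c) = Coalgebra.comul (R := k) (r • c)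
    rw [map_smul, hc.comul_eq_tmul_self, TensorProduct.smul_tmul']
  letI := ComodSub.Comod.restr (HopfRep.Comod.regular k A) L hL
  haveI : Nontrivial L := ⟨⟨⟨c, Submodule.mem_span_singleton_self c⟩, 0, fun h => hc.ne_zero (congrArg Subtype.val h)⟩⟩
  obtain ⟨v, hv, hv0⟩ := Submodule.exists_mem_ne_zero_of_ne_bot (hU L inferInstance inferInstance)
  have h : Coalgebra.comul (R := k) (v : A) = (v : A) ⊗ₜ[k] (1 : A) := by
    refine ((ComodSub.restr_coact_coe (HopfRep.Comod.regular k A) L hL v).symm.trans ?_)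
    rw [show HopfRep.Comod.coact (k := k) (A := A) v = v ⊗ₜ[k] (1 : A) from hv]
    simp
  obtain ⟨r, hr⟩ := Submodule.mem_span_singleton.mp v.2
  rw [← hr, map_smul, hc.comul_eq_tmul_self, ← TensorProduct.smul_tmul'] at h
  have hr0 : r ≠ 0 := fun h0 => hv0 (Subtype.ext (by rw [← hr, h0, zero_smul]; rfl))
  have h2 := congrArg (fun z => TensorProduct.lid k A ((Coalgebra.counit (R := k)).rTensor A z))
    (smul_right_injective _ hr0 h)
  simpa [hc.counit_eq_one] using h2

variable [IsAlgClosed k] {H : Over (Spec (CommRingCat.of k))} [GrpObj H] [IsAffine H.left] [Smooth H.hom]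
  [ConnectedSpace H.left] {M : Type u} [AddCommGroup M] [Module k M]

/-- A connected solvable group has an eigenvector in every nonzero stable subspace. -/
theorem exists_eigen_mem (hs : ∃ n : ℕ, derivedSeries (VecGrp.pt k k ⟶ H) n = ⊥) (m : VecGrp.GMod H M)
    {W : Submodule k M} (hW : ∀ (g : VecGrp.pt k k ⟶ H), ∀ x ∈ W, rAct m g x ∈ W) {x : M} (hx : x ∈ W) (hx0 : x ≠ 0) :
    ∃ y ∈ W, y ≠ 0 ∧ ∃ c : Fn H, IsGroupLikeElem k c ∧ coactOf m y = y ⊗ₜ[k] c := by
  have hT := isTrigonalizable_fn hs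
  letI cM : HopfRep.Comod k (Fn H) M := comodOf m
  letI cW : HopfRep.Comod k (Fn H) W := ComodSub.Comod.restr cM W (isSubcomod_of_forall_rAct m hW)
  obtain ⟨U, hUf, hxU, hU⟩ := ComodLib.exists_finite_subcomod_mem (k := k) (C := Fn H) (⟨x, hx⟩ : W)
  letI cU : HopfRep.Comod k (Fn H) U := ComodSub.Comod.restr cW U hU
  haveI : Nontrivial U := ⟨⟨⟨⟨x, hx⟩, hxU⟩, 0, fun h => hx0 (congrArg (fun u : U => ((u : W) : M)) h)⟩⟩
  obtain ⟨F, -, hFs, -, hFr⟩ := ComodLib.exists_flag hT U
  have h1 : Module.finrank k (F 1) = 1 := hFr 1 Module.finrank_pos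
  have hne : F 1 ≠ ⊥ := fun h => zero_ne_one ((Submodule.finrank_eq_zero.mpr h).symm.trans h1)
  obtain ⟨v₁, hv₁, hv₁0⟩ := Submodule.exists_mem_ne_zero_of_ne_bot hne
  let v : F 1 := ⟨v₁, hv₁⟩
  have hv : v ≠ 0 := fun h => hv₁0 (congrArg Subtype.val h)
  have hsp : Submodule.span k {v₁} = F 1 := Submodule.eq_of_le_of_finrank_le (by simpa using hv₁)
    (by rw [h1, finrank_span_singleton hv₁0])
  have hvspan : ∀ a : F 1, ∃ r : k, r • v = a := fun a => by
    obtain ⟨r, hr⟩ := Submodule.mem_span_singleton.mp (hsp.symm.le a.2)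
    exact ⟨r, Subtype.ext hr⟩
  obtain ⟨z, hz⟩ := hFs 1 v v.2
  obtain ⟨c, hc⟩ : ∃ c, HopfRep.Comod.coact (k := k) (A := Fn H) (v : U) = (v : U) ⊗ₜ[k] c := by
    rw [← hz]
    clear hz
    induction z using TensorProduct.induction_on with
    | zero => exact ⟨0, by simp⟩
    | tmul a b =>
      obtain ⟨r, rfl⟩ := hvspan a
      exact ⟨r • b, by simp [TensorProduct.smul_tmul]⟩
    | add p q hp hq =>
      obtain ⟨c, hc⟩ := hp
      obtain ⟨d, hd⟩ := hq
      exact ⟨c + d, by rw [map_add, hc, hd, TensorProduct.tmul_add]⟩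
  have hv0 : (v : U) ≠ 0 := fun h => hv (Subtype.ext h)
  obtain ⟨f, hf⟩ := Module.Projective.exists_dual_ne_zero k hv0
  have hcc : IsGroupLikeElem k c := by
    have e1 : ComodLib.coefFun (C := Fn H) f (v : U) = f v • c := by
      rw [ComodLib.coefFun_apply, hc, LinearMap.rTensor_tmul, TensorProduct.lid_tmul]
    refine ⟨?_, ?_⟩
    · have := ComodLib.counit_coefFun (C := Fn H) f (v : U)
      rw [e1, map_smul, smul_eq_mul] at this
      exact mul_left_cancel₀ hf (this.trans (_root_.mul_one _).symm)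
    · have h := LinearMap.congr_fun (ComodLib.isComodHom_coefFun (C := Fn H) f) (v : U)
      simp only [LinearMap.comp_apply] at h
      rw [e1, hc, LinearMap.rTensor_tmul, e1, ← TensorProduct.smul_tmul'] at h
      exact smul_right_injective _ hf ((map_smul (Coalgebra.comul (R := k)) (f v) c).symm.trans h)
  refine ⟨((v : U) : W), (v : U).1.2, fun h => hv0 (Subtype.ext (Subtype.ext h)), c, hcc, ?_⟩
  have h1 : U.subtype.rTensor (Fn H) (HopfRep.Comod.coact (k := k) (A := Fn H) (v : U)) =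
      HopfRep.Comod.coact (k := k) (A := Fn H) ((v : U) : W) := ComodSub.restr_coact_coe cW U hU (v : U)
  have h2 : W.subtype.rTensor (Fn H) (HopfRep.Comod.coact (k := k) (A := Fn H) ((v : U) : W)) =
      coactOf m (((v : U) : W) : M) := ComodSub.restr_coact_coe cM W _ ((v : U) : W)
  rw [← h2, ← h1, hc]
  simp

theorem rAct_of_coactOf {y : M} {c : Fn H} (m : VecGrp.GMod H M) (h : coactOf m y = y ⊗ₜ[k] c)
    (g : VecGrp.pt k k ⟶ H) : rAct m g y = pullFn g c • y := by
  simp [rAct, h]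

theorem coactOf_of_forall_rAct {y : M} {c : Fn H} (m : VecGrp.GMod H M)
    (h : ∀ g : VecGrp.pt k k ⟶ H, rAct m g y = pullFn g c • y) : coactOf m y = y ⊗ₜ[k] c := by
  haveI := isReduced_fn (G := H)
  haveI : LocallyOfFiniteType H.hom := inferInstance
  refine sub_eq_zero.mp (ComodLib.eq_zero_of_forall_pt fun p => ?_)
  rw [map_sub, ComodLib.slice_tmul, sub_eq_zero, ← pullFn_toPt (X := H) p]
  exact h (toPt p)

end Groth.Agent.AGF27
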