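import Groth.Agent.AGF27.CharLift
import Groth.Agent.AGF27.ObsIndexG
import Groth.Agent.AGF27.ObsGMod
import Groth.Agent.AGF27.InvUFD
import Groth.Agent.AGFHopf.LieKolchin
import Groth.Agent.AGFHopf.SchSub
import Groth.Agent.GrpSchLib.IdentityComp
import Groth.Prelude.Def_Red2
import Mathlib.AlgebraicGeometry.Morphisms.FlatMono

/-!
# Subgroups of solvable groups are observable
-/

universe u

open CategoryTheory CategoryTheory.Limits AlgebraicGeometry MonoidalCategory CartesianMonoidalCategory MonObj GrpObj
open TensorProduct WithConv Groth.Agent.GrpSchLib.Kunneth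
open scoped Groth.Agent.AGF27

namespace Groth.Agent.AGF27

/-- Every quotient of a trigonalizable Hopf algebra is observable. -/
theorem Obs.isObs_of_isTrigonalizable {k : Type u} [Field k] [IsAlgClosed k] {A B : Type u} [CommRing A] [HopfAlgebra k A]
    [Algebra.FiniteType k A] [_root_.IsReduced A] [CommRing B] [HopfAlgebra k B] [_root_.IsReduced B] (π : A →ₐc[k] B)
    (hπ : Function.Surjective π) (hT : HopfRep.IsTrigonalizable k A) : Obs.IsObs π := by
  haveI : Algebra.FiniteType k B := .of_surjective (π : A →ₐ[k] B) hπ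
  refine (Obs.isObs_iff_occurs π hπ).2 fun χ hχ _ => ?_
  obtain ⟨b, hb, hbχ⟩ := CharLift.exists_groupLike_lift hT π hπ hχ.antipode
  refine Obs.occurs_of_weight_fn π ?_ hb.ne_zero
  show (π : A →ₐ[k] B).toLinearMap.lTensor A (Coalgebra.comul (R := k) b) = _
  rw [hb.comul_eq_tmul_self, LinearMap.lTensor_tmul]
  exact congrArg _ hbχ

variable {k : Type u} [Field k] {G H : Over (Spec (CommRingCat.of k))} [GrpObj G] [GrpObj H]

/-- The intersection of a subgroup with an open subgroup. -/
theorem exists_grpObj_inter {G₀ : Over (Spec (CommRingCat.of k))} [GrpObj G₀] (i : H ⟶ G) [IsMonHom i] (j : G₀ ⟶ G)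
    [IsMonHom j] [IsOpenImmersion j.left] :
    ∃ (K : Over (Spec (CommRingCat.of k))) (_ : GrpObj K) (a : K ⟶ H) (b : K ⟶ G₀) (_ : IsMonHom a) (_ : IsMonHom b),
      b ≫ j = a ≫ i ∧ IsOpenImmersion a.left := by
  haveI : Mono ((Over.forget _).map j) := inferInstanceAs (Mono j.left)
  haveI : Mono j := (Over.forget _).mono_of_mono_map inferInstance
  haveI : HasPullback i j := inferInstance
  let a : pullback i j ⟶ H := pullback.fst i j
  let b : pullback i j ⟶ G₀ := pullback.snd i j
  have hsq : a ≫ i = b ≫ j := pullback.condition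
  obtain ⟨_, ha⟩ := AGFHopf.exists_grpObj_of_mono a
    ⟨pullback.lift η[H] η[G₀] (by rw [IsMonHom.one_hom i, IsMonHom.one_hom j]), pullback.lift_fst _ _ _⟩
    ⟨pullback.lift ((fst _ _ ≫ a) * (snd _ _ ≫ a)) ((fst _ _ ≫ b) * (snd _ _ ≫ b)) (by
      rw [MonObj.mul_comp, MonObj.mul_comp]; simp only [Category.assoc, hsq]), pullback.lift_fst _ _ _⟩
    ⟨pullback.lift a⁻¹ b⁻¹ (by rw [GrpObj.inv_comp, GrpObj.inv_comp, hsq]), pullback.lift_fst _ _ _⟩
  haveI := ha
  haveI hbj : IsMonHom (b ≫ j) := by rw [← hsq]; infer_instance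
  refine ⟨pullback i j, inferInstance, a, b, ha,
    { one_hom := by
        rw [← cancel_mono j, Category.assoc, IsMonHom.one_hom (b ≫ j), IsMonHom.one_hom j]
      mul_hom := by
        rw [← cancel_mono j, Category.assoc, IsMonHom.mul_hom (b ≫ j), Category.assoc, IsMonHom.mul_hom j,
          MonoidalCategory.tensorHom_comp_tensorHom_assoc] }, hsq.symm, ?_⟩
  haveI : IsOpenImmersion ((Over.forget _).map j) := inferInstanceAs (IsOpenImmersion j.left)
  have h := (IsPullback.of_hasPullback i j).map (Over.forget _)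
  exact MorphismProperty.of_isPullback (P := @IsOpenImmersion) h.flip inferInstance

variable [IsAlgClosed k] [IsAffine G.left] [Smooth G.hom]

/-- A smooth connected solvable affine group is trigonalizable. -/
theorem isTrigonalizable_fn [ConnectedSpace G.left] (hs : ∃ n : ℕ, derivedSeries (VecGrp.pt k k ⟶ G) n = ⊥) :
    HopfRep.IsTrigonalizable k (Fn G) := by
  haveI := isDomain_fn (G := G)
  haveI := isReduced_fn (G := G)
  haveI : LocallyOfFiniteType G.hom := inferInstance
  refine AGFHopf.isTrigonalizable_of_isSolvable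
    (fun e he => IsIdempotentElem.iff_eq_zero_or_one.mp he) ?_
  haveI : Group.IsSolvable (VecGrp.pt k k ⟶ G) := ⟨hs⟩
  exact solvable_of_surjective (f := (ptConv G).toMonoidHom) (ptConv G).surjective

/-- Every closed subgroup of a solvable group is observable. -/
theorem isObservableIn_of_solvable [IsAffine H.left] [Smooth H.hom] (i : H ⟶ G) [IsMonHom i] [IsClosedImmersion i.left]
    (hs : Red.IsSolvableGrp G) : AGF.IsObservableIn k i := by
  obtain ⟨G₀, _, j, hjm, hjc, hjf, hr, -, -⟩ := GrpSchLib.exists_identityComponent (G := G)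
  haveI := hjm; haveI := hjc; haveI := hjf
  haveI : LocallyOfFiniteType G.hom := inferInstance
  haveI : IsLocallyNoetherian G.left := LocallyOfFiniteType.isLocallyNoetherian G.hom
  haveI : IsOpenImmersion j.left := IsOpenImmersion.of_flat_of_mono j.left
  haveI : ConnectedSpace G₀.left := by
    have h : _root_.IsConnected (Set.range j.left) := hr ▸ isConnected_connectedComponent
    obtain ⟨_, x, -⟩ := h.1
    refine connectedSpace_iff_univ.mpr ⟨⟨x, trivial⟩, ?_⟩
    refine j.left.isClosedEmbedding.isInducing.isPreconnected_image.mp ?_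
    rw [Set.image_univ]
    exact h.2
  obtain ⟨K, _, a, b, ham, hbm, hsq, hopen⟩ := exists_grpObj_inter i j
  haveI := ham; haveI := hbm; haveI := hopen
  rw [isObservableIn_iff_of_open i j a b hsq]
  haveI := isClosedImmersion_of_isOpenImmersion a
  haveI : IsAffine G₀.left := isAffine_of_isAffineHom j.left
  haveI : IsAffine K.left := isAffine_of_isAffineHom a.left
  haveI : Smooth G₀.hom := smooth_of_isOpenImmersion j
  haveI : Smooth K.hom := smooth_of_isOpenImmersion a
  haveI : IsClosedImmersion (b.left ≫ j.left) := by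
    rw [← Over.comp_left, hsq, Over.comp_left]
    infer_instance
  haveI : IsClosedImmersion b.left := IsClosedImmersion.of_comp b.left j.left
  haveI := isReduced_fn (G := G₀)
  haveI := isReduced_fn (G := K)
  haveI : LocallyOfFiniteType G₀.hom := inferInstance
  refine (isObservableIn_iff_isObs b).2 (Obs.isObs_of_isTrigonalizable _ (ev_surjective b) (isTrigonalizable_fn ?_))
  obtain ⟨n, hn⟩ := hs
  let φ : (VecGrp.pt k k ⟶ G₀) →* (VecGrp.pt k k ⟶ G) :=
    { toFun := fun x => x ≫ j
      map_one' := MonObj.one_comp j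
      map_mul' := fun x y => MonObj.mul_comp x y j }
  haveI : Mono j := (Over.forget _).mono_of_mono_map (inferInstanceAs (Mono j.left))
  refine ⟨n, (Subgroup.map_eq_bot_iff_of_injective _ (fun x y h => (cancel_mono j).1 h : Function.Injective φ)).1 ?_⟩
  exact eq_bot_iff.mpr ((map_derivedSeries_le_derivedSeries φ n).trans (hn _).le)

end Groth.Agent.AGF27
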