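import Groth.Agent.AGF27.ObsScheme
import Groth.Agent.AGFHopf.SchBorel
import Groth.Agent.AGFHopf.PBorEx
import Groth.Agent.AGFHopf.LieKolchin
import Groth.Agent.AGFHopf.TrigStruct
import Groth.Agent.AGFHopf.UniPoints
import Groth.Agent.ComodLib.Push
import Groth.Agent.AGF27.Unip.Scheme
import Groth.Agent.AGF27.Unip.NoTorus

/-!
# Closed connected subgroups of rational points consisting of unipotents, and the largest normal one

A subgroup `S` of points is unipotently acting (`IsUS`) when every strict inclusion of `S`-stable subspaces of a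
finite comodule contains a vector fixed modulo the smaller one. This property passes to closures and to joins of
normalizing pairs, so a largest closed connected normal such subgroup exists.
-/

set_option linter.style.haveILetI false

universe u

open CategoryTheory AlgebraicGeometry MonoidalCategory CartesianMonoidalCategory MonObj GrpObj TensorProduct WithConv
open Groth.Agent.GrpSchLib.Kunneth Groth.Agent.AGFHopf
open scoped Groth.Agent.AGF27 commutatorElement

namespace Groth.Agent.AGF27.UniRad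

section Abstract

variable {k : Type u} [Field k] {A : Type u} [CommRing A] [HopfAlgebra k A]

local notation "Γk" => WithConv (A →ₐ[k] k)

/-- Every strict inclusion of stable subspaces contains a vector fixed modulo the smaller one. -/
def IsUS (S : Subgroup Γk) : Prop :=
  ∀ (V : Type u) [AddCommGroup V] [Module k V] [HopfRep.Comod k A V], Module.Finite k V →
    ∀ W' W : Submodule k V, W' < W → (∀ g ∈ S, ∀ v ∈ W', ptAct V g v ∈ W') →
      (∀ g ∈ S, ∀ v ∈ W, ptAct V g v ∈ W) → ∃ v ∈ W, v ∉ W' ∧ ∀ g ∈ S, ptAct V g v - v ∈ W'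

theorem isUS_bot : IsUS (⊥ : Subgroup Γk) := by
  intro V _ _ _ _ W' W h _ _
  obtain ⟨v, hv, hv'⟩ := SetLike.exists_of_lt h
  exact ⟨v, hv, hv', fun g hg => by simp [Subgroup.mem_bot.mp hg]⟩

/-- The points carrying one vector into a subspace, up to a translation, form a closed set. -/
theorem coef_eq {V : Type u} [AddCommGroup V] [Module k V] [HopfRep.Comod k A V] (g : Γk) (f : Module.Dual k V)
    (v : V) : g.ofConv (ComodLib.coefFun (C := A) f v) = f (ptAct V g v) := by
  show _ = f (ComodLib.slice g.ofConv.toLinearMap (HopfRep.Comod.coact (k := k) (A := A) v))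
  rw [ComodLib.coefFun_apply]
  induction HopfRep.Comod.coact (k := k) (A := A) v using TensorProduct.induction_on with
  | zero => simp
  | tmul p q => simp [_root_.mul_comm]
  | add p q hp hq => simp only [map_add, hp, hq]

/-- The points carrying one vector into a subspace, up to a translation, form a closed set. -/
theorem isCl_setOf_mem {V : Type u} [AddCommGroup V] [Module k V] [HopfRep.Comod k A V] (W : Submodule k V)
    (v w : V) : ZPts.IsCl (ptR k A) {g : Γk | ptAct V g v - w ∈ W} := by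
  let φ : W.dualAnnihilator → ptR k A := fun f =>
    ⟨_, ptEval_mem (ComodLib.coefFun (C := A) (f : Module.Dual k V) v)⟩ -
      algebraMap k (ptR k A) ((f : Module.Dual k V) w)
  have e : {g : Γk | ptAct V g v - w ∈ W} = {g : Γk | ∀ f, (φ f : Γk → k) g = 0} := by
    ext g
    show _ ↔ ∀ f : W.dualAnnihilator, g.ofConv (ComodLib.coefFun (C := A) (f : Module.Dual k V) v) -
      (f : Module.Dual k V) w = 0
    refine ⟨fun h f => ?_, fun h => ?_⟩
    · rw [coef_eq, ← map_sub]
      exact (Submodule.mem_dualAnnihilator _).mp f.2 _ h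
    · refine (Subspace.forall_mem_dualAnnihilator_apply_eq_zero_iff W _).mp fun f hf => ?_
      rw [map_sub, ← coef_eq]
      exact h ⟨f, hf⟩
  rw [e]
  exact ZPts.isCl_setOf_forall φ

theorem mapsTo_cl {φ : Γk → Γk} (hφ : ∀ F ∈ ptR k A, (fun g => F (φ g)) ∈ ptR k A) {S T : Set Γk}
    (h : Set.MapsTo φ S T) : Set.MapsTo φ (ZPts.cl (ptR k A) S) (ZPts.cl (ptR k A) T) :=
  fun _ hx F hF => hx ⟨_, hφ F F.2⟩ fun _ hy => hF _ (h hy)

theorem mul_mem_cl (S : Subgroup Γk) {x y : Γk} (hx : x ∈ ZPts.cl (ptR k A) (S : Set Γk))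
    (hy : y ∈ ZPts.cl (ptR k A) (S : Set Γk)) : x * y ∈ ZPts.cl (ptR k A) (S : Set Γk) := by
  have h1 : ∀ a ∈ S, a * y ∈ ZPts.cl (ptR k A) (S : Set Γk) := fun a ha =>
    mapsTo_cl (fun F hF => (mem_ptR_mul hF a).2) (fun b hb => S.mul_mem ha hb) hy
  refine ZPts.isCl_cl _ ?_
  exact mapsTo_cl (φ := fun g => g * y) (fun F hF => (mem_ptR_mul hF y).1) h1 hx

/-- The closure of a subgroup. -/
def clSub (S : Subgroup Γk) : Subgroup Γk where
  carrier := ZPts.cl (ptR k A) (S : Set Γk)
  one_mem' := ZPts.subset_cl _ (one_mem S)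
  mul_mem' := mul_mem_cl S
  inv_mem' := fun {_} hx => mapsTo_cl (φ := fun g : Γk => g⁻¹) (fun _ hF => mem_ptR_inv hF)
    (fun _ ha => S.inv_mem ha) hx

theorem le_clSub (S : Subgroup Γk) : S ≤ clSub S := ZPts.subset_cl _

theorem isCC_clSub {S : Subgroup Γk} (h : ZPts.IsIrr (ptR k A) (S : Set Γk)) : IsCC (clSub S) :=
  ⟨ZPts.isCl_cl _, h.closure⟩

theorem clSub_le {S T : Subgroup Γk} (hT : ZPts.IsCl (ptR k A) (T : Set Γk)) (h : S ≤ T) : clSub S ≤ T :=
  hT.cl_subset h

theorem clSub_mono {S T : Subgroup Γk} (h : S ≤ T) : clSub S ≤ clSub T :=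
  clSub_le (ZPts.isCl_cl _) (h.trans (le_clSub T))

theorem clSub_bot : clSub (⊥ : Subgroup Γk) = ⊥ :=
  le_antisymm (clSub_le isCC_bot'.1 le_rfl) bot_le
where
  isCC_bot' : IsCC (⊥ : Subgroup Γk) := by
    refine ⟨fun x hx => AGFHopf.pt_ext fun F => ?_, by rw [Subgroup.coe_bot]; exact ZPts.isIrr_singleton 1⟩
    have := hx (F - algebraMap k (ptR k A) ((F : Γk → k) 1)) fun y hy => by
      rw [Subgroup.coe_bot, Set.mem_singleton_iff] at hy
      subst hy
      simp
    simpa [sub_eq_zero] using this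

theorem commutator_clSub_le (S : Subgroup Γk) : ⁅clSub S, clSub S⁆ ≤ clSub ⁅S, S⁆ := by
  rw [Subgroup.commutator_le]
  intro x hx y hy
  have h1 : ∀ b ∈ S, ∀ a ∈ clSub S, a * b * a⁻¹ * b⁻¹ ∈ clSub ⁅S, S⁆ := fun b hb a ha =>
    mapsTo_cl (φ := fun a => a * b * a⁻¹ * b⁻¹) (fun f hf => by
      simpa using mem_ptR_inv (mem_ptR_conj (mem_ptR_mul hf b⁻¹).1 b))
      (fun c hc => Subgroup.commutator_mem_commutator hc hb) ha
  rw [commutatorElement_def]
  exact (ZPts.isCl_cl _).cl_subset (le_refl _) <| mapsTo_cl (φ := fun z => x * z * x⁻¹ * z⁻¹)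
    (fun f hf => by simpa [_root_.mul_assoc] using mem_ptR_inv (mem_ptR_conj (mem_ptR_mul hf x).2 x⁻¹))
    (fun b hb => h1 b hb x hx) hy

theorem isSolvable_clSub {S : Subgroup Γk} (hS : Group.IsSolvable S) : Group.IsSolvable (clSub S) := by
  obtain ⟨n, hn⟩ := hS
  refine ⟨⟨n, (Subgroup.map_eq_bot_iff_of_injective _ (clSub S).subtype_injective).mp (le_bot_iff.mp ?_)⟩⟩
  have key : ∀ m, (derivedSeries (clSub S) m).map (clSub S).subtype ≤ clSub ((derivedSeries S m).map S.subtype) := by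
    intro m
    induction m with
    | zero =>
      simp only [derivedSeries_zero, ← MonoidHom.range_eq_map, Subgroup.range_subtype, le_refl]
    | succ m ih =>
      rw [derivedSeries_succ, derivedSeries_succ, Subgroup.map_commutator, Subgroup.map_commutator]
      exact (Subgroup.commutator_mono ih ih).trans (commutator_clSub_le _)
  refine (key n).trans ?_
  rw [hn, Subgroup.map_bot, clSub_bot]

theorem IsUS.clSub {S : Subgroup Γk} (hS : IsUS S) : IsUS (clSub S) := by
  intro V _ _ _ hfin W' W hlt hW' hW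
  obtain ⟨v, hv, hv', hfix⟩ := hS V hfin W' W hlt (fun g hg => hW' g (le_clSub S hg))
    (fun g hg => hW g (le_clSub S hg))
  exact ⟨v, hv, hv', fun g hg => (isCl_setOf_mem W' v v).cl_subset (fun x hx => hfix x hx) hg⟩

/-- Conjugates of unipotently acting subgroups. -/
theorem IsUS.cj {S : Subgroup Γk} (hS : IsUS S) (g : Γk) : IsUS (cjSub g S) := by
  intro V _ _ _ hfin W' W hlt hW' hW
  have hinv : ∀ x : V, ptAct V g (ptAct V g⁻¹ x) = x := fun x => by
    rw [← Module.End.mul_apply, ← map_mul, mul_inv_cancel, map_one, Module.End.one_apply]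
  have hmem : ∀ {h : Γk}, h ∈ S → g * h * g⁻¹ ∈ cjSub g S := fun {h} hh => by
    rw [mem_cjSub]; simpa [_root_.mul_assoc] using hh
  have hst : ∀ U : Submodule k V, (∀ x ∈ cjSub g S, ∀ v ∈ U, ptAct V x v ∈ U) →
      ∀ h ∈ S, ∀ v ∈ U.comap (ptAct V g), ptAct V h v ∈ U.comap (ptAct V g) := fun U hU h hh v hv => by
    have := hU _ (hmem hh) _ hv
    rw [← Module.End.mul_apply, ← map_mul, inv_mul_cancel_right, map_mul, Module.End.mul_apply] at this
    exact this
  obtain ⟨u₀, hu, hu'⟩ := SetLike.exists_of_lt hlt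
  have hlt' : W'.comap (ptAct V g) < W.comap (ptAct V g) :=
    lt_of_le_of_ne (Submodule.comap_mono hlt.le) fun e => hu' (by
      have h1 : ptAct V g⁻¹ u₀ ∈ W.comap (ptAct V g) := by rwa [Submodule.mem_comap, hinv]
      rw [← e, Submodule.mem_comap, hinv] at h1
      exact h1)
  obtain ⟨v, hv, hv', hfix⟩ := hS V hfin _ _ hlt' (hst W' hW') (hst W hW)
  refine ⟨ptAct V g v, hv, hv', fun x hx => ?_⟩
  have h := hfix (g⁻¹ * x * g) (mem_cjSub.mp hx)
  rw [Submodule.mem_comap, map_sub, ← Module.End.mul_apply (ptAct V g), ← map_mul,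
    show g * (g⁻¹ * x * g) = x * g by group, map_mul, Module.End.mul_apply] at h
  exact h

/-- The join with a normalizing subgroup. -/
theorem IsUS.sup {S T : Subgroup Γk} (hS : IsUS S) (hT : IsUS T)
    (hn : ∀ t ∈ T, ∀ s ∈ S, t⁻¹ * s * t ∈ S) : IsUS (S ⊔ T) := by
  intro V _ _ _ hfin W' W hlt hW' hW
  have hSl : ∀ g ∈ S, ∀ v ∈ W', ptAct V g v ∈ W' := fun g hg => hW' g (Subgroup.mem_sup_left hg)
  let W₁ : Submodule k V :=
    { carrier := {v | v ∈ W ∧ ∀ g ∈ S, ptAct V g v - v ∈ W'}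
      add_mem' := fun {a b} ha hb => ⟨add_mem ha.1 hb.1, fun g hg => by
        rw [map_add, add_sub_add_comm]; exact add_mem (ha.2 g hg) (hb.2 g hg)⟩
      zero_mem' := ⟨zero_mem _, fun g _ => by simp⟩
      smul_mem' := fun c a ha => ⟨W.smul_mem c ha.1, fun g hg => by
        rw [map_smul, ← smul_sub]; exact W'.smul_mem c (ha.2 g hg)⟩ }
  have hlt₁ : W' < W₁ := by
    obtain ⟨v, hv, hv', hfix⟩ := hS V hfin W' W hlt hSl (fun g hg => hW g (Subgroup.mem_sup_left hg))
    exact lt_of_le_of_ne (fun w hw => ⟨hlt.le hw, fun g hg => sub_mem (hSl g hg w hw) hw⟩)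
      fun e => hv' (e.ge ⟨hv, hfix⟩)
  have hT₁ : ∀ t ∈ T, ∀ v ∈ W₁, ptAct V t v ∈ W₁ := fun t ht v hv => by
    refine ⟨hW t (Subgroup.mem_sup_right ht) v hv.1, fun g hg => ?_⟩
    have h := hW' t (Subgroup.mem_sup_right ht) _ (hv.2 _ (hn t ht g hg))
    rw [map_sub, ← Module.End.mul_apply (ptAct V t), ← map_mul,
      show t * (t⁻¹ * g * t) = g * t by group, map_mul, Module.End.mul_apply] at h
    exact h
  obtain ⟨v, hv, hv', hfix⟩ := hT V hfin W' W₁ hlt₁ (fun g hg => hW' g (Subgroup.mem_sup_right hg)) hT₁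
  refine ⟨v, hv.1, hv', ?_⟩
  let St : Submonoid Γk :=
    { carrier := {g | g ∈ S ⊔ T ∧ ptAct V g v - v ∈ W'}
      one_mem' := ⟨one_mem _, by simp⟩
      mul_mem' := fun {a b} ha hb => ⟨mul_mem ha.1 hb.1, by
        have := add_mem (hW' a ha.1 _ hb.2) ha.2
        rw [map_sub, sub_add_sub_cancel, ← Module.End.mul_apply, ← map_mul] at this
        exact this⟩ }
  intro g hg
  suffices ∀ g ∈ S ⊔ T, g ∈ St from (this g hg).2
  rw [Subgroup.sup_eq_closure]
  intro g hg
  induction hg using Subgroup.closure_induction'' with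
  | one => exact St.one_mem
  | mem y hy =>
    rcases hy with hy | hy
    · exact ⟨Subgroup.mem_sup_left hy, hv.2 y hy⟩
    · exact ⟨Subgroup.mem_sup_right hy, hfix y hy⟩
  | inv_mem y hy =>
    rcases hy with hy | hy
    · exact ⟨Subgroup.mem_sup_left (inv_mem hy), hv.2 _ (inv_mem hy)⟩
    · exact ⟨Subgroup.mem_sup_right (inv_mem hy), hfix _ (inv_mem hy)⟩
  | mul y z _ _ hy hz => exact St.mul_mem hy hz

/-- A finite comodule is exhausted by stable subspaces with trivially acted steps. -/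
theorem IsUS.exists_flag {S : Subgroup Γk} (hS : IsUS S) (V : Type u) [AddCommGroup V] [Module k V]
    [HopfRep.Comod k A V] [Module.Finite k V] : ∃ (F : ℕ → Submodule k V) (n : ℕ), F 0 = ⊥ ∧ F n = ⊤ ∧
      (∀ i, ∀ g ∈ S, ∀ v ∈ F i, ptAct V g v ∈ F i) ∧ ∀ i, ∀ g ∈ S, ∀ v ∈ F (i + 1), ptAct V g v - v ∈ F i := by
  let next : Submodule k V → Submodule k V := fun U =>
    { carrier := {v | ∀ g ∈ S, ptAct V g v - v ∈ U}
      add_mem' := fun {a b} ha hb g hg => by
        rw [map_add, add_sub_add_comm]; exact add_mem (ha g hg) (hb g hg)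
      zero_mem' := fun g _ => by simp
      smul_mem' := fun c a ha g hg => by rw [map_smul, ← smul_sub]; exact U.smul_mem c (ha g hg) }
  let F : ℕ → Submodule k V := fun n => next^[n] ⊥
  have hsucc : ∀ i, F (i + 1) = next (F i) := fun i => Function.iterate_succ_apply' next i ⊥
  have hmono : ∀ i, F i ≤ F (i + 1) := fun i => by
    induction i with
    | zero => exact bot_le
    | succ i ih =>
      rw [hsucc (i + 1)]
      intro v hv g hg
      rw [hsucc i] at hv
      exact ih (hv g hg)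
  have hstep : ∀ i, ∀ g ∈ S, ∀ v ∈ F (i + 1), ptAct V g v - v ∈ F i := fun i g hg v hv => by
    rw [hsucc] at hv; exact hv g hg
  have hst : ∀ i, ∀ g ∈ S, ∀ v ∈ F i, ptAct V g v ∈ F i := fun i g hg v hv => by
    have := add_mem (hstep i g hg v (hmono i hv)) hv
    rwa [sub_add_cancel] at this
  refine ⟨F, Module.finrank k V, rfl, ?_, hst, hstep⟩
  have key : ∀ i, F i = ⊤ ∨ i ≤ Module.finrank k (F i) := fun i => by
    induction i with
    | zero => exact Or.inr (Nat.zero_le _)
    | succ i ih =>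
      rcases eq_or_ne (F i) ⊤ with h | h
      · exact Or.inl (top_unique (h ▸ hmono i))
      · obtain ⟨v, -, hv', hfix⟩ := hS V inferInstance (F i) ⊤ h.lt_top (hst i) (fun _ _ _ _ => trivial)
        have hlt : F i < F (i + 1) := lt_of_le_of_ne (hmono i) fun e => hv' (by
          rw [e, hsucc]; exact hfix)
        have := Submodule.finrank_lt_finrank_of_lt hlt
        exact Or.inr (by have := ih.resolve_left h; omega)
  rcases key (Module.finrank k V) with h | h
  · exact h
  · exact Submodule.eq_top_of_finrank_eq (le_antisymm (Submodule.finrank_le _) h)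

/-- The join of two irreducible subgroups is irreducible. -/
theorem isIrr_sup {S T : Subgroup Γk} (hS : ZPts.IsIrr (ptR k A) (S : Set Γk))
    (hT : ZPts.IsIrr (ptR k A) (T : Set Γk)) : ZPts.IsIrr (ptR k A) ((S ⊔ T : Subgroup Γk) : Set Γk) := by
  have e : S ⊔ T = Subgroup.closure (Set.image2 (· * ·) (S : Set Γk) T) := by
    refine le_antisymm (sup_le (fun s hs => ?_) fun t ht => ?_) ((Subgroup.closure_le _).mpr ?_)
    · exact Subgroup.subset_closure ⟨s, hs, 1, one_mem T, mul_one s⟩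
    · exact Subgroup.subset_closure ⟨1, one_mem S, t, ht, one_mul t⟩
    · rintro _ ⟨s, hs, t, ht, rfl⟩
      exact Subgroup.mul_mem_sup hs ht
  rw [e]
  exact isIrr_closure (isIrr_mul hS hT) ⟨1, one_mem S, 1, one_mem T, mul_one 1⟩

/-- The join with a normalizing solvable subgroup is solvable. -/
theorem isSolvable_sup {Γ : Type*} [Group Γ] {S T : Subgroup Γ} (hS : Group.IsSolvable S) (hT : Group.IsSolvable T)
    (hn : ∀ g, ∀ s ∈ S, g * s * g⁻¹ ∈ S) : Group.IsSolvable (S ⊔ T : Subgroup Γ) := by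
  let M : Subgroup Γ := S ⊔ T
  let N : Subgroup M := S.subgroupOf M
  haveI : N.Normal := ⟨fun n hn' g => by
    rw [Subgroup.mem_subgroupOf] at hn' ⊢
    exact hn _ _ hn'⟩
  let f : T →* M ⧸ N := (QuotientGroup.mk' N).comp (Subgroup.inclusion le_sup_right)
  have hsurj : Function.Surjective f := by
    intro q
    obtain ⟨⟨m, hm⟩, rfl⟩ := QuotientGroup.mk'_surjective N q
    have hle : M ≤ (f.range.comap (QuotientGroup.mk' N)).map M.subtype := by
      refine sup_le (fun s hs => ?_) fun t ht => ?_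
      · refine ⟨⟨s, Subgroup.mem_sup_left hs⟩, ⟨1, ?_⟩, rfl⟩
        rw [map_one]
        exact ((QuotientGroup.eq_one_iff (N := N) _).mpr (Subgroup.mem_subgroupOf.mpr hs)).symm
      · exact ⟨⟨t, Subgroup.mem_sup_right ht⟩, ⟨⟨t, ht⟩, rfl⟩, rfl⟩
    obtain ⟨m', ⟨t, ht⟩, e⟩ := hle hm
    exact ⟨t, by rw [ht, show m' = ⟨m, hm⟩ from Subtype.ext e]⟩
  haveI := hS
  haveI := hT
  haveI : Group.IsSolvable (M ⧸ N) := solvable_of_surjective hsurj
  refine solvable_of_ker_le_range (Subgroup.inclusion (le_sup_left : S ≤ M)) (QuotientGroup.mk' N) ?_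
  rw [QuotientGroup.ker_mk']
  rintro ⟨m, hm⟩ h
  exact ⟨⟨m, h⟩, rfl⟩

variable [IsAlgClosed k] [Algebra.FiniteType k A]

/-- Among the closed irreducible subgroups of a closed subgroup, normalized by it and acting unipotently, there is a
largest one. -/
theorem exists_largest {N : Subgroup Γk} (hN : ZPts.IsCl (ptR k A) (N : Set Γk)) :
    ∃ R : Subgroup Γk, IsCC R ∧ R ≤ N ∧ (∀ g ∈ N, cjSub g R = R) ∧ IsUS R ∧
      ∀ T : Subgroup Γk, IsCC T → T ≤ N → (∀ g ∈ N, cjSub g T = T) → IsUS T → T ≤ R := by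
  obtain ⟨R, hR, ⟨hRN, hRn, hRus⟩, -, hmax⟩ := exists_maximal_cc
    (fun T : Subgroup Γk => T ≤ N ∧ (∀ g ∈ N, cjSub g T = T) ∧ IsUS T) isCC_bot
    ⟨bot_le, fun g _ => Subgroup.map_bot _, isUS_bot⟩
  refine ⟨R, hR, hRN, hRn, hRus, fun T hT hTN hTn hTus => ?_⟩
  have hus : IsUS (R ⊔ T) := hRus.sup hTus fun t ht s hs => by
    rw [← mem_cjSub, hRn t (hTN ht)]; exact hs
  have hnorm : ∀ g ∈ N, cjSub g (clSub (R ⊔ T)) ≤ clSub (R ⊔ T) := fun g hg x hx => by
    rw [mem_cjSub] at hx
    have hmaps : Set.MapsTo (fun y => g * y * g⁻¹) (R ⊔ T : Subgroup Γk) (R ⊔ T : Subgroup Γk) := fun y hy => by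
      have h : cjSub g (R ⊔ T) = R ⊔ T := by
        rw [cjSub, Subgroup.map_sup, ← cjSub, ← cjSub, hRn g hg, hTn g hg]
      exact h.le ⟨y, hy, rfl⟩
    show x ∈ ZPts.cl (ptR k A) ((R ⊔ T : Subgroup Γk) : Set Γk)
    have := mapsTo_cl (fun F hF => (mem_ptR_mul (mem_ptR_mul hF g⁻¹).1 g).2) hmaps hx
    simpa [_root_.mul_assoc] using this
  have e := hmax (clSub (R ⊔ T)) (isCC_clSub (isIrr_sup hR.2 hT.2))
    ⟨clSub_le hN (sup_le hRN hTN), fun g hg => le_antisymm (hnorm g hg) fun x hx => by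
      rw [mem_cjSub]
      have := hnorm g⁻¹ (inv_mem hg) (show g⁻¹ * x * g ∈ cjSub g⁻¹ (clSub (R ⊔ T)) by
        rw [mem_cjSub]; simpa [_root_.mul_assoc] using hx)
      exact this, hus.clSub⟩
    (le_sup_left.trans (le_clSub _))
  exact (le_sup_right.trans (le_clSub _)).trans e.le

end Abstract

section Scheme

variable {k : Type u} [Field k] [IsAlgClosed k] {G H : Over (Spec (CommRingCat.of k))} [GrpObj G] [GrpObj H]
  [IsAffine G.left]

/-- The points of a unipotent subgroup act unipotently. -/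
theorem isUS_pts [IsAffine H.left] [Smooth H.hom] (j : H ⟶ G) [IsMonHom j]
    (hU : HopfRep.IsUnipotent k (Fn H)) : IsUS (pts j) := by
  intro V _ _ c hfin W' W hlt hW' hW
  haveI : LocallyOfFiniteType H.hom := inferInstance
  haveI : _root_.IsReduced (Fn H) := isReduced_fn
  letI cH : HopfRep.Comod k (Fn H) V := ComodLib.pushComod (evBialg j : Fn G →ₗc[k] Fn H) c
  have hact : ∀ (h : Fn H →ₐ[k] k) (v : V), HopfRep.Comod.act k (Fn H) V h v =
      ptAct V (toConv (h.comp (ev j))) v := fun h v =>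
    ComodLib.actF_comp_of_push (evBialg j : Fn G →ₗc[k] Fn H) rfl h.toLinearMap v
  have hmem : ∀ h : Fn H →ₐ[k] k, toConv (h.comp (ev j)) ∈ pts j := fun h =>
    ⟨toPt h, ofConv_injective (by
      show pullFn (toPt h ≫ j) = _
      rw [pullFn_comp, pullFn_toPt])⟩
  have hW'H : HopfRep.IsSubcomod (k := k) (A := Fn H) W' := ComodLib.isSubcomod_of_forall_act fun h v hv => by
    rw [hact]; exact hW' _ (hmem h) v hv
  have hWH : HopfRep.IsSubcomod (k := k) (A := Fn H) W := ComodLib.isSubcomod_of_forall_act fun h v hv => by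
    rw [hact]; exact hW _ (hmem h) v hv
  letI cQ : HopfRep.Comod k (Fn H) (V ⧸ W') := ComodSub.Comod.quot cH W' hW'H
  have hmk : Hoch.IsComodHom (Fn H) W'.mkQ := ComodSub.isComodHom_mkQ cH W' hW'H
  let Wb : Submodule k (V ⧸ W') := W.map W'.mkQ
  have hWb : HopfRep.IsSubcomod (k := k) (A := Fn H) Wb := ComodLib.isSubcomod_map hmk hWH
  letI cW : HopfRep.Comod k (Fn H) Wb := ComodSub.Comod.restr cQ Wb hWb
  obtain ⟨v₀, hv₀, hv₀'⟩ := SetLike.exists_of_lt hlt
  haveI : Nontrivial Wb := ⟨⟨⟨_, Submodule.mem_map_of_mem hv₀⟩, 0, fun h =>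
    hv₀' ((Submodule.Quotient.mk_eq_zero W').mp (congrArg Subtype.val h))⟩⟩
  obtain ⟨q, hq, hq0⟩ := Submodule.exists_mem_ne_zero_of_ne_bot (hU Wb inferInstance inferInstance)
  obtain ⟨v, hv, hvq⟩ := Submodule.mem_map.mp q.2
  refine ⟨v, hv, fun h => hq0 (Subtype.ext (hvq.symm.trans ((Submodule.Quotient.mk_eq_zero W').mpr h))), ?_⟩
  rintro g ⟨h, rfl⟩
  have e0 : HopfRep.Comod.coact (k := k) (A := Fn H) q = q ⊗ₜ[k] (1 : Fn H) := hq
  have e1 : HopfRep.Comod.act k (Fn H) Wb (pullFn h) q = q := by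
    show ComodLib.slice _ _ = q
    rw [e0, ComodLib.slice_tmul, show (pullFn h).toLinearMap (1 : Fn H) = 1 from map_one (pullFn h), one_smul]
  have hs : Hoch.IsComodHom (Fn H) Wb.subtype := ComodSub.isComodHom_subtype cQ Wb hWb
  have e2 : W'.mkQ (HopfRep.Comod.act k (Fn H) V (pullFn h) v) = W'.mkQ v := by
    show W'.mkQ (ComodLib.actF (C := Fn H) (pullFn h).toLinearMap v) = _
    rw [ComodLib.comodHom_actF hmk, hvq, show (q : V ⧸ W') = Wb.subtype q from rfl, ← ComodLib.comodHom_actF hs]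
    exact congrArg Wb.subtype e1
  rw [hact, show toConv ((pullFn h).comp (ev j)) = ptConv G (h ≫ j) from ofConv_injective (by
    show _ = pullFn (h ≫ j); rw [pullFn_comp])] at e2
  exact (Submodule.Quotient.eq W').mp e2

/-- A closed subgroup whose points act unipotently is unipotent. -/
theorem isUnipotent_fn_of_isUS [IsAffine H.left] [Smooth H.hom] (j : H ⟶ G) [IsMonHom j] [IsClosedImmersion j.left]
    (hS : IsUS (pts j)) : HopfRep.IsUnipotent k (Fn H) := by
  classical
  haveI : LocallyOfFiniteType H.hom := inferInstance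
  haveI : _root_.IsReduced (Fn H) := isReduced_fn
  refine isUnipotent_of_flags fun s => ?_
  choose a ha using ev_surjective j
  obtain ⟨U, hUf, hsU, hU⟩ := ComodLib.exists_finite_subcomod_le (k := k) (C := Fn G) (V := Fn G)
    (s.finite_toSet.image a)
  letI cU : HopfRep.Comod k (Fn G) U := ComodSub.Comod.restr (HopfRep.Comod.regular k (Fn G)) U hU
  haveI := hUf
  obtain ⟨F, n, hF0, hFn, hst, hstep⟩ := hS.exists_flag U
  have key : ∀ (h : Fn H →ₐ[k] k) (u : U), HopfRep.Comod.act k (Fn H) (Fn H) h (ev j (u : Fn G)) =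
      ev j ((ptAct U (toConv (h.comp (ev j))) u : U) : Fn G) := fun h u => by
    rw [show ((ptAct U (toConv (h.comp (ev j))) u : U) : Fn G) = ptAct (Fn G) (toConv (h.comp (ev j))) (u : Fn G) from
      ptAct_comm (ComodSub.isComodHom_subtype _ U hU) _ u]
    show ComodLib.slice h.toLinearMap (Coalgebra.comul (R := k) (evBialg j (u : Fn G))) =
      ev j (ComodLib.slice (h.comp (ev j)).toLinearMap (Coalgebra.comul (R := k) (u : Fn G)))
    rw [← CoalgHomClass.map_comp_comul_apply (evBialg j) (u : Fn G)]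
    induction Coalgebra.comul (R := k) (u : Fn G) using TensorProduct.induction_on with
    | zero => simp
    | tmul p q => simp [evBialg_apply]
    | add p q hp hq => simp only [map_add, hp, hq]
  have hmem : ∀ h : Fn H →ₐ[k] k, toConv (h.comp (ev j)) ∈ pts j := fun h =>
    ⟨toPt h, ofConv_injective (by
      show pullFn (toPt h ≫ j) = _
      rw [pullFn_comp, pullFn_toPt])⟩
  refine ⟨fun i => ((F i).map U.subtype).map (ev j).toLinearMap, n, ?_, fun i => ?_, fun i _ x hx => ?_, ?_⟩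
  · show ((F 0).map U.subtype).map (ev j).toLinearMap = ⊥
    rw [hF0, Submodule.map_bot, Submodule.map_bot]
  · refine ComodLib.isSubcomod_of_forall_act fun h x hx => ?_
    obtain ⟨_, ⟨u, hu, rfl⟩, rfl⟩ := hx
    show HopfRep.Comod.act k (Fn H) (Fn H) h (ev j (u : Fn G)) ∈ _
    rw [key]
    exact ⟨_, ⟨_, hst i _ (hmem h) u hu, rfl⟩, rfl⟩
  · obtain ⟨_, ⟨u, hu, rfl⟩, rfl⟩ := hx
    let W : Submodule k (Fn H) := ((F i).map U.subtype).map (ev j).toLinearMap
    show Coalgebra.comul (R := k) (ev j (u : Fn G)) - ev j (u : Fn G) ⊗ₜ[k] (1 : Fn H) ∈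
      LinearMap.range (W.subtype.rTensor (Fn H))
    refine (Module.Flat.rTensor_exact (Fn H) (LinearMap.exact_subtype_mkQ W) _).mp
      (ComodLib.eq_zero_of_forall_pt fun h => ?_)
    rw [ComodLib.slice_rTensor, map_sub (ComodLib.slice _), ComodLib.slice_tmul,
      show h.toLinearMap (1 : Fn H) = 1 from map_one h, one_smul, Submodule.mkQ_apply, Submodule.Quotient.mk_eq_zero,
      show ComodLib.slice h.toLinearMap (Coalgebra.comul (R := k) (ev j (u : Fn G))) =
        HopfRep.Comod.act k (Fn H) (Fn H) h (ev j (u : Fn G)) from rfl, key, ← map_sub]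
    exact ⟨_, ⟨_, hstep i _ (hmem h) u hu, rfl⟩, rfl⟩
  · intro x hx
    exact ⟨a x, ⟨⟨a x, hsU ⟨x, hx, rfl⟩⟩, hFn ▸ trivial, rfl⟩, ha x⟩

/-- Normal subgroups have normal groups of points. -/
theorem conj_mem_pts (j : H ⟶ G) [IsMonHom j] (hj : AlgGrp.IsNormalHom j) (g : WithConv (Fn G →ₐ[k] k))
    {x : WithConv (Fn G →ₐ[k] k)} (hx : x ∈ pts j) : g * x * g⁻¹ ∈ pts j := by
  obtain ⟨h, rfl⟩ := hx
  obtain ⟨h', hh'⟩ := hj _ ((ptConv G).symm g) h
  refine ⟨h', ?_⟩
  show ptConv G (h' ≫ j) = g * ptConv G (h ≫ j) * g⁻¹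
  rw [← hh', map_mul, map_mul, map_inv, MulEquiv.apply_symm_apply]

/-- A reduced subgroup with normal group of points is normal. -/
theorem isNormalHom_of_pts [Smooth G.hom] [Smooth H.hom] (j : H ⟶ G) [IsMonHom j] [IsClosedImmersion j.left]
    (h : ∀ g, ∀ x ∈ pts j, g * x * g⁻¹ ∈ pts j) : AlgGrp.IsNormalHom j := by
  haveI : IsAffine H.left := isAffine_of_isAffineHom j.left
  let W := G ⊗ H
  let Φ : W ⟶ G := fst G H * (snd G H ≫ j) * (fst G H)⁻¹
  haveI : Smooth W.hom := by
    have : Smooth (Limits.pullback.fst G.hom H.hom ≫ G.hom) := inferInstance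
    exact this
  haveI : IsAffine W.left := inferInstanceAs (IsAffine (Limits.pullback G.hom H.hom))
  haveI : IsReduced W.left := GrpSchLib.isReduced_of_smooth_field W.hom
  haveI : LocallyOfFiniteType W.hom := inferInstance
  obtain ⟨ρ, hρ⟩ := exists_factor_of_pts j Φ fun x => by
    simp only [Φ, MonObj.comp_mul, GrpObj.comp_inv, map_mul, map_inv, ← Category.assoc]
    exact h _ _ ⟨_, rfl⟩
  intro T g n
  refine ⟨lift g n ≫ ρ, ?_⟩
  rw [Category.assoc, hρ]
  simp only [Φ, MonObj.comp_mul, GrpObj.comp_inv, lift_fst, lift_snd_assoc]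

/-- A smooth affine group without nontrivial rational point is trivial. -/
theorem isTrivialGrp_of_pts [IsAffine H.left] [Smooth H.hom] (j : H ⟶ G) [IsMonHom j] [IsClosedImmersion j.left]
    (h : pts j = ⊥) : Red.IsTrivialGrp H := by
  haveI : LocallyOfFiniteType H.hom := inferInstance
  haveI : IsReduced H.left := GrpSchLib.isReduced_of_smooth_field H.hom
  haveI : Mono j := (Over.forget _).mono_of_mono_map (inferInstanceAs (Mono j.left))
  have hpt : ∀ x : VecGrp.pt k k ⟶ H, x = 1 := fun x => by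
    rw [← cancel_mono j, MonObj.one_comp]
    refine (ptConv G).injective ?_
    rw [map_one, ← Subgroup.mem_bot, ← h]
    exact ⟨x, rfl⟩
  have hid : (toUnit H ≫ η[H] : H ⟶ H) = 𝟙 H := hom_ext_fn <| AlgHom.ext fun f => eq_of_forall_pt fun x => by
    rw [← AlgHom.comp_apply, ← AlgHom.comp_apply, ← pullFn_comp, ← pullFn_comp, Category.comp_id,
      comp_toUnit_assoc, hpt x, Hom.one_def]
  haveI : IsIso (toUnit H) := ⟨η[H], hid, toUnit_unique _ _⟩
  show IsIso H.hom
  haveI : IsIso (toUnit H).left := ((Over.forget _).mapIso (asIso (toUnit H))).isIso_hom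
  have e : (toUnit H).left = H.hom := by simp
  rw [← e]
  infer_instance

/-- A normal unipotent subgroup of a normal subgroup lies in a normal unipotent subgroup of the whole group. -/
theorem exists_normal_unipotent_above [Smooth G.hom] {N U : Over (Spec (CommRingCat.of k))} [GrpObj N] [GrpObj U]
    (j : N ⟶ G) [IsMonHom j] [IsClosedImmersion j.left] (hj : AlgGrp.IsNormalHom j) (i : U ⟶ N) [IsMonHom i]
    [IsClosedImmersion i.left] [Smooth U.hom] [ConnectedSpace U.left] (hi : AlgGrp.IsNormalHom i)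
    (hU : Red.HasNoSubtorus k U) :
    ∃ (H : Over (Spec (CommRingCat.of k))) (_ : GrpObj H) (h : H ⟶ G) (_ : IsMonHom h),
      IsClosedImmersion h.left ∧ Smooth H.hom ∧ ConnectedSpace H.left ∧ AlgGrp.IsNormalHom h ∧
        Red.HasNoSubtorus k H ∧ pts (i ≫ j) ≤ pts h := by
  haveI : IsAffine N.left := isAffine_of_isAffineHom j.left
  haveI : IsAffine U.left := isAffine_of_isAffineHom i.left
  haveI : LocallyOfFiniteType G.hom := inferInstance
  haveI : IsClosedImmersion (i ≫ j).left := by rw [Over.comp_left]; infer_instance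
  obtain ⟨R, hR, hRN, hRn, hRus, hRmax⟩ := exists_largest (isCl_pts j)
  have hcj : ∀ {g : WithConv (Fn G →ₐ[k] k)} {x}, x ∈ cjSub g (pts j) → x ∈ pts j := fun {g x} hx => by
    have := conj_mem_pts j hj g (mem_cjSub.mp hx)
    simpa [_root_.mul_assoc] using this
  have hle : pts (i ≫ j) ≤ R := by
    refine hRmax _ (isCC_pts _) ?_ ?_ (isUS_pts _ (Unip.isUnipotent_fn U hU))
    · rintro x ⟨h, rfl⟩
      exact ⟨h ≫ i, congrArg (ptConv G) (Category.assoc h i j)⟩
    · have hc : ∀ g ∈ pts j, ∀ x ∈ pts (i ≫ j), g * x * g⁻¹ ∈ pts (i ≫ j) := by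
        rintro _ ⟨a, rfl⟩ _ ⟨b, rfl⟩
        obtain ⟨b', hb'⟩ := hi _ a b
        refine ⟨b', ?_⟩
        show ptConv G (b' ≫ i ≫ j) = ptConv G (a ≫ j) * ptConv G (b ≫ i ≫ j) * (ptConv G (a ≫ j))⁻¹
        rw [← map_inv, ← map_mul, ← map_mul, ← Category.assoc, ← hb', MonObj.mul_comp, MonObj.mul_comp,
          GrpObj.inv_comp, Category.assoc]
      intro g hg
      ext x
      rw [mem_cjSub]
      refine ⟨fun h => ?_, fun h => ?_⟩
      · have := hc g hg _ h
        simpa [_root_.mul_assoc] using this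
      · have := hc g⁻¹ (inv_mem hg) _ h
        simpa [_root_.mul_assoc] using this
  obtain ⟨H, _, h, hh, hhc, hhs, hhn, hpts, -⟩ := exists_scheme_of_isCC hR
  haveI := hh
  haveI := hhc
  haveI := hhs
  haveI := hhn
  haveI : IsAffine H.left := isAffine_of_isAffineHom h.left
  refine ⟨H, inferInstance, h, hh, hhc, hhs, hhn, isNormalHom_of_pts h ?_,
    Unip.hasNoSubtorus_of_isUnipotent (isUnipotent_fn_of_isUS h (hpts.symm ▸ hRus)), hpts.symm ▸ hle⟩
  rw [hpts]
  intro g x hx
  refine hRmax (cjSub g R) (isCC_cjSub g hR) (fun y hy => hcj (cjSub_mono g hRN hy)) ?_ (hRus.cj g)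
    (by rw [mem_cjSub]; simpa [_root_.mul_assoc] using hx)
  intro a ha
  have h1 : cjSub (g⁻¹ * a * g) R = R :=
    hRn _ (by simpa [_root_.mul_assoc] using conj_mem_pts j hj g⁻¹ ha)
  rw [cjSub_cjSub, show a * g = g * (g⁻¹ * a * g) by group, ← cjSub_cjSub, h1]

/-- A trivial group has only the trivial rational point. -/
theorem pts_eq_bot_of_isTrivialGrp (j : H ⟶ G) [IsMonHom j] (h : Red.IsTrivialGrp H) : pts j = ⊥ := by
  refine le_bot_iff.mp ?_
  rintro _ ⟨x, rfl⟩
  haveI : IsIso H.hom := h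
  haveI : IsIso ((Over.forget _).map (toUnit H)) := by
    show IsIso (toUnit H).left
    have e : (toUnit H).left = H.hom := by simp
    rw [e]
    infer_instance
  haveI : IsIso (toUnit H) := isIso_of_reflects_iso _ (Over.forget _)
  have e : x = 1 := (cancel_mono (toUnit H)).mp (toUnit_unique _ _)
  rw [Subgroup.mem_bot, e]
  show ptConv G ((1 : VecGrp.pt k k ⟶ H) ≫ j) = 1
  rw [MonObj.one_comp, map_one]

/-- A normal smooth connected unipotent subgroup factors through every Borel subgroup. -/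
theorem exists_factor_borel [Smooth G.hom] {U B : Over (Spec (CommRingCat.of k))} [GrpObj U] [GrpObj B]
    (u : U ⟶ G) [IsMonHom u] [IsClosedImmersion u.left] [Smooth U.hom] [ConnectedSpace U.left]
    (hu : AlgGrp.IsNormalHom u) (hno : Red.HasNoSubtorus k U) (iB : B ⟶ G) [IsMonHom iB]
    (hB : Red.IsBorelOver k iB) : ∃ f : U ⟶ B, f ≫ iB = u := by
  haveI := hB.2.1
  haveI : IsAffine U.left := isAffine_of_isAffineHom u.left
  haveI : IsReduced U.left := GrpSchLib.isReduced_of_smooth_field U.hom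
  haveI : LocallyOfFiniteType G.hom := inferInstance
  haveI : LocallyOfFiniteType U.hom := inferInstance
  obtain ⟨-, hBcc, hBs, hBmax⟩ := isBor_pts hB
  have hUs : Group.IsSolvable (pts u) := by
    haveI : Group.IsNilpotent (WithConv (Fn U →ₐ[k] k)) := isNilpotent_points (Unip.isUnipotent_fn U hno)
    haveI : Group.IsSolvable (VecGrp.pt k k ⟶ U) :=
      solvable_of_surjective (f := (ptConv U).symm.toMonoidHom) (ptConv U).symm.surjective
    exact solvable_of_surjective (MonoidHom.rangeRestrict_surjective _)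
  have e := hBmax (clSub (pts u ⊔ pts iB)) le_top (isCC_clSub (isIrr_sup (isCC_pts u).2 hBcc.2))
    (isSolvable_clSub (isSolvable_sup hUs hBs fun g s hs => conj_mem_pts u hu g hs))
    (le_sup_right.trans (le_clSub _))
  exact exists_factor_of_pts iB u fun x => e.le (le_clSub _ (Subgroup.mem_sup_left ⟨x, rfl⟩))

end Scheme

end Groth.Agent.AGF27.UniRad
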