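import Groth.Agent.AGF27.UnipNorm
import Groth.Agent.FibDim.BaseField
import Groth.Agent.AGFHopf.PBorel
import Mathlib.RingTheory.KrullDimension.Basic

/-!
# Subgroups of codimension one of unipotent groups are normal
-/

set_option linter.style.haveILetI false
set_option backward.isDefEq.respectTransparency false

universe u

open CategoryTheory CategoryTheory.Limits AlgebraicGeometry MonoidalCategory CartesianMonoidalCategory MonObj GrpObj
open TensorProduct WithConv Groth.Agent.GrpSchLib.Kunneth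
open scoped Groth.Agent.AGF27

namespace Groth.Agent.AGF27

open Groth.Agent.AGFHopf

variable {K : Type u} [Field K] [IsAlgClosed K]

/-- Two steps below a prime add two to the dimension. -/
theorem ringKrullDim_quotient_add_two {A : Type*} [CommRing A] [IsDomain A] {Q P : Ideal A} [Q.IsPrime] [P.IsPrime]
    (hQ : Q ≠ ⊥) (hQP : Q < P) {d : ℕ} (hd : ringKrullDim (A ⧸ P) = d) : ((d + 2 : ℕ) : WithBot ℕ∞) ≤ ringKrullDim A := by
  obtain ⟨l, hl⟩ := Order.le_krullDim_iff.mp (show ((d : ℕ) : WithBot ℕ∞) ≤ Order.krullDim (PrimeSpectrum (A ⧸ P)) from hd.ge)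
  let m : LTSeries (PrimeSpectrum A) := l.map (PrimeSpectrum.comap (Ideal.Quotient.mk P))
    (Monotone.strictMono_of_injective (fun a b h => Ideal.comap_mono h)
      (PrimeSpectrum.comap_injective_of_surjective _ Ideal.Quotient.mk_surjective))
  let q : PrimeSpectrum A := ⟨Q, inferInstance⟩
  have hq : q < m.head := lt_of_lt_of_le (b := (⟨P, inferInstance⟩ : PrimeSpectrum A)) hQP fun x hx => by
    show Ideal.Quotient.mk P x ∈ l.head.asIdeal
    rw [Ideal.Quotient.eq_zero_iff_mem.mpr hx]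
    exact zero_mem _
  have hb : (⟨⊥, Ideal.isPrime_bot⟩ : PrimeSpectrum A) < q := show (⊥ : Ideal A) < Q from bot_lt_iff_ne_bot.mpr hQ
  refine Order.le_krullDim_iff.mpr ⟨(m.cons q hq).cons ⟨⊥, Ideal.isPrime_bot⟩ (by rw [RelSeries.head_cons]; exact hb), ?_⟩
  simp [m, hl]

/-- The ideal of functions vanishing on a set of points. -/
noncomputable def ptsIdeal {A : Type u} [CommRing A] [HopfAlgebra K A] (S : Set (WithConv (A →ₐ[K] K))) : Ideal A :=
  (ZPts.vanI (ptR K A) S).comap (ptEval K A).rangeRestrict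

theorem mem_ptsIdeal {A : Type u} [CommRing A] [HopfAlgebra K A] {S : Set (WithConv (A →ₐ[K] K))} {a : A} :
    a ∈ ptsIdeal S ↔ ∀ x ∈ S, x.ofConv a = 0 := Iff.rfl

theorem isPrime_ptsIdeal {A : Type u} [CommRing A] [HopfAlgebra K A] {S : Subgroup (WithConv (A →ₐ[K] K))}
    (hS : ZPts.IsIrr (ptR K A) (S : Set _)) : (ptsIdeal (S : Set (WithConv (A →ₐ[K] K)))).IsPrime := by
  refine ⟨fun h => one_ne_zero ((map_one (1 : WithConv (A →ₐ[K] K)).ofConv).symm.trans
    (mem_ptsIdeal.mp ((Ideal.eq_top_iff_one _).mp h) 1 (one_mem S))), fun {a b} hab => ?_⟩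
  exact hS.2 ⟨_, ptEval_mem a⟩ ⟨_, ptEval_mem b⟩ fun x hx => by
    show x.ofConv a * x.ofConv b = 0
    rw [← map_mul]
    exact hab x hx

theorem ptsIdeal_lt {A : Type u} [CommRing A] [HopfAlgebra K A] {S T : Set (WithConv (A →ₐ[K] K))}
    (hS : ZPts.IsCl (ptR K A) S) (hT : ZPts.IsCl (ptR K A) T) (h : S ⊂ T) : ptsIdeal T < ptsIdeal S :=
  lt_of_le_of_ne (fun a ha x hx => ha x (h.1 hx)) fun e =>
    (hS.vanI_lt hT h).ne (Ideal.comap_injective_of_surjective _ (ptEval K A).rangeRestrict_surjective e)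

/-- A connected subgroup of codimension one of a nilpotent group of points is normal. -/
theorem mem_pts_of_codim_one {A : Type u} [CommRing A] [HopfAlgebra K A] [Algebra.FiniteType K A] [IsDomain A]
    [Group.IsNilpotent (WithConv (A →ₐ[K] K))] (Γ : Subgroup (WithConv (A →ₐ[K] K))) (hΓ : IsCC Γ) {d : ℕ}
    (hd : ringKrullDim (A ⧸ ptsIdeal (Γ : Set (WithConv (A →ₐ[K] K)))) = d) (hA : ringKrullDim A = (d + 1 : ℕ)) :
    ∀ g : WithConv (A →ₐ[K] K), ∀ x ∈ Γ, g * x * g⁻¹ ∈ Γ := by
  let P := Subgroup.normalizer (Γ : Set (WithConv (A →ₐ[K] K)))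
  suffices hP : P = ⊤ by
    intro g x hx
    exact (Subgroup.mem_normalizer_iff.mp (hP ▸ Subgroup.mem_top g : g ∈ P) x).mp hx
  have hmemP : ∀ g, g ∈ P ↔ (∀ x ∈ Γ, g * x * g⁻¹ ∈ Γ) ∧ ∀ x ∈ Γ, g⁻¹ * x * g ∈ Γ := by
    intro g
    refine ⟨fun h => ⟨fun x hx => (Subgroup.mem_normalizer_iff.mp h x).mp hx, fun x hx => ?_⟩, fun h => ?_⟩
    · have := (Subgroup.mem_normalizer_iff.mp (inv_mem h) x).mp hx
      rwa [_root_.inv_inv] at this
    · refine Subgroup.mem_normalizer_iff.mpr fun x => ⟨fun hx => h.1 x hx, fun hx => ?_⟩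
      have := h.2 _ hx
      simpa [_root_.mul_assoc] using this
  have hcl : ZPts.IsCl (ptR K A) (P : Set (WithConv (A →ₐ[K] K))) := by
    let J := {p : WithConv (A →ₐ[K] K) × ptR K A // p.1 ∈ Γ ∧ p.2 ∈ ZPts.vanI (ptR K A) (Γ : Set _)}
    let f₂ : J → ptR K A := fun p => ⟨fun g => (p.1.2 : _ → K) (g⁻¹ * p.1.1 * g), mem_ptR_conj p.1.2.2 p.1.1⟩
    let f₁ : J → ptR K A := fun p => ⟨fun g => (p.1.2 : _ → K) (g⁻¹⁻¹ * p.1.1 * g⁻¹), mem_ptR_inv (mem_ptR_conj p.1.2.2 p.1.1)⟩
    have e : (P : Set (WithConv (A →ₐ[K] K))) = {g | ∀ p, ((f₁ p : ptR K A) : _ → K) g = 0} ∩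
        {g | ∀ p, ((f₂ p : ptR K A) : _ → K) g = 0} := by
      ext g
      simp only [SetLike.mem_coe, hmemP, Set.mem_inter_iff, Set.mem_setOf_eq, f₁, f₂, _root_.inv_inv]
      exact ⟨fun h => ⟨fun p => p.2.2 _ (h.1 _ p.2.1), fun p => p.2.2 _ (h.2 _ p.2.1)⟩,
        fun h => ⟨fun x hx => hΓ.1 fun F hF => h.1 ⟨⟨x, F⟩, hx, hF⟩, fun x hx => hΓ.1 fun F hF => h.2 ⟨⟨x, F⟩, hx, hF⟩⟩⟩
    rw [e]
    exact (ZPts.isCl_setOf_forall f₁).inter (ZPts.isCl_setOf_forall f₂)
  obtain ⟨Z, hZP, hZ, hbig⟩ := exists_component P hcl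
  have hΓZ : Γ ≤ Z := fun x hx => hbig _ hΓ.2 (fun y hy => Subgroup.le_normalizer hy) (one_mem Γ) hx
  rcases hΓZ.eq_or_lt with rfl | hlt
  · by_contra hne
    obtain ⟨g, hg, hgP⟩ := SetLike.exists_of_lt (Group.normalizerCondition_of_isNilpotent P (lt_top_iff_ne_top.mpr hne))
    refine hgP ((hmemP g).mpr ⟨fun x hx => ?_, fun x hx => ?_⟩)
    · refine hbig _ (isCC_cjSub g hΓ).2 (fun y hy => ?_) (one_mem _) (mem_cjSub.mpr (by simpa [_root_.mul_assoc] using hx))
      have := (Subgroup.mem_normalizer_iff.mp hg _).mp (Subgroup.le_normalizer (mem_cjSub.mp hy))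
      simpa [_root_.mul_assoc] using this
    · refine hbig _ (isCC_cjSub g⁻¹ hΓ).2 (fun y hy => ?_) (one_mem _) (mem_cjSub.mpr (by simpa [_root_.mul_assoc] using hx))
      have := (Subgroup.mem_normalizer_iff.mp (inv_mem hg) _).mp (Subgroup.le_normalizer (mem_cjSub.mp hy))
      simpa [_root_.mul_assoc] using this
  · refine eq_top_iff.mpr (le_trans ?_ hZP)
    rw [top_le_iff]
    by_contra hZtop
    haveI := isPrime_ptsIdeal hΓ.2
    haveI := isPrime_ptsIdeal hZ.2
    have hZne : ptsIdeal (Z : Set (WithConv (A →ₐ[K] K))) ≠ ⊥ := by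
      have h := ptsIdeal_lt hZ.1 ZPts.isCl_univ (Set.ssubset_univ_iff.mpr fun h => hZtop (SetLike.coe_injective h))
      exact (lt_of_le_of_lt bot_le h).ne'
    have h2 := ringKrullDim_quotient_add_two hZne (ptsIdeal_lt hΓ.1 hZ.1 hlt) hd
    rw [hA, Nat.cast_le] at h2
    omega

variable {k : Type u} [Field k]

theorem topologicalKrullDim_bc (f : Spec (CommRingCat.of K) ⟶ Spec (CommRingCat.of k))
    (G : Over (Spec (CommRingCat.of k))) [LocallyOfFiniteType G.hom] :
    topologicalKrullDim (Red.bc f G).left = topologicalKrullDim G.left := by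
  haveI := FibDim.subsingleton_spec_field k
  haveI := FibDim.subsingleton_spec_field K
  haveI : LocallyOfFiniteType (pullback.snd G.hom f) := inferInstance
  haveI : Nonempty ↥(Spec (CommRingCat.of K)) := ⟨IsLocalRing.closedPoint K⟩
  exact FibDim.topologicalKrullDim_baseChange (p := pullback.fst G.hom f) (q := pullback.snd G.hom f)
    (IsPullback.of_hasPullback G.hom f)

theorem ringKrullDim_fn {F : Type u} [Field F] (X : Over (Spec (CommRingCat.of F))) [IsAffine X.left] :
    ringKrullDim (Fn X) = topologicalKrullDim X.left := by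
  rw [← PrimeSpectrum.topologicalKrullDim_eq_ringKrullDim]
  exact (Scheme.homeoOfIso X.left.isoSpec).isHomeomorph.topologicalKrullDim_eq.symm

/-- A smooth connected subgroup of codimension one of a smooth connected unipotent group is normal. -/
theorem isNormalHom_of_codim_one {U' : Over (Spec (CommRingCat.of k))} [GrpObj U'] [IsAffine U'.left] [Smooth U'.hom]
    [ConnectedSpace U'.left] (f : Spec (CommRingCat.of K) ⟶ Spec (CommRingCat.of k))
    (hno : Red.HasNoSubtorus K (Red.bc f U'))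
    {U : Over (Spec (CommRingCat.of k))} [GrpObj U] [Smooth U.hom] [ConnectedSpace U.left] (i : U ⟶ U') [IsMonHom i]
    [IsClosedImmersion i.left] {d : ℕ} (hd : topologicalKrullDim ↥U.left = (d : WithBot ℕ∞))
    (hd' : topologicalKrullDim ↥U'.left = ((d + 1 : ℕ) : WithBot ℕ∞)) : AlgGrp.IsNormalHom i := by
  haveI : IsAffine U.left := isAffine_of_isAffineHom i.left
  haveI := connectedSpace_bc_grp f U'
  haveI := connectedSpace_bc_grp f U
  haveI := isAffine_bc f U'
  haveI := isAffine_bc f U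
  haveI := smooth_bc f U'
  haveI := smooth_bc f U
  haveI : LocallyOfFiniteType U.hom := inferInstance
  haveI : LocallyOfFiniteType U'.hom := inferInstance
  haveI : LocallyOfFiniteType (Red.bc f U').hom := inferInstance
  haveI : LocallyOfFiniteType (Red.bc f U).hom := inferInstance
  haveI : IsReduced (Red.bc f U).left := GrpSchLib.isReduced_of_smooth_field (Red.bc f U).hom
  let iK : Red.bc f U ⟶ Red.bc f U' := (Over.pullback f).map i
  haveI : IsClosedImmersion iK.left := by
    have h : IsPullback iK.left (pullback.fst U.hom f) (pullback.fst U'.hom f) i.left := by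
      refine IsPullback.of_right ?_ (pullback.lift_fst _ _ _) (IsPullback.of_hasPullback U'.hom f).flip
      rw [show iK.left ≫ pullback.snd U'.hom f = pullback.snd U.hom f from pullback.lift_snd _ _ _, Over.w i]
      exact (IsPullback.of_hasPullback U.hom f).flip
    exact MorphismProperty.of_isPullback (P := @IsClosedImmersion) h.flip inferInstance
  haveI := isDomain_fn (G := Red.bc f U')
  haveI : Group.IsNilpotent (WithConv (Fn (Red.bc f U') →ₐ[K] K)) :=
    isNilpotent_points (Unip.isUnipotent_fn _ hno)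
  have hker : ptsIdeal (pts iK : Set (WithConv (Fn (Red.bc f U') →ₐ[K] K))) = RingHom.ker (ev iK) := by
    ext a
    rw [mem_ptsIdeal, RingHom.mem_ker, ev_eq_zero_iff]
    rfl
  have hdK : ringKrullDim (Fn (Red.bc f U') ⧸ ptsIdeal (pts iK : Set (WithConv (Fn (Red.bc f U') →ₐ[K] K)))) = d := by
    rw [hker]
    refine (ringKrullDim_eq_of_ringEquiv
      (RingHom.quotientKerEquivOfSurjective (f := (ev iK).toRingHom) (ev_surjective iK))).trans ?_
    rw [ringKrullDim_fn, topologicalKrullDim_bc, hd]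
  have hnorm := mem_pts_of_codim_one (pts iK) (isCC_pts iK) hdK
    (by rw [ringKrullDim_fn, topologicalKrullDim_bc, hd'])
  -- the universal conjugation
  let W := U' ⊗ U
  let Φ : W ⟶ U' := fst U' U * (snd U' U ≫ i) * (fst U' U)⁻¹
  haveI : Smooth W.hom := by
    have : Smooth (pullback.fst U'.hom U.hom ≫ U'.hom) := inferInstance
    exact this
  haveI : IsAffine W.left := inferInstanceAs (IsAffine (pullback U'.hom U.hom))
  haveI : IsReduced W.left := GrpSchLib.isReduced_of_smooth_field W.hom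
  let Y := Red.bc f W
  haveI := isAffine_bc f W
  haveI := smooth_bc f W
  haveI : LocallyOfFiniteType Y.hom := inferInstance
  haveI : IsReduced Y.left := GrpSchLib.isReduced_of_smooth_field Y.hom
  let c : (Over.map f).obj Y ⟶ W := (Over.mapPullbackAdj f).counit.app W
  obtain ⟨ψ, hψ⟩ := exists_factor_of_pts iK (bcEquiv f U' Y (c ≫ Φ)) fun x => by
    have e : bcEquiv f U' Y (c ≫ Φ) = bcEquiv f U' Y (c ≫ fst U' U) * (bcEquiv f U Y (c ≫ snd U' U) ≫ iK) *
        (bcEquiv f U' Y (c ≫ fst U' U))⁻¹ := by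
      rw [← map_inv, ← bcEquiv_naturality_right, ← map_mul, ← map_mul]
      congr 1
      simp only [Φ, MonObj.comp_mul, GrpObj.comp_inv, Category.assoc]
    rw [e, MonObj.comp_mul, MonObj.comp_mul, GrpObj.comp_inv, map_mul, map_mul, map_inv, ← Category.assoc]
    exact hnorm _ _ ⟨_, rfl⟩
  have hc : c ≫ Φ = (bcEquiv f U Y).symm ψ ≫ i := by
    apply (bcEquiv f U' Y).injective
    refine hψ.symm.trans ?_
    rw [bcEquiv_naturality_right, MulEquiv.apply_symm_apply]
  haveI : Surjective c.left := by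
    have e : c.left = pullback.fst W.hom f := by simp [c]
    rw [e]
    exact MorphismProperty.pullback_fst _ _
      (show Surjective f from ⟨fun x => ⟨IsLocalRing.closedPoint K, Subsingleton.elim _ _⟩⟩)
  haveI : Surjective (pullback.fst Φ.left i.left) := ⟨fun w => by
    obtain ⟨y, rfl⟩ := c.left.surjective w
    have e : c.left ≫ Φ.left = ((bcEquiv f U Y).symm ψ).left ≫ i.left := congrArg CommaMorphism.left hc
    refine ⟨pullback.lift c.left ((bcEquiv f U Y).symm ψ).left e y, ?_⟩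
    rw [← Scheme.Hom.comp_apply, pullback.lift_fst]⟩
  haveI : IsIso (pullback.fst Φ.left i.left) := isIso_of_isClosedImmersion_of_surjective _
  intro T g n
  let r : W.left ⟶ U.left := inv (pullback.fst Φ.left i.left) ≫ pullback.snd Φ.left i.left
  have hr : r ≫ i.left = Φ.left := by
    rw [Category.assoc, ← pullback.condition, IsIso.inv_hom_id_assoc]
  let ρ : W ⟶ U := Over.homMk r (by rw [← Over.w i, ← Category.assoc, hr, Over.w Φ])
  refine ⟨lift g n ≫ ρ, ?_⟩
  rw [Category.assoc, show ρ ≫ i = Φ from Over.OverMorphism.ext hr]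
  simp only [Φ, MonObj.comp_mul, GrpObj.comp_inv, lift_fst, lift_snd_assoc]

end Groth.Agent.AGF27
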