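import Groth.Agent.AGF27.UnipFix
import Groth.Agent.AGF27.InvUFD
import Groth.Agent.ComodLib.Trig

/-! A unipotent group acting on an algebra with zero divisors has invariant zero divisors. -/

universe u

open CategoryTheory AlgebraicGeometry MonoidalCategory CartesianMonoidalCategory MonObj GrpObj TensorProduct
open Groth.Agent.GrpSchLib.Kunneth
open scoped Groth.Agent.AGF27

namespace Groth.Agent.AGF27

variable {k : Type u} [Field k] [IsAlgClosed k] {H : Over (Spec (CommRingCat.of k))} [GrpObj H] [IsAffine H.left]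
  [Smooth H.hom] [ConnectedSpace H.left] {A : Type u} [CommRing A] [Algebra k A]

/-- Zero divisors give invariant zero divisors. -/
theorem exists_fixed_zeroDivisor (hH : HopfRep.IsUnipotent k (Fn H)) (ρ : VecGrp.GMod H A) (hρ : ρ.IsMult)
    {a b : A} (ha : a ≠ 0) (hb : b ≠ 0) (hab : a * b = 0) :
    ∃ x y : A, x ∈ ρ.fixedUnder (𝟙 H) ∧ y ∈ ρ.fixedUnder (𝟙 H) ∧ x ≠ 0 ∧ y ≠ 0 ∧ x * y = 0 := by
  classical
  haveI := isDomain_fn (G := H)
  haveI := isReduced_fn (G := H)
  haveI : IsReduced H.left := Groth.Agent.GrpSchLib.isReduced_of_smooth_field H.hom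
  haveI : LocallyOfFiniteType H.hom := inferInstance
  letI cA : HopfRep.Comod k (Fn H) A := comodOf ρ
  obtain ⟨W, hWf, haW, hWs⟩ := ComodLib.exists_finite_subcomod_mem (k := k) (C := Fn H) a
  letI cW : HopfRep.Comod k (Fn H) W := ComodSub.Comod.restr cA W hWs
  obtain ⟨n, F, -, hF0, hFn, -, hstep⟩ := ComodLib.isUnipotent_iff_filtration.mp hH W hWf
  have hex : ∃ i, ∃ x : W, x ∈ F i ∧ (x : A) ≠ 0 ∧ ∃ y : A, y ≠ 0 ∧ (x : A) * y = 0 :=
    ⟨n, ⟨a, haW⟩, hFn ▸ Submodule.mem_top, ha, b, hb, hab⟩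
  obtain ⟨j, hj⟩ : ∃ j, Nat.find hex = j + 1 := by
    refine Nat.exists_eq_succ_of_ne_zero fun h0 => ?_
    obtain ⟨x, hx, hx0, -⟩ := Nat.find_spec hex
    rw [h0, hF0, Submodule.mem_bot] at hx
    exact hx0 (congrArg Subtype.val hx)
  obtain ⟨x, hx, hx0, y, hy0, hxy⟩ := Nat.find_spec hex
  rw [hj] at hx
  have hmove : ∀ g : VecGrp.pt k k ⟶ H, ∃ w : W, w ∈ F j ∧ (w : A) = rAct ρ g (x : A) - x := by
    intro g
    obtain ⟨z, hz⟩ := hstep j x hx
    refine ⟨ComodLib.slice (pullFn g).toLinearMap ((F j).subtype.rTensor (Fn H) z), ?_, ?_⟩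
    · rw [show ComodLib.slice (pullFn g).toLinearMap ((F j).subtype.rTensor (Fn H) z) = (F j).subtype _ from
        ComodLib.slice_rTensor (V := ↥(F j)) (W := ↥W) _ _ _]
      exact Submodule.coe_mem _
    · rw [hz, ← Submodule.subtype_apply, ← ComodLib.slice_rTensor, map_sub (W.subtype.rTensor (Fn H)), map_sub,
        LinearMap.rTensor_tmul, ComodLib.slice_tmul, AlgHom.toLinearMap_apply, map_one, one_smul,
        show W.subtype.rTensor (Fn H) (HopfRep.Comod.coact (k := k) (A := Fn H) x) = coactOf ρ (x : A) from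
          ComodSub.restr_coact_coe cA W hWs x]
      rfl
  have hkey : ∀ g : VecGrp.pt k k ⟶ H, rAct ρ g (x : A) = x ∨ rAct ρ g y * y = 0 := by
    intro g
    by_contra h
    simp only [not_or] at h
    obtain ⟨w, hw, hwe⟩ := hmove g
    refine Nat.find_min hex (by omega : j < Nat.find hex) ⟨w, hw, hwe ▸ sub_ne_zero.mpr h.1, _, h.2, ?_⟩
    rw [hwe, sub_mul, ← _root_.mul_assoc, ← rAct_mult ρ hρ, hxy, map_zero, zero_mul, zero_sub, neg_eq_zero,
      mul_left_comm, hxy, MulZeroClass.mul_zero]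
  rcases (show (∀ g : VecGrp.pt k k ⟶ H, rAct ρ g (x : A) = x) ∨ ∀ g : VecGrp.pt k k ⟶ H, rAct ρ g y * y = 0 by
    by_contra h
    simp only [not_or, not_forall] at h
    obtain ⟨⟨g₁, hg₁⟩, g₂, hg₂⟩ := h
    obtain ⟨f₁, hf₁⟩ := Module.Projective.exists_dual_ne_zero k (sub_ne_zero.mpr hg₁)
    obtain ⟨f₂, hf₂⟩ := Module.Projective.exists_dual_ne_zero k hg₂
    let c₁ : Fn H := coeff ρ f₁ (x : A) - algebraMap k (Fn H) (f₁ x)
    let c₂ : Fn H := coeff ρ (f₂ ∘ₗ LinearMap.mulRight k y) y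
    have e₁ : ∀ g, pullFn g c₁ = f₁ (rAct ρ g (x : A) - x) := fun g => by
      rw [map_sub, map_sub, pullFn_coeff, AlgHom.commutes, Algebra.algebraMap_self_apply]
    have e₂ : ∀ g, pullFn g c₂ = f₂ (rAct ρ g y * y) := fun g => by
      rw [pullFn_coeff]; rfl
    have hne : c₁ * c₂ ≠ 0 := mul_ne_zero (fun h => hf₁ (by rw [← e₁, h, map_zero]))
      (fun h => hf₂ (by rw [← e₂, h, map_zero]))
    refine hne (eq_zero_of_forall_pt fun g => ?_)
    rw [map_mul, e₁, e₂]
    rcases hkey g with h | h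
    · rw [h, sub_self, map_zero, zero_mul]
    · rw [h, map_zero, MulZeroClass.mul_zero]) with hfix | hsq
  · obtain ⟨z, hz, hz0, hzf⟩ := exists_fixed_mem_of_isSubcomod ρ hH
      (isSubcomod_of_forall_rAct ρ (W := LinearMap.ker (LinearMap.mulLeft k (x : A))) fun g z hz => by
        rw [LinearMap.mem_ker, LinearMap.mulLeft_apply] at hz ⊢
        rw [← hfix g, ← rAct_mult ρ hρ, hz, map_zero]) (LinearMap.mem_ker.mpr hxy) hy0
    exact ⟨x, z, mem_fixedUnder_id_of_forall_rAct ρ hfix, hzf, hx0, hz0, LinearMap.mem_ker.mp hz⟩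
  · let S : Submodule k A := Submodule.span k (Set.range fun g : VecGrp.pt k k ⟶ H => rAct ρ g y)
    obtain ⟨z, hz, hz0, hzf⟩ := exists_fixed_mem_of_isSubcomod ρ hH
      (isSubcomod_of_forall_rAct ρ (W := S) fun g w hw => by
        induction hw using Submodule.span_induction with
        | mem v hv => obtain ⟨g', rfl⟩ := hv; exact Submodule.subset_span ⟨g * g', rAct_mul ρ g g' y⟩
        | zero => simp
        | add p q _ _ hp hq => rw [map_add]; exact add_mem hp hq
        | smul r p _ hp => rw [map_smul]; exact Submodule.smul_mem _ _ hp)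
      (Submodule.subset_span ⟨1, rAct_one ρ y⟩) hy0
    refine ⟨z, z, hzf, hzf, hz0, hz0, ?_⟩
    have h1 : ∀ p ∈ S, ∀ g : VecGrp.pt k k ⟶ H, p * rAct ρ g y = 0 := by
      intro p hp g
      induction hp using Submodule.span_induction with
      | mem v hv =>
        obtain ⟨g', rfl⟩ := hv
        show rAct ρ g' y * rAct ρ g y = 0
        rw [show rAct ρ g' y = rAct ρ g (rAct ρ (g⁻¹ * g') y) by rw [← rAct_mul, mul_inv_cancel_left],
          ← rAct_mult ρ hρ, hsq, map_zero]
      | zero => simp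
      | add p q _ _ hp hq => rw [add_mul, hp, hq, add_zero]
      | smul r p _ hp => rw [smul_mul_assoc, hp, smul_zero]
    have h2 : ∀ q ∈ S, z * q = 0 := by
      intro q hq
      induction hq using Submodule.span_induction with
      | mem v hv => obtain ⟨g', rfl⟩ := hv; exact h1 z hz g'
      | zero => simp
      | add p q _ _ hp hq => rw [mul_add, hp, hq, add_zero]
      | smul r p _ hp => rw [mul_smul_comm, hp, smul_zero]
    exact h2 z hz

end Groth.Agent.AGF27
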